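import Mathlib

/-!
An operator commuting with an irreducible one and preserving a non-degenerate pairing.
-/

set_option autoImplicit false
set_option linter.style.haveILetI false

namespace Cfsg.Lib.SolvStruct.PQHeight

open Polynomial

/-- an operator preserving a pairing and commuting with an irreducible isometry has order dividing `s ^ m + 1` -/
theorem adjoint_pow {M : Type*} [CommGroup M] {s p m : ℕ} [Fact s.Prime] (hM : ∀ x : M, x ^ s = 1)
    {K : Type*} [Field K] (b : M → M → K) (hb0 : ∀ x y, b x y ≠ 0)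
    (hbl : ∀ x x' y, b (x * x') y = b x y * b x' y) (hbr : ∀ x y y', b x (y * y') = b x y * b x y')
    (hnd : ∀ y, (∀ x, b x y = 1) → y = 1) (f τ : MulAut M) (hf : ∀ x y, b (f x) (f y) = b x y)
    (hτ : ∀ x y, b (τ x) (τ y) = b x y) (hcomm : f * τ = τ * f) (hfp : f ^ p = 1) (hp : p ∣ s ^ m + 1)
    (hirr : ∀ D : Subgroup M, (∀ x ∈ D, f x ∈ D) → D = ⊥ ∨ D = ⊤) : τ ^ (s ^ m + 1) = 1 := by
  classical
  rcases subsingleton_or_nontrivial M with hsub | hnt
  · exact MulEquiv.ext fun x => Subsingleton.elim _ _
  have hm : ∀ x : Additive M, s • x = 0 := fun x => hM x.toMul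
  haveI : Module (ZMod s) (Additive M) := AddCommGroup.zmodModule hm
  haveI : NeZero s := ⟨(Fact.out : s.Prime).ne_zero⟩
  let toEnd : MulAut M → (Additive M →ₗ[ZMod s] Additive M) := fun e =>
    AddMonoidHom.toZModLinearMap s (MonoidHom.toAdditive e.toMonoidHom)
  have htoEnd : ∀ (e : MulAut M) (x : Additive M), toEnd e x = Additive.ofMul (e x.toMul) := fun e x => rfl
  have hpow : ∀ (e : MulAut M) (n : ℕ) (x : Additive M), (((toEnd e) : Module.End (ZMod s) (Additive M)) ^ n) x = Additive.ofMul ((e ^ n) x.toMul) := by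
    intro e n
    induction n with
    | zero => intro x; simp
    | succ n ih =>
      intro x
      rw [pow_succ', Module.End.mul_apply, ih, htoEnd, pow_succ', MulAut.mul_apply, toMul_ofMul]
  set F : Module.End (ZMod s) (Additive M) := toEnd f
  have hF1 : F ^ p = 1 := LinearMap.ext fun x => by rw [hpow, hfp]; rfl
  -- powers of a scalar
  let β : Additive M → Additive M → K := fun x y => b x.toMul y.toMul
  have hβl : ∀ x x' y, β (x + x') y = β x y * β x' y := fun x x' y => hbl _ _ _
  have hβr : ∀ x y y', β x (y + y') = β x y * β x y' := fun x y y' => hbr _ _ _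
  have hβl0 : ∀ y, β 0 y = 1 := fun y => by
    have h := hβl 0 0 y
    rw [add_zero] at h
    exact mul_left_cancel₀ (hb0 _ _) (by rw [mul_one]; exact h.symm)
  have hβr0 : ∀ x, β x 0 = 1 := fun x => by
    have h := hβr x 0 0
    rw [add_zero] at h
    exact mul_left_cancel₀ (hb0 _ _) (by rw [mul_one]; exact h.symm)
  have hsl : ∀ (c : ℕ) x y, β (c • x) y = β x y ^ c := by
    intro c x y
    induction c with
    | zero => rw [zero_smul, hβl0, pow_zero]
    | succ c ih => rw [succ_nsmul, hβl, ih, pow_succ]
  have hsr : ∀ (c : ℕ) x y, β x (c • y) = β x y ^ c := by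
    intro c x y
    induction c with
    | zero => rw [zero_smul, hβr0, pow_zero]
    | succ c ih => rw [succ_nsmul, hβr, ih, pow_succ]
  set H := F ^ (s ^ m) with hH
  have hFH : H * F = 1 := by
    obtain ⟨c, hc⟩ := hp
    rw [hH, ← pow_succ, hc, pow_mul, hF1, one_pow]
  have hFinv : ∀ x y, β (F x) y = β x (H y) := by
    intro x y
    have h1 : F (H y) = y := by
      rw [← Module.End.mul_apply, hH, ← pow_succ', pow_succ, ← hH, hFH]; rfl
    conv_lhs => rw [← h1]
    exact hf _ _
  have hFn : ∀ (n : ℕ) x y, β ((F ^ n) x) y = β x ((H ^ n) y) := by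
    intro n
    induction n with
    | zero => intro x y; rfl
    | succ n ih => intro x y; rw [pow_succ', Module.End.mul_apply, hFinv, ih, ← Module.End.mul_apply, ← pow_succ]
  have hadj : ∀ P : Polynomial (ZMod s), ∀ x y, β (aeval F P x) y = β x (aeval H P y) := by
    intro P
    induction P using Polynomial.induction_on' with
    | add P R hP hR =>
      intro x y
      rw [map_add, map_add, LinearMap.add_apply, LinearMap.add_apply, hβl, hβr, hP, hR]
    | monomial n c =>
      intro x y
      rw [aeval_monomial, aeval_monomial, ← Algebra.smul_def, ← Algebra.smul_def, LinearMap.smul_apply,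
        LinearMap.smul_apply, ← ZMod.natCast_zmod_val c, Nat.cast_smul_eq_nsmul, Nat.cast_smul_eq_nsmul, hsl, hsr, hFn]
  -- the operator is a polynomial in the irreducible one
  set T : Module.End (ZMod s) (Additive M) := toEnd τ
  have hTF : T * F = F * T := LinearMap.ext fun x => by
    simp only [Module.End.mul_apply, T, F, htoEnd, toMul_ofMul]
    exact congrArg Additive.ofMul (DFunLike.congr_fun hcomm x.toMul).symm
  obtain ⟨w, hw⟩ := exists_ne (0 : Additive M)
  let D : Subgroup M :=
    { carrier := {x | ∃ P : Polynomial (ZMod s), aeval F P w = Additive.ofMul x}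
      one_mem' := ⟨0, by simp⟩
      mul_mem' := fun {a c} ⟨P, hP⟩ ⟨R, hR⟩ => ⟨P + R, by rw [map_add, LinearMap.add_apply, hP, hR]; rfl⟩
      inv_mem' := fun {a} ⟨P, hP⟩ => ⟨-P, by rw [map_neg, LinearMap.neg_apply, hP]; rfl⟩ }
  have hDtop : D = ⊤ := by
    refine (hirr D fun x hx => ?_).resolve_left fun h => hw ?_
    · obtain ⟨P, hP⟩ := hx
      exact ⟨X * P, by rw [map_mul, aeval_X, Module.End.mul_apply, hP]; rfl⟩
    · have h1 : w.toMul ∈ D := ⟨1, by simp⟩
      rw [h, Subgroup.mem_bot] at h1
      exact h1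
  have hgen : ∀ x : Additive M, ∃ P : Polynomial (ZMod s), aeval F P w = x := fun x => by
    have h1 : x.toMul ∈ D := hDtop ▸ Subgroup.mem_top _
    exact h1
  obtain ⟨P, hP⟩ := hgen (T w)
  have hTc : ∀ R : Polynomial (ZMod s), T * aeval F R = aeval F R * T := by
    intro R
    induction R using Polynomial.induction_on' with
    | add P R hP hR => rw [map_add, mul_add, add_mul, hP, hR]
    | monomial n c =>
      rw [aeval_monomial, ← Algebra.smul_def, mul_smul_comm, smul_mul_assoc,
        (Commute.pow_right (hTF : Commute T F) n).eq]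
  have hT : T = aeval F P := by
    refine LinearMap.ext fun x => ?_
    obtain ⟨R, rfl⟩ := hgen x
    rw [← Module.End.mul_apply, hTc, Module.End.mul_apply, ← hP, ← Module.End.mul_apply, ← Module.End.mul_apply,
      ← map_mul, ← map_mul, mul_comm]
  -- the Frobenius
  have hexp : ∀ (k : ℕ) (R : Polynomial (ZMod s)), expand (ZMod s) (s ^ k) R = R ^ (s ^ k) := by
    intro k
    induction k with
    | zero => intro R; simp
    | succ k ih => intro R; rw [pow_succ, ← expand_expand, ZMod.expand_card, map_pow, ih, ← pow_mul]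
  have hTs : aeval H P = T ^ (s ^ m) := by
    rw [hT, ← map_pow, ← hexp, expand_aeval, hH]
  refine MulEquiv.ext fun y => ?_
  rw [MulAut.one_apply]
  refine eq_of_div_eq_one (hnd _ fun x => ?_)
  have h1 : b (τ x) (τ y) = β (Additive.ofMul x) ((T ^ (s ^ m + 1)) (Additive.ofMul y)) := by
    rw [pow_succ, Module.End.mul_apply, ← hTs, ← hadj, ← hT]
    rfl
  rw [hτ, hpow] at h1
  simp only [β, toMul_ofMul] at h1
  have h2 := hbr x ((τ ^ (s ^ m + 1)) y / y) y
  rw [div_mul_cancel, ← h1] at h2
  exact (mul_right_cancel₀ (hb0 x y) ((one_mul _).trans h2)).symm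

end Cfsg.Lib.SolvStruct.PQHeight
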