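import Mathlib
import Cfsg.Agent.HallHigman.Abelian
import Cfsg.Agent.HallHigman.CriticalCase

/-!
The endomorphism algebra of a representation of a group of class two, graded by the commutator pairing.
-/

set_option autoImplicit false
set_option linter.unusedSectionVars false
set_option linter.style.haveILetI false

namespace Cfsg.Lib.SolvStruct.PQHeight

open Subgroup Module Cfsg.Lib.HallHigman
open scoped Classical

universe u v w

variable {K : Type u} [Field K] [IsAlgClosed K] {V : Type v} [AddCommGroup V] [Module K V] [FiniteDimensional K V] {G : Type w} [Group G]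

/-- the simultaneous eigenspace of `Z` for the function `ν` -/
def comp (ρ : G →* Module.End K V) (Z : Subgroup G) (ν : G → K) : Submodule K V :=
  ⨅ z : Z, (ρ (z : G)).eigenspace (ν z)

theorem mem_comp {ρ : G →* Module.End K V} {Z : Subgroup G} {ν : G → K} {v : V} :
    v ∈ comp ρ Z ν ↔ ∀ z ∈ Z, ρ z v = ν z • v := by
  simp [comp, Submodule.mem_iInf]

theorem apply_inv_apply (ρ : G →* Module.End K V) (g : G) (v : V) : ρ g⁻¹ (ρ g v) = v := by
  rw [← Module.End.mul_apply, ← map_mul, inv_mul_cancel, map_one, Module.End.one_apply]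

theorem map_comp_mem {ρ : G →* Module.End K V} {Z : Subgroup G} {ν : G → K} {v : V} {g : G}
    (hg : ∀ z ∈ Z, g⁻¹ * z * g ∈ Z) (hv : v ∈ comp ρ Z ν) : ρ g v ∈ comp ρ Z (fun z => ν (g⁻¹ * z * g)) := by
  rw [mem_comp] at hv ⊢
  intro z hz
  rw [← Module.End.mul_apply, ← map_mul, show z * g = g * (g⁻¹ * z * g) by group, map_mul, Module.End.mul_apply,
    hv _ (hg z hz), map_smul]

/-- translates in different eigenspaces sum to a non-zero vector -/
theorem sum_translates_ne_zero {ι : Type*} [Fintype ι] [Nonempty ι] (ρ : G →* Module.End K V) {Z : Subgroup G}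
    {ν : G → K} {v : V} (hv : v ∈ comp ρ Z ν) (hv0 : v ≠ 0) (g : ι → G) (hg : ∀ i, ∀ z ∈ Z, (g i)⁻¹ * z * g i ∈ Z)
    (hinj : ∀ i j, (∀ z ∈ Z, ν ((g i)⁻¹ * z * g i) = ν ((g j)⁻¹ * z * g j)) → i = j) :
    ∑ i, ρ (g i) v ≠ 0 := by
  intro h
  have hli := sum_eq_zero_of_distinct (Q := Z) (ρ.comp Z.subtype) (fun i (z : Z) => ν ((g i)⁻¹ * z * g i))
    (fun i => ρ (g i) v) (fun i z => mem_comp.1 (map_comp_mem (hg i) hv) _ z.2)
    (fun i e => hv0 (by rw [← apply_inv_apply ρ (g i) v, e, map_zero]))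
    (fun i j e => hinj i j fun z hz => congrFun e ⟨z, hz⟩)
  have := Fintype.linearIndependent_iff.1 hli (fun _ => 1) (by simpa using h) (Classical.arbitrary ι)
  exact one_ne_zero this

/-- without non-zero fixed vectors an operator of prime order fixes every eigenvalue function of a group it
normalises -/
theorem fix_of_no_fixed [Finite G] (ρ : G →* Module.End K V) {Z : Subgroup G} {ν : G → K} {v : V}
    (hv : v ∈ comp ρ Z ν) (hv0 : v ≠ 0) {x : G} (hx : x ∈ normalizer (Z : Set G)) {π : ℕ} [Fact π.Prime]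
    (hxπ : x ^ π = 1) (hfix : ∀ w, ρ x w = w → w = 0) : ∀ z ∈ Z, ν (x⁻¹ * z * x) = ν z := by
  have hπ : π.Prime := Fact.out
  by_contra hmoved
  haveI : NeZero π := ⟨hπ.ne_zero⟩
  have hconj : ∀ i : ℕ, ∀ z ∈ Z, (x ^ i)⁻¹ * z * x ^ i ∈ Z := fun i z hz =>
    (Subgroup.mem_normalizer_iff''.1 (pow_mem hx i) z).1 hz
  have hne : ∑ i : Fin π, ρ (x ^ (i : ℕ)) v ≠ 0 := by
    refine sum_translates_ne_zero ρ hv hv0 _ (fun i => hconj i) fun i j hij => ?_
    by_contra hne
    -- a non-trivial power fixes the function, hence so does `x`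
    wlog hlt : (i : ℕ) < j generalizing i j
    · exact this j i (fun z hz => (hij z hz).symm) (Ne.symm hne)
        (lt_of_le_of_ne (not_lt.1 hlt) fun e => hne (Fin.ext e).symm)
    set d := (j : ℕ) - i with hd
    have hd0 : 0 < d ∧ d < π := ⟨Nat.sub_pos_of_lt hlt, by have := j.2; omega⟩
    have hfd : ∀ z ∈ Z, ν ((x ^ d)⁻¹ * z * x ^ d) = ν z := by
      intro z hz
      have hz' : x ^ (i : ℕ) * z * (x ^ (i : ℕ))⁻¹ ∈ Z := (Subgroup.mem_normalizer_iff.1 (pow_mem hx i) z).1 hz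
      have h := (hij _ hz').symm
      rw [show (x ^ (j : ℕ)) = x ^ (i : ℕ) * x ^ d by rw [← pow_add]; congr 1; omega] at h
      simpa [mul_assoc] using h
    have hall : ∀ m : ℕ, ∀ z ∈ Z, ν ((x ^ (d * m))⁻¹ * z * x ^ (d * m)) = ν z := by
      intro m
      induction m with
      | zero => intro z _; simp
      | succ m ih =>
        intro z hz
        rw [Nat.mul_succ, pow_add]
        have := hfd _ (hconj (d * m) z hz)
        rw [ih z hz] at this
        rw [← this]
        congr 1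
        group
    have hmod : ∀ m : ℕ, x ^ m = x ^ (m % π) := fun m => by
      conv_lhs => rw [← Nat.mod_add_div m π, pow_add, pow_mul, hxπ, one_pow, mul_one]
    obtain ⟨m, hm⟩ := Nat.exists_mul_mod_eq_one_of_coprime
      ((hπ.coprime_iff_not_dvd.2 fun hdd => absurd (Nat.le_of_dvd hd0.1 hdd) (not_le.2 hd0.2)).symm) hπ.one_lt
    apply hmoved
    intro z hz
    have := hall m z hz
    rwa [hmod (d * m), hm.2, pow_one] at this
  refine hne (hfix _ ?_)
  rw [map_sum]
  have h1 : ∀ i : ℕ, ρ x (ρ (x ^ i) v) = ρ (x ^ (i + 1)) v := fun i => by rw [pow_succ', map_mul]; rfl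
  simp only [h1]
  rw [Fin.sum_univ_eq_sum_range (fun i => ρ (x ^ (i + 1)) v) π, Fin.sum_univ_eq_sum_range (fun i => ρ (x ^ i) v) π]
  have h2 := Finset.sum_range_succ' (fun i => ρ (x ^ i) v) π
  rw [Finset.sum_range_succ, hxπ, pow_zero] at h2
  exact (add_right_cancel h2).symm

section Grading

variable [Nontrivial V] [Finite G] (ρ : G →* Module.End K V) (Q : Subgroup G) (B : G → G → K)

/-- the graded piece of the endomorphism algebra -/
def piece (u : G) : Submodule K (Module.End K V) := ⨅ y : Q, (adRep ρ (y : G)).eigenspace (B y u)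

/-- the projection on a graded piece -/
noncomputable def proj [Fintype Q] (u : G) : Module.End K (Module.End K V) :=
  ((Nat.card Q : ℕ) : K)⁻¹ • ∑ y : Q, (B y u)⁻¹ • adRep ρ (y : G)

/-- the data of the grading -/
structure Grading (Z₀ : Subgroup G) : Prop where
  le : Z₀ ≤ Q
  card_ne : ((Nat.card Q : ℕ) : K) ≠ 0
  pair : ∀ u ∈ Q, ∀ w ∈ Q, ρ u * ρ w = B u w • (ρ w * ρ u)
  rad : ∀ u ∈ Q, u ∈ Z₀ ↔ ∀ w ∈ Q, ρ u * ρ w = ρ w * ρ u
  scalar : ∀ z ∈ Z₀, ∃ c : K, ρ z = c • 1

variable {ρ Q B} {Z₀ : Subgroup G}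

theorem mem_piece {u : G} {g : Module.End K V} :
    g ∈ piece ρ Q B u ↔ ∀ y ∈ Q, adRep ρ y g = B y u • g := by
  simp [piece, Submodule.mem_iInf]


theorem prod_ne_zero (g h : G) : ρ g * ρ h ≠ (0 : Module.End K V) := by
  intro e
  rw [← map_mul] at e
  have := congrArg (ρ (g * h)⁻¹ * ·) e
  simp only [← map_mul, inv_mul_cancel, map_one, mul_zero] at this
  exact one_ne_zero this

theorem Grading.ne_zero (d : Grading ρ Q B Z₀) {u w : G} (hu : u ∈ Q) (hw : w ∈ Q) : B u w ≠ 0 := fun h =>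
  prod_ne_zero u w (by rw [d.pair u hu w hw, h, zero_smul])

theorem Grading.eq_of (d : Grading ρ Q B Z₀) {u w : G} (hu : u ∈ Q) (hw : w ∈ Q) {c : K}
    (h : ρ u * ρ w = c • (ρ w * ρ u)) : B u w = c :=
  smul_left_injective K (prod_ne_zero (ρ := ρ) w u) ((d.pair u hu w hw).symm.trans h)

theorem Grading.mul_left (d : Grading ρ Q B Z₀) {u u' w : G} (hu : u ∈ Q) (hu' : u' ∈ Q) (hw : w ∈ Q) :
    B (u * u') w = B u w * B u' w := by
  refine d.eq_of (Q.mul_mem hu hu') hw ?_
  rw [map_mul, mul_assoc, d.pair u' hu' w hw, mul_smul_comm, ← mul_assoc, d.pair u hu w hw, smul_mul_assoc,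
    smul_smul, mul_assoc, mul_comm (B u w)]

theorem Grading.mul_right (d : Grading ρ Q B Z₀) {u w w' : G} (hu : u ∈ Q) (hw : w ∈ Q) (hw' : w' ∈ Q) :
    B u (w * w') = B u w * B u w' := by
  refine d.eq_of hu (Q.mul_mem hw hw') ?_
  rw [map_mul, ← mul_assoc, d.pair u hu w hw, smul_mul_assoc, mul_assoc, d.pair u hu w' hw', mul_smul_comm,
    smul_smul, ← mul_assoc]

theorem Grading.one_iff (d : Grading ρ Q B Z₀) {u w : G} (hu : u ∈ Q) (hw : w ∈ Q) :
    B u w = 1 ↔ ρ u * ρ w = ρ w * ρ u :=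
  ⟨fun h => by rw [d.pair u hu w hw, h, one_smul], fun h => d.eq_of hu hw (by rw [one_smul]; exact h)⟩

theorem Grading.rad_right (d : Grading ρ Q B Z₀) {u : G} (hu : u ∈ Q) : u ∈ Z₀ ↔ ∀ y ∈ Q, B y u = 1 := by
  rw [d.rad u hu]
  exact forall₂_congr fun y hy => by rw [d.one_iff hy hu, eq_comm]

theorem Grading.rad_left (d : Grading ρ Q B Z₀) {u : G} (hu : u ∈ Q) : u ∈ Z₀ ↔ ∀ y ∈ Q, B u y = 1 := by
  rw [d.rad u hu]
  exact forall₂_congr fun y hy => (d.one_iff hu hy).symm

theorem Grading.congr_right (d : Grading ρ Q B Z₀) {u u' : G} (hu : u ∈ Q) (hu' : u' ∈ Q) :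
    (∀ y ∈ Q, B y u = B y u') ↔ u⁻¹ * u' ∈ Z₀ := by
  rw [d.rad_right (Q.mul_mem (Q.inv_mem hu) hu')]
  refine forall₂_congr fun y hy => ?_
  have h := d.mul_right hy hu (Q.mul_mem (Q.inv_mem hu) hu')
  rw [mul_inv_cancel_left] at h
  rw [h]
  exact ⟨fun e => mul_left_cancel₀ (d.ne_zero hy hu) ((mul_one _).trans e).symm, fun e => by rw [e, mul_one]⟩

theorem Grading.ad_mem (d : Grading ρ Q B Z₀) {u : G} (hu : u ∈ Q) {g : Module.End K V}
    (hg : g ∈ piece ρ Q B 1) : ρ u * g ∈ piece ρ Q B u := by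
  rw [mem_piece] at hg ⊢
  intro y hy
  have h1 : B y 1 = 1 := by
    have h := d.mul_right hy Q.one_mem Q.one_mem
    rw [one_mul] at h
    exact mul_left_cancel₀ (d.ne_zero hy Q.one_mem) (by rw [mul_one]; exact h.symm)
  have h2 := hg y hy
  rw [h1, one_smul, adRep_eq_iff] at h2
  rw [adRep_apply, ← mul_assoc, ← mul_assoc, d.pair y hy u hu, smul_mul_assoc, smul_mul_assoc, mul_assoc (ρ u), h2,
    ← mul_assoc, mul_assoc, ← map_mul, mul_inv_cancel, map_one, mul_one]

theorem Grading.proj_mem (d : Grading ρ Q B Z₀) [Fintype Q] {u : G} (hu : u ∈ Q) (g : Module.End K V) :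
    proj ρ Q B u g ∈ piece ρ Q B u := by
  rw [mem_piece]
  intro y hy
  simp only [proj, LinearMap.smul_apply, LinearMap.sum_apply, map_smul, map_sum]
  rw [smul_comm (B y u)]
  congr 1
  rw [Finset.smul_sum]
  refine Fintype.sum_equiv (Equiv.mulLeft (⟨y, hy⟩ : Q)) _ _ fun z => ?_
  rw [← Module.End.mul_apply, ← map_mul, smul_smul]
  show (B z u)⁻¹ • adRep ρ (y * z) g = (B y u * (B (y * z) u)⁻¹) • adRep ρ (y * z) g
  rw [d.mul_left hy z.2 hu, mul_inv_rev]
  congr 1
  field_simp [d.ne_zero hy hu]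

theorem Grading.proj_of_mem (d : Grading ρ Q B Z₀) [Fintype Q] {u u' : G} (hu : u ∈ Q) (hu' : u' ∈ Q)
    {g : Module.End K V} (hg : g ∈ piece ρ Q B u') :
    proj ρ Q B u g = if u⁻¹ * u' ∈ Z₀ then g else 0 := by
  rw [mem_piece] at hg
  have e : proj ρ Q B u g = (((Nat.card Q : ℕ) : K)⁻¹ * ∑ y : Q, (B y u)⁻¹ * B y u') • g := by
    simp only [proj, LinearMap.smul_apply, LinearMap.sum_apply]
    rw [← smul_smul, Finset.sum_smul]
    congr 1
    exact Finset.sum_congr rfl fun y _ => by rw [hg y y.2, smul_smul]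
  rw [e]
  split_ifs with h
  · rw [Finset.sum_congr rfl fun (y : Q) _ => by
      rw [(d.congr_right hu hu').2 h y y.2, inv_mul_cancel₀ (d.ne_zero y.2 hu')], Finset.sum_const,
      Finset.card_univ, nsmul_one, ← Nat.card_eq_fintype_card, inv_mul_cancel₀ d.card_ne, one_smul]
  · obtain ⟨w, hw, hne⟩ : ∃ w ∈ Q, B w u ≠ B w u' := by
      by_contra hc
      push Not at hc
      exact h ((d.congr_right hu hu').1 hc)
    have h0 : ∑ y : Q, (B y u)⁻¹ * B y u' = 0 := by
      have h1 : ((B w u)⁻¹ * B w u') * ∑ y : Q, (B y u)⁻¹ * B y u' = ∑ y : Q, (B y u)⁻¹ * B y u' := by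
        rw [Finset.mul_sum]
        refine Fintype.sum_equiv (Equiv.mulLeft (⟨w, hw⟩ : Q)) _ _ fun z => ?_
        show _ = (B (w * z) u)⁻¹ * B (w * z) u'
        rw [d.mul_left hw z.2 hu, d.mul_left hw z.2 hu', mul_inv_rev]
        ring
      by_contra hs
      exact hne (inv_mul_eq_one₀ (d.ne_zero hw hu) |>.1 (mul_right_cancel₀ hs (h1.trans (one_mul _).symm)))
    rw [h0, mul_zero, zero_smul]

theorem Grading.normal (d : Grading ρ Q B Z₀) : (Z₀.subgroupOf Q).Normal := by
  refine ⟨fun z hz y => ?_⟩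
  rw [Subgroup.mem_subgroupOf] at hz ⊢
  refine (d.rad_right (y * z * y⁻¹ : Q).2).2 fun w hw => ?_
  show B w ((y : G) * z * (y : G)⁻¹) = 1
  rw [d.mul_right hw (Q.mul_mem y.2 z.2) (Q.inv_mem y.2), d.mul_right hw y.2 z.2,
    (d.rad_right z.2).1 hz w hw, mul_one, ← d.mul_right hw y.2 (Q.inv_mem y.2), mul_inv_cancel]
  exact (d.rad_right Q.one_mem).1 Z₀.one_mem w hw

variable (Z₀) in
/-- the index set -/
abbrev Idx (Q : Subgroup G) : Type _ := Q ⧸ Z₀.subgroupOf Q

theorem Grading.mk_eq_iff (_d : Grading ρ Q B Z₀) (a b : Q) :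
    (QuotientGroup.mk a : Idx Z₀ Q) = QuotientGroup.mk b ↔ (a : G)⁻¹ * b ∈ Z₀ := by
  rw [QuotientGroup.eq, Subgroup.mem_subgroupOf]
  rfl

theorem Grading.sum_inv (d : Grading ρ Q B Z₀) [Fintype (Idx Z₀ Q)] {y : G} (hy : y ∈ Q) :
    ∑ t : Idx Z₀ Q, (B y (t.out : G))⁻¹ =
      if y ∈ Z₀ then ((Nat.card (Idx Z₀ Q) : ℕ) : K) else 0 := by
  haveI := d.normal
  split_ifs with h
  · rw [Finset.sum_congr rfl fun t _ => by rw [(d.rad_left hy).1 h _ t.out.2, inv_one], Finset.sum_const,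
      Finset.card_univ, nsmul_one, Nat.card_eq_fintype_card]
  · obtain ⟨w, hw, hne⟩ : ∃ w ∈ Q, B y w ≠ 1 := by
      by_contra hc
      push Not at hc
      exact h ((d.rad_left hy).2 hc)
    have h1 : (B y w)⁻¹ * ∑ t : Idx Z₀ Q, (B y (t.out : G))⁻¹ = ∑ t : Idx Z₀ Q, (B y (t.out : G))⁻¹ := by
      rw [Finset.mul_sum]
      refine Fintype.sum_equiv (Equiv.mulLeft (QuotientGroup.mk (⟨w, hw⟩ : Q) : Idx Z₀ Q)) _ _ fun t => ?_
      set t' := (QuotientGroup.mk (⟨w, hw⟩ : Q) : Idx Z₀ Q) * t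
      show _ = (B y (t'.out : G))⁻¹
      have h2 : (w * (t.out : G))⁻¹ * t'.out ∈ Z₀ := (d.mk_eq_iff (⟨w, hw⟩ * t.out) t'.out).1 (by
        rw [QuotientGroup.out_eq', QuotientGroup.mk_mul, QuotientGroup.out_eq'])
      rw [← (d.congr_right (Q.mul_mem hw t.out.2) t'.out.2).2 h2 y hy, d.mul_right hy hw t.out.2, mul_inv_rev,
        mul_comm]
    by_contra hs
    exact hne (inv_eq_one.1 (mul_right_cancel₀ hs (h1.trans (one_mul _).symm)))

theorem Grading.span (d : Grading ρ Q B Z₀) [Fintype Q] [Fintype (Idx Z₀ Q)] (g : Module.End K V) :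
    ∑ t : Idx Z₀ Q, proj ρ Q B (t.out : G) g = g := by
  have h1 : ∀ y : Q, ∑ t : Idx Z₀ Q, (B y (t.out : G))⁻¹ • adRep ρ (y : G) g =
      (if (y : G) ∈ Z₀ then ((Nat.card (Idx Z₀ Q) : ℕ) : K) else 0) • g := by
    intro y
    rw [← Finset.sum_smul, d.sum_inv y.2]
    split_ifs with h
    · obtain ⟨c, hc⟩ := d.scalar _ h
      rw [(adRep_eq_iff ρ (y : G) g).2 (by rw [hc, smul_mul_assoc, mul_smul_comm, one_mul, mul_one])]
    · rw [zero_smul, zero_smul]
  simp only [proj, LinearMap.smul_apply, LinearMap.sum_apply]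
  rw [← Finset.smul_sum, Finset.sum_comm, Finset.sum_congr rfl fun y _ => h1 y, ← Finset.sum_smul, smul_smul]
  have h2 : (∑ y : Q, if (y : G) ∈ Z₀ then ((Nat.card (Idx Z₀ Q) : ℕ) : K) else 0) = ((Nat.card Q : ℕ) : K) := by
    rw [← Finset.sum_filter, Finset.sum_const, nsmul_eq_mul, ← Nat.cast_mul]
    congr 1
    rw [← Subgroup.index_eq_card, show (Finset.univ.filter fun y : Q => (y : G) ∈ Z₀).card =
      Nat.card (Z₀.subgroupOf Q) by
        rw [Nat.card_eq_fintype_card, ← Fintype.card_subtype]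
        exact Fintype.card_congr (Equiv.subtypeEquivRight fun y => Subgroup.mem_subgroupOf.symm)]
    exact Subgroup.card_mul_index _
  rw [h2, inv_mul_cancel₀ d.card_ne, one_smul]

theorem Grading.exists_equiv (d : Grading ρ Q B Z₀) :
    Nonempty (Module.End K V ≃ₗ[K] ((t : Idx Z₀ Q) → piece ρ Q B (t.out : G))) := by
  haveI := Fintype.ofFinite Q
  haveI := Fintype.ofFinite (Idx Z₀ Q)
  haveI := d.normal
  refine ⟨LinearEquiv.ofLinear (LinearMap.pi fun t : Idx Z₀ Q => (proj ρ Q B (t.out : G)).codRestrict _ (d.proj_mem t.out.2))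
    (∑ t : Idx Z₀ Q, (piece ρ Q B (t.out : G)).subtype.comp (LinearMap.proj t)) ?_ ?_⟩
  · refine LinearMap.ext fun f => funext fun t => Subtype.ext ?_
    simp only [LinearMap.comp_apply, LinearMap.pi_apply, LinearMap.sum_apply, map_sum, LinearMap.id_apply]
    rw [Submodule.coe_sum, Finset.sum_eq_single t]
    · show proj ρ Q B (t.out : G) (f t : Module.End K V) = _
      rw [d.proj_of_mem t.out.2 t.out.2 (f t).2, if_pos (by rw [inv_mul_cancel]; exact Z₀.one_mem)]
    · intro u _ hu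
      show proj ρ Q B (t.out : G) (f u : Module.End K V) = 0
      rw [d.proj_of_mem t.out.2 u.out.2 (f u).2, if_neg]
      intro hz
      exact hu (by rw [← QuotientGroup.out_eq' u, ← QuotientGroup.out_eq' t, (d.mk_eq_iff t.out u.out).2 hz])
    · intro h; exact absurd (Finset.mem_univ t) h
  · refine LinearMap.ext fun g => ?_
    simp only [LinearMap.comp_apply, LinearMap.sum_apply, LinearMap.proj_apply, LinearMap.pi_apply,
      Submodule.coe_subtype, LinearMap.codRestrict_apply, LinearMap.id_apply]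
    exact d.span g

theorem Grading.finrank_piece (d : Grading ρ Q B Z₀) {u : G} (hu : u ∈ Q) :
    finrank K (piece ρ Q B u) = finrank K (piece ρ Q B 1) := by
  have hh : ∀ g : G, ∀ f : Module.End K V, ρ g⁻¹ * (ρ g * f) = f := fun g f => by
    rw [← mul_assoc, ← map_mul, inv_mul_cancel, map_one, one_mul]
  refine le_antisymm ?_ ?_
  · refine LinearMap.finrank_le_finrank_of_injective
      (f := ((LinearMap.mulLeft K (ρ u⁻¹)).comp (piece ρ Q B u).subtype).codRestrict (piece ρ Q B 1) fun g => ?_) ?_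
    · rw [mem_piece]
      intro y hy
      have hg := mem_piece.1 g.2 y hy
      have hB : B y 1 = 1 := (d.rad_right Q.one_mem).1 Z₀.one_mem y hy
      rw [hB, one_smul]
      show adRep ρ y (ρ u⁻¹ * (g : Module.End K V)) = ρ u⁻¹ * (g : Module.End K V)
      rw [adRep_apply] at hg ⊢
      rw [← mul_assoc, ← mul_assoc, d.pair y hy u⁻¹ (Q.inv_mem hu), smul_mul_assoc, smul_mul_assoc,
        mul_assoc, mul_assoc, hg, mul_smul_comm, smul_smul, ← d.mul_right hy (Q.inv_mem hu) hu, inv_mul_cancel, hB,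
        one_smul]
    · intro a b h
      have h' : ρ u⁻¹ * (a : Module.End K V) = ρ u⁻¹ * (b : Module.End K V) := congrArg Subtype.val h
      have := congrArg (ρ (u⁻¹)⁻¹ * ·) h'
      simp only [hh] at this
      exact Subtype.ext this
  · refine LinearMap.finrank_le_finrank_of_injective
      (f := ((LinearMap.mulLeft K (ρ u)).comp (piece ρ Q B 1).subtype).codRestrict (piece ρ Q B u)
        fun g => d.ad_mem hu g.2) fun a b h => ?_
    have h' : ρ u * (a : Module.End K V) = ρ u * (b : Module.End K V) := congrArg Subtype.val h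
    have := congrArg (ρ u⁻¹ * ·) h'
    simp only [hh] at this
    exact Subtype.ext this

theorem Grading.finrank_eq (d : Grading ρ Q B Z₀) :
    finrank K V * finrank K V = Nat.card (Idx Z₀ Q) * finrank K (piece ρ Q B 1) := by
  haveI := Fintype.ofFinite (Idx Z₀ Q)
  obtain ⟨e⟩ := d.exists_equiv
  rw [← Module.finrank_linearMap (R := K) (S := K) (M := V) (N := V)]
  change finrank K (Module.End K V) = _
  rw [e.finrank_eq, Module.finrank_pi_fintype, Finset.sum_congr rfl fun t _ => d.finrank_piece t.out.2,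
    Finset.sum_const, Finset.card_univ, smul_eq_mul, Nat.card_eq_fintype_card]

end Grading

end Cfsg.Lib.SolvStruct.PQHeight
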