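import Mathlib
import Cfsg.Agent.SolvStruct.PQHeight.Decomp

/-!
A fixed point free operator of prime order bounds the symplectic space of a group of class two.
-/

set_option autoImplicit false
set_option linter.unusedSectionVars false
set_option linter.style.haveILetI false

namespace Cfsg.Lib.SolvStruct.PQHeight

open Subgroup Module Cfsg.Lib.HallHigman
open scoped Classical

universe u v w

variable {K : Type u} [Field K] [IsAlgClosed K] {V : Type v} [AddCommGroup V] [Module K V] [FiniteDimensional K V]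
  {G : Type w} [Group G] [Finite G]

/-- the centraliser of an operator of prime order without fixed vectors -/
theorem sq_le_centralizer {π : ℕ} [Fact π.Prime] (hπK : (π : K) ≠ 0) (g : Module.End K V) (hg : g ^ π = 1)
    (hfix : ∀ v, g v = v → v = 0) :
    finrank K V * finrank K V ≤ (π - 1) * finrank K (endCentralizer g) := by
  have hπ : π.Prime := Fact.out
  have hsep : (Polynomial.X ^ π - 1 : Polynomial K).Separable := by
    rw [← Polynomial.C_1]; exact Polynomial.separable_X_pow_sub_C (1 : K) hπK one_ne_zero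
  have hss : g.IsSemisimple := Module.End.isSemisimple_of_squarefree_aeval_eq_zero hsep.squarefree (by simp [hg])
  have htop : (⨆ r : K, g.eigenspace r) = ⊤ := by
    rw [← Module.End.iSup_maxGenEigenspace_eq_top g]
    exact iSup_congr fun r => (Module.End.IsFinitelySemisimple.maxGenEigenspace_eq_eigenspace
      hss.isFinitelySemisimple r).symm
  set R := ((Polynomial.nthRootsFinset π (1 : K)).erase 1) with hR
  have hout : ∀ r, r ∉ R → g.eigenspace r = ⊥ := by
    intro r hr
    by_contra hne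
    obtain ⟨v, hv, hv0⟩ := Submodule.exists_mem_ne_zero_of_ne_bot hne
    have hvr := Module.End.mem_eigenspace_iff.1 hv
    have hr1 : r ≠ 1 := fun e => hv0 (hfix v (by rw [hvr, e, one_smul]))
    refine hr (Finset.mem_erase.2 ⟨hr1, (Polynomial.mem_nthRootsFinset hπ.pos (1 : K)).2 ?_⟩)
    have hev : g.HasEigenvector r v := ⟨hv, hv0⟩
    have h := hev.pow_apply π
    rw [hg, Module.End.one_apply] at h
    exact smul_left_injective K hv0 (h.symm.trans (one_smul K v).symm)
  have htopR : (⨆ r : R, g.eigenspace (r : K)) = ⊤ := by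
    rw [eq_top_iff, ← htop]
    refine iSup_le fun r => ?_
    by_cases hr : r ∈ R
    · exact le_iSup (fun r : R => g.eigenspace (r : K)) ⟨r, hr⟩
    · rw [hout r hr]; exact bot_le
  have hind : iSupIndep fun r : R => g.eigenspace (r : K) :=
    (Module.End.eigenspaces_iSupIndep g).comp Subtype.val_injective
  have hint : DirectSum.IsInternal fun r : R => g.eigenspace (r : K) :=
    DirectSum.isInternal_submodule_of_iSupIndep_of_iSup_eq_top hind htopR
  let e : V ≃ₗ[K] ((r : R) → g.eigenspace (r : K)) :=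
    (LinearEquiv.ofBijective (DirectSum.coeLinearMap fun r : R => g.eigenspace (r : K)) hint).symm.trans
      (DirectSum.linearEquivFunOnFintype K R fun r : R => g.eigenspace (r : K))
  have hesymm : ∀ f, e.symm f = ∑ r, (f r : V) := by
    intro f
    show DirectSum.coeLinearMap _ ((DirectSum.linearEquivFunOnFintype K R _).symm f) = _
    obtain ⟨d, rfl⟩ := (DirectSum.linearEquivFunOnFintype K R fun r : R => g.eigenspace (r : K)).surjective f
    rw [LinearEquiv.symm_apply_apply]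
    conv_lhs => rw [← DirectSum.sum_univ_of d]
    rw [map_sum]
    exact Finset.sum_congr rfl fun r _ => DirectSum.coeLinearMap_of _ _ _
  have hge : ∀ f, g (e.symm f) = e.symm (fun r : R => (r : K) • f r) := by
    intro f
    rw [hesymm, hesymm, map_sum]
    exact Finset.sum_congr rfl fun r _ => Module.End.mem_eigenspace_iff.1 (f r).2
  let Ψ : ((r : R) → Module.End K (g.eigenspace (r : K))) →ₗ[K] endCentralizer g :=
    { toFun := fun h => ⟨(e.symm.toLinearMap.comp (LinearMap.pi fun r => (h r).comp (LinearMap.proj r))).comp e.toLinearMap, by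
        rw [mem_endCentralizer]
        refine LinearMap.ext fun v => ?_
        have hv : e (g v) = fun r : R => (r : K) • e v r := by
          apply e.symm.injective
          rw [← hge, LinearEquiv.symm_apply_apply, LinearEquiv.symm_apply_apply]
        show g (e.symm fun r => h r (e v r)) = e.symm fun r => h r (e (g v) r)
        rw [hge, hv]
        exact congrArg e.symm (funext fun r => (map_smul (h r) _ _).symm)⟩
      map_add' := fun a b => Subtype.ext (LinearMap.ext fun v => by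
        show e.symm (fun r => (a + b) r (e v r)) = e.symm (fun r => a r (e v r)) + e.symm (fun r => b r (e v r))
        rw [← map_add]; rfl)
      map_smul' := fun c a => Subtype.ext (LinearMap.ext fun v => by
        show e.symm (fun r => (c • a) r (e v r)) = c • e.symm (fun r => a r (e v r))
        rw [← map_smul]; rfl) }
  have hΨ : Function.Injective Ψ := by
    intro a b h
    refine funext fun r => LinearMap.ext fun x => ?_
    have h1 := congrArg e (LinearMap.congr_fun (congrArg Subtype.val h) (e.symm (Pi.single r x)))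
    change e (e.symm fun r' => a r' (e (e.symm (Pi.single r x)) r')) =
      e (e.symm fun r' => b r' (e (e.symm (Pi.single r x)) r')) at h1
    simp only [LinearEquiv.apply_symm_apply] at h1
    simpa using congrFun h1 r
  have h1 := LinearMap.finrank_le_finrank_of_injective hΨ
  rw [Module.finrank_pi_fintype] at h1
  simp only [Module.finrank_linearMap] at h1
  have h2 : finrank K V = ∑ r : R, finrank K (g.eigenspace (r : K)) := by
    rw [e.finrank_eq, Module.finrank_pi_fintype]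
  have h3 : Fintype.card R ≤ π - 1 := by
    rw [Fintype.card_coe, hR, Finset.card_erase_of_mem ((Polynomial.mem_nthRootsFinset hπ.pos (1 : K)).2 (one_pow π))]
    refine Nat.sub_le_sub_right ?_ 1
    rw [Polynomial.nthRootsFinset_def]
    exact (Multiset.toFinset_card_le _).trans (Polynomial.card_nthRoots π 1)
  calc finrank K V * finrank K V = (∑ r : R, finrank K (g.eigenspace (r : K))) ^ 2 := by rw [h2, pow_two]
    _ ≤ Finset.univ.card * ∑ r : R, finrank K (g.eigenspace (r : K)) ^ 2 := sq_sum_le_card_mul_sum_sq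
    _ ≤ (π - 1) * finrank K (endCentralizer g) := by
      refine Nat.mul_le_mul h3 (le_trans (le_of_eq ?_) h1)
      exact Finset.sum_congr rfl fun r _ => pow_two _

/-- the count inside a graded endomorphism algebra -/
theorem Grading.bound [Nontrivial V] {ρ : G →* Module.End K V} {Q Z₀ Fx : Subgroup G} {B : G → G → K}
    (d : Grading ρ Q B Z₀) {x : G} {π : ℕ} [Fact π.Prime] (hπK : (π : K) ≠ 0) (hx : x ∈ normalizer (Q : Set G))
    (hxπ : x ^ π = 1) (hxZ : ∀ z ∈ Z₀, x * z * x⁻¹ ∈ Z₀) (hfix : ∀ v, ρ x v = v → v = 0)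
    (hFx : ∀ u, u ∈ Fx ↔ u ∈ Q ∧ u⁻¹ * (x * u * x⁻¹) ∈ Z₀) :
    Z₀.relIndex Q ≤ (π - 1) ^ 2 * Z₀.relIndex Fx := by
  have hπ : π.Prime := Fact.out
  haveI := d.normal
  haveI := Fintype.ofFinite Q
  haveI := Fintype.ofFinite (Idx Z₀ Q)
  -- the permutation of the index set
  have hmap : (Z₀.subgroupOf Q).map (Q.normalizerMonoidHom ⟨x, hx⟩).toMonoidHom = Z₀.subgroupOf Q := by
    refine Subgroup.eq_of_le_of_card_ge ?_ (Nat.card_congr (Subgroup.equivMapOfInjective _ _
      (Q.normalizerMonoidHom ⟨x, hx⟩).injective).toEquiv).le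
    rintro _ ⟨z, hz, rfl⟩
    exact Subgroup.mem_subgroupOf.2 (hxZ _ (Subgroup.mem_subgroupOf.1 hz))
  let τ : Equiv.Perm (Idx Z₀ Q) :=
    (QuotientGroup.congr (Z₀.subgroupOf Q) (Z₀.subgroupOf Q) (Q.normalizerMonoidHom ⟨x, hx⟩) hmap).toEquiv
  have hτ : ∀ u : Q, τ (QuotientGroup.mk u) =
      QuotientGroup.mk (⟨x * u * x⁻¹, (Subgroup.mem_normalizer_iff.1 hx u).1 u.2⟩ : Q) := fun u => rfl
  have hτpow : ∀ (i : ℕ) (u : Q), (τ ^ i) (QuotientGroup.mk u) = QuotientGroup.mk
      (⟨x ^ i * u * (x ^ i)⁻¹, (Subgroup.mem_normalizer_iff.1 (pow_mem hx i) u).1 u.2⟩ : Q) := by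
    intro i
    induction i with
    | zero => intro u; simp
    | succ i ih =>
      intro u
      rw [pow_succ', Equiv.Perm.mul_apply, ih, hτ]
      congr 1
      refine Subtype.ext ?_
      show x * (x ^ i * u * (x ^ i)⁻¹) * x⁻¹ = x ^ (i + 1) * u * (x ^ (i + 1))⁻¹
      rw [pow_succ']; group
  have hτπ : τ ^ π = 1 := by
    refine Equiv.ext fun t => ?_
    obtain ⟨u, rfl⟩ := QuotientGroup.mk_surjective t
    rw [hτpow]
    simp [hxπ]
  -- fixed cosets
  have hFQ : Fx ≤ Q := fun u hu => ((hFx u).1 hu).1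
  have hN : Nat.card {t : Idx Z₀ Q // τ t = t} = Z₀.relIndex Fx := by
    rw [Subgroup.relIndex, Subgroup.index_eq_card]
    have hfx : ∀ u : Q, τ (QuotientGroup.mk u) = QuotientGroup.mk u ↔ (u : G) ∈ Fx := by
      intro u
      rw [hτ, hFx, eq_comm, d.mk_eq_iff]
      exact (and_iff_right u.2).symm
    let F : Fx ⧸ Z₀.subgroupOf Fx → {t : Idx Z₀ Q // τ t = t} :=
      Quotient.lift (fun u : Fx => ⟨QuotientGroup.mk (Subgroup.inclusion hFQ u), (hfx _).2 u.2⟩)
        fun a b h => Subtype.ext ((d.mk_eq_iff _ _).2 (Subgroup.mem_subgroupOf.1 (QuotientGroup.leftRel_apply.1 h)))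
    refine (Nat.card_eq_of_bijective F ⟨?_, ?_⟩).symm
    · intro a b h
      obtain ⟨a, rfl⟩ := QuotientGroup.mk_surjective a
      obtain ⟨b, rfl⟩ := QuotientGroup.mk_surjective b
      exact QuotientGroup.eq.2 (Subgroup.mem_subgroupOf.2 ((d.mk_eq_iff _ _).1 (congrArg Subtype.val h)))
    · rintro ⟨t, ht⟩
      obtain ⟨u, rfl⟩ := QuotientGroup.mk_surjective t
      exact ⟨QuotientGroup.mk ⟨u, (hfx u).1 ht⟩, rfl⟩
  have hW : Z₀.relIndex Q = Nat.card (Idx Z₀ Q) := rfl
  by_cases hτ1 : τ = 1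
  · rw [← hN, hW, Nat.card_congr (Equiv.subtypeUnivEquiv fun t => by rw [hτ1]; rfl)]
    exact Nat.le_mul_of_pos_left _ (pow_pos (Nat.sub_pos_of_lt hπ.one_lt) 2)
  have hord : orderOf τ = π := orderOf_eq_prime hτπ hτ1
  -- orbits
  set P := zpowers τ with hP
  haveI := Fintype.ofFinite P
  haveI : Fintype (MulAction.orbitRel.Quotient P (Idx Z₀ Q)) := Fintype.ofFinite _
  have horb : Fintype.card (MulAction.orbitRel.Quotient P (Idx Z₀ Q)) * π =
      Nat.card (Idx Z₀ Q) + (π - 1) * Z₀.relIndex Fx := by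
    have h := MulAction.sum_card_fixedBy_eq_card_orbits_mul_card_group P (Idx Z₀ Q)
    have hcard : Fintype.card P = π := by rw [← Nat.card_eq_fintype_card, hP, Nat.card_zpowers, hord]
    rw [hcard, ← Finset.add_sum_erase _ _ (Finset.mem_univ (1 : P))] at h
    refine h.symm.trans ?_
    congr 1
    · rw [← Nat.card_eq_fintype_card]
      exact Nat.card_congr (Equiv.subtypeUnivEquiv fun t => one_smul _ t)
    · rw [Finset.sum_congr rfl (g := fun _ => Z₀.relIndex Fx) fun σ hσ => ?_, Finset.sum_const,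
        Finset.card_erase_of_mem (Finset.mem_univ _), Finset.card_univ, hcard, smul_eq_mul]
      rw [← hN, ← Nat.card_eq_fintype_card]
      have hσ1 := Finset.ne_of_mem_erase hσ
      refine Nat.card_congr (Equiv.subtypeEquivRight fun t => ?_)
      show (σ : Equiv.Perm (Idx Z₀ Q)) t = t ↔ τ t = t
      constructor
      · intro ht
        obtain ⟨m, hm⟩ := Subgroup.mem_zpowers_iff.1 (mem_zpowers_of_prime_card (p := π) (G := P)
          (by rw [Nat.card_eq_fintype_card, hcard]) (g' := ⟨τ, mem_zpowers τ⟩) hσ1)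
        have hs : (σ : Equiv.Perm (Idx Z₀ Q)) ∈ MulAction.stabilizer (Equiv.Perm (Idx Z₀ Q)) t := ht
        have h1 := Subgroup.zpow_mem _ hs m
        have e : (σ : Equiv.Perm (Idx Z₀ Q)) ^ m = τ := by simpa using congrArg Subtype.val hm
        rw [e] at h1
        exact h1
      · intro ht
        obtain ⟨m, hm⟩ := Subgroup.mem_zpowers_iff.1 σ.2
        have hs : τ ∈ MulAction.stabilizer (Equiv.Perm (Idx Z₀ Q)) t := ht
        rw [← hm]
        exact Subgroup.zpow_mem _ hs m
  -- the operator on the pieces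
  have hBc : ∀ y ∈ Q, ∀ u ∈ Q, B (x * y * x⁻¹) (x * u * x⁻¹) = B y u := by
    intro y hy u hu
    refine d.eq_of ((Subgroup.mem_normalizer_iff.1 hx y).1 hy) ((Subgroup.mem_normalizer_iff.1 hx u).1 hu) ?_
    have hconj : ∀ a b : G, ρ (x * a * x⁻¹) * ρ (x * b * x⁻¹) = ρ x * (ρ a * ρ b) * ρ x⁻¹ := fun a b => by
      simp only [← map_mul]; congr 1; group
    rw [hconj, hconj, d.pair y hy u hu, mul_smul_comm, smul_mul_assoc]
  have hθmem : ∀ u ∈ Q, ∀ f ∈ piece ρ Q B u, adRep ρ x f ∈ piece ρ Q B (x * u * x⁻¹) := by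
    intro u hu f hf
    rw [mem_piece] at hf ⊢
    intro y hy
    have hy' : x⁻¹ * y * x ∈ Q := (Subgroup.mem_normalizer_iff''.1 hx y).1 hy
    rw [← Module.End.mul_apply, ← map_mul, show y * x = x * (x⁻¹ * y * x) by group, map_mul, Module.End.mul_apply,
      hf _ hy', map_smul, ← hBc _ hy' u hu, show x * (x⁻¹ * y * x) * x⁻¹ = y by group]
  set Fix := endCentralizer (ρ x) with hFix
  have hθproj : ∀ f ∈ Fix, ∀ u : Q, proj ρ Q B (x * u * x⁻¹) f = adRep ρ x (proj ρ Q B (u : G) f) := by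
    intro f hf u
    have hθf : adRep ρ x f = f := (adRep_eq_iff ρ x f).2 (mem_endCentralizer.1 hf)
    have hu' : x * (u : G) * x⁻¹ ∈ Q := (Subgroup.mem_normalizer_iff.1 hx u).1 u.2
    conv_lhs => rw [← hθf, ← d.span f]
    rw [map_sum, map_sum]
    rw [Finset.sum_eq_single (QuotientGroup.mk u : Idx Z₀ Q)]
    · set t := (QuotientGroup.mk u : Idx Z₀ Q)
      have hut : (u : G)⁻¹ * t.out ∈ Z₀ := (d.mk_eq_iff u t.out).1 (QuotientGroup.out_eq' t).symm
      rw [d.proj_of_mem hu' ((Subgroup.mem_normalizer_iff.1 hx (t.out : G)).1 t.out.2)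
        (hθmem _ t.out.2 _ (d.proj_mem t.out.2 f)), if_pos]
      · congr 1
        have hB : ∀ y : Q, B y (u : G) = B y (t.out : G) := fun y => (d.congr_right u.2 t.out.2).2 hut y y.2
        simp only [proj, hB]
      · have := hxZ _ hut
        have e : (x * (u : G) * x⁻¹)⁻¹ * (x * (t.out : G) * x⁻¹) = x * ((u : G)⁻¹ * t.out) * x⁻¹ := by group
        rwa [e]
    · intro t _ ht
      rw [d.proj_of_mem hu' ((Subgroup.mem_normalizer_iff.1 hx (t.out : G)).1 t.out.2)
        (hθmem _ t.out.2 _ (d.proj_mem t.out.2 f)), if_neg]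
      intro hz
      have e : (QuotientGroup.mk u : Idx Z₀ Q) = QuotientGroup.mk t.out := τ.injective (by
        rw [hτ, hτ]
        exact (d.mk_eq_iff _ _).2 hz)
      exact ht (by rw [e, QuotientGroup.out_eq'])
    · intro h; exact absurd (Finset.mem_univ _) h
  let Ψ : Fix →ₗ[K] ((o : MulAction.orbitRel.Quotient P (Idx Z₀ Q)) → piece ρ Q B ((o.out : Idx Z₀ Q).out : G)) :=
    LinearMap.pi fun o => ((proj ρ Q B ((o.out : Idx Z₀ Q).out : G)).comp Fix.subtype).codRestrict _
      fun f => d.proj_mem (o.out : Idx Z₀ Q).out.2 (f : Module.End K V)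
  have hΨ : Function.Injective Ψ := by
    rw [injective_iff_map_eq_zero]
    intro f hf
    refine Subtype.ext ?_
    rw [← d.span (f : Module.End K V)]
    refine Finset.sum_eq_zero fun t _ => ?_
    set o : MulAction.orbitRel.Quotient P (Idx Z₀ Q) := Quotient.mk'' t
    have h0 : proj ρ Q B ((o.out : Idx Z₀ Q).out : G) (f : Module.End K V) = 0 :=
      congrArg Subtype.val (congrFun hf o)
    obtain ⟨⟨σ, hσ⟩, hσt⟩ : t ∈ MulAction.orbit P (o.out : Idx Z₀ Q) :=
      MulAction.orbitRel_apply.1 (Setoid.symm' (MulAction.orbitRel P (Idx Z₀ Q)) (Quotient.mk_out (s := MulAction.orbitRel P (Idx Z₀ Q)) t))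
    obtain ⟨i, rfl⟩ := (isOfFinOrder_of_finite τ).mem_powers_iff_mem_zpowers.2 hσ
    have hstep : ∀ (i : ℕ) (u : Q), proj ρ Q B (u : G) (f : Module.End K V) = 0 →
        proj ρ Q B (x ^ i * u * (x ^ i)⁻¹) (f : Module.End K V) = 0 := by
      intro i
      induction i with
      | zero => intro u hu; simpa using hu
      | succ i ih =>
        intro u hu
        have h2 := hθproj _ f.2 ⟨_, (Subgroup.mem_normalizer_iff.1 (pow_mem hx i) u).1 u.2⟩
        rw [ih u hu, map_zero] at h2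
        rw [← h2]
        congr 2
        rw [pow_succ']; group
    have h3 := hstep i (o.out : Idx Z₀ Q).out h0
    have hu' := (Subgroup.mem_normalizer_iff.1 (pow_mem hx i) ((o.out : Idx Z₀ Q).out : G)).1 (o.out : Idx Z₀ Q).out.2
    have e : (QuotientGroup.mk (⟨_, hu'⟩ : Q) : Idx Z₀ Q) = QuotientGroup.mk t.out := by
      rw [← hτpow, QuotientGroup.out_eq', QuotientGroup.out_eq']
      exact hσt
    have hB : ∀ y : Q, B y (t.out : G) = B y (x ^ i * ((o.out : Idx Z₀ Q).out : G) * (x ^ i)⁻¹) := fun y =>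
      ((d.congr_right hu' t.out.2).2 ((d.mk_eq_iff _ _).1 e) y y.2).symm
    simp only [proj, hB] at h3 ⊢
    exact h3
  have h1 := LinearMap.finrank_le_finrank_of_injective hΨ
  rw [Module.finrank_pi_fintype, Finset.sum_congr rfl fun (o : MulAction.orbitRel.Quotient P (Idx Z₀ Q)) _ =>
    d.finrank_piece (o.out : Idx Z₀ Q).out.2, Finset.sum_const, Finset.card_univ, smul_eq_mul] at h1
  have h2 := sq_le_centralizer hπK (ρ x) (by rw [← map_pow, hxπ, map_one]) hfix
  have h4 := d.finrank_eq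
  set X := finrank K (piece ρ Q B 1)
  set o := Fintype.card (MulAction.orbitRel.Quotient P (Idx Z₀ Q))
  set W := Nat.card (Idx Z₀ Q)
  set N := Z₀.relIndex Fx
  rw [hW]
  have hXpos : 0 < X := by
    refine Nat.pos_of_ne_zero fun h => ?_
    rw [h, mul_zero] at h4
    have := Module.finrank_pos (R := K) (M := V)
    nlinarith
  have h5 : π * W ≤ (π - 1) * (W + (π - 1) * N) := by
    rw [← horb]
    refine Nat.le_of_mul_le_mul_right ?_ hXpos
    calc π * W * X = π * (finrank K V * finrank K V) := by rw [h4, mul_assoc]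
      _ ≤ π * ((π - 1) * (o * X)) := Nat.mul_le_mul_left _ (h2.trans (Nat.mul_le_mul_left _ h1))
      _ = (π - 1) * (o * π) * X := by ring
  obtain ⟨k, hk⟩ : ∃ k, π = k + 1 := ⟨π - 1, by have := hπ.one_lt; omega⟩
  rw [hk, Nat.add_sub_cancel] at h5 ⊢
  nlinarith

/-- the stabiliser of a subspace -/
def stab (ρ : G →* Module.End K V) (U : Submodule K V) : Subgroup G where
  carrier := {g | ∀ v, ρ g v ∈ U ↔ v ∈ U}
  one_mem' v := by simp
  mul_mem' {a b} ha hb v := by rw [map_mul, Module.End.mul_apply, ha, hb]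
  inv_mem' {a} ha v := by
    rw [← ha (ρ a⁻¹ v), ← Module.End.mul_apply, ← map_mul, mul_inv_cancel, map_one, Module.End.one_apply]

theorem mem_stab {ρ : G →* Module.End K V} {U : Submodule K V} {g : G} (h : ∀ v ∈ U, ρ g v ∈ U) : g ∈ stab ρ U := by
  refine fun v => ⟨fun hv => ?_, h v⟩
  have hpow : ∀ i : ℕ, ∀ w ∈ U, ρ (g ^ i) w ∈ U := by
    intro i
    induction i with
    | zero => intro w hw; simpa using hw
    | succ i ih => intro w hw; rw [pow_succ', map_mul]; exact h _ (ih w hw)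
  obtain ⟨i, hi⟩ : ∃ i : ℕ, g ^ i = g⁻¹ :=
    (isOfFinOrder_of_finite g).mem_powers_iff_mem_zpowers.2 (Subgroup.inv_mem _ (mem_zpowers g))
  have := hpow i _ hv
  rwa [hi, apply_inv_apply] at this

/-- the representation on an invariant subspace -/
def restrictStab (ρ : G →* Module.End K V) (U : Submodule K V) : stab ρ U →* Module.End K U where
  toFun g := (ρ (g : G)).restrict fun v hv => (g.2 v).2 hv
  map_one' := LinearMap.ext fun v => Subtype.ext (by simp)
  map_mul' a b := LinearMap.ext fun v => Subtype.ext (by simp)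

/-- a grading passes to an invariant subspace on which the radical acts by scalars -/
theorem grading_restrict (ρ : G →* Module.End K V) {Q Z₀ : Subgroup G} (hle : Z₀ ≤ Q)
    (hQK : ((Nat.card Q : ℕ) : K) ≠ 0)
    (B : G → G → K) (hB : ∀ u ∈ Q, ∀ w ∈ Q, ρ u * ρ w = B u w • (ρ w * ρ u))
    (hrad : ∀ u ∈ Q, u ∈ Z₀ ↔ ∀ w ∈ Q, ρ u * ρ w = ρ w * ρ u)
    {U : Submodule K V} (hU : U ≠ ⊥) (hQU : Q ≤ stab ρ U) (ν : G → K) (hν : ∀ z ∈ Z₀, ∀ v ∈ U, ρ z v = ν z • v) :
    Grading (restrictStab ρ U) (Q.subgroupOf (stab ρ U)) (fun a b => B a b) (Z₀.subgroupOf (stab ρ U)) := by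
  refine ⟨fun z hz => hle hz, ?_, ?_, ?_, ?_⟩
  · rwa [Nat.card_congr (Subgroup.subgroupOfEquivOfLe hQU).toEquiv]
  · intro u hu w hw
    refine LinearMap.ext fun v => Subtype.ext ?_
    exact LinearMap.congr_fun (hB u hu w hw) (v : V)
  · intro u hu
    rw [Subgroup.mem_subgroupOf, hrad (u : G) hu]
    constructor
    · intro h w hw
      refine LinearMap.ext fun v => Subtype.ext ?_
      exact LinearMap.congr_fun (h w hw) (v : V)
    · intro h w hw
      obtain ⟨v, hvU, hv⟩ := Submodule.exists_mem_ne_zero_of_ne_bot hU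
      have hw' : w ∈ stab ρ U := hQU hw
      have h1 := congrArg Subtype.val (LinearMap.congr_fun (h ⟨w, hw'⟩ hw) ⟨v, hvU⟩)
      change ρ (u : G) (ρ w v) = ρ w (ρ (u : G) v) at h1
      have h2 := LinearMap.congr_fun (hB (u : G) hu w hw) v
      rw [Module.End.mul_apply, LinearMap.smul_apply, Module.End.mul_apply, h1] at h2
      have hne : ρ w (ρ (u : G) v) ≠ 0 := fun e => hv (by
        rw [← apply_inv_apply ρ (u : G) v, ← apply_inv_apply ρ w (ρ (u : G) v), e, map_zero, map_zero])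
      have hc : B (u : G) w = 1 := smul_left_injective K hne (h2.symm.trans (one_smul K _).symm)
      rw [hB (u : G) hu w hw, hc, one_smul]
  · intro z hz
    exact ⟨ν z, LinearMap.ext fun v => Subtype.ext (hν _ hz _ v.2)⟩

/-- a common eigenvector of commuting operators -/
theorem exists_eigen_of_commute (ρ : G →* Module.End K V) (Z : Subgroup G)
    (hcomm : ∀ a ∈ Z, ∀ b ∈ Z, ρ a * ρ b = ρ b * ρ a) :
    ∀ (d : ℕ) (S : Submodule K V), finrank K S ≤ d → S ≠ ⊥ → (∀ a ∈ Z, ∀ w ∈ S, ρ a w ∈ S) →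
    ∃ v ∈ S, v ≠ 0 ∧ ∀ a ∈ Z, ∃ c : K, ρ a v = c • v := by
  intro d
  induction d with
  | zero => exact fun S hd hS _ => absurd (Submodule.finrank_eq_zero.1 (Nat.le_zero.1 hd)) hS
  | succ d ih =>
    intro S hd hS hinv
    by_cases hall : ∀ a ∈ Z, ∃ c : K, ∀ w ∈ S, ρ a w = c • w
    · obtain ⟨v, hv, hv0⟩ := Submodule.exists_mem_ne_zero_of_ne_bot hS
      exact ⟨v, hv, hv0, fun a ha => (hall a ha).imp fun c hc => hc v hv⟩
    push Not at hall
    obtain ⟨a, haZ, ha⟩ := hall
    haveI : Nontrivial S := Submodule.nontrivial_iff_ne_bot.2 hS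
    obtain ⟨c, hc⟩ := Module.End.exists_eigenvalue ((ρ a).restrict (hinv a haZ))
    obtain ⟨⟨u, hu⟩, hu'⟩ := hc.exists_hasEigenvector
    set S' := S ⊓ (ρ a).eigenspace c
    have huS' : u ∈ S' := ⟨hu, Module.End.mem_eigenspace_iff.2 (congrArg Subtype.val hu'.apply_eq_smul)⟩
    obtain ⟨w, hw, hwne⟩ := ha c
    have hlt : S' < S := lt_of_le_of_ne inf_le_left fun e => hwne (Module.End.mem_eigenspace_iff.1 ((e.ge hw).2))
    have h1 := Submodule.finrank_lt_finrank_of_lt hlt
    obtain ⟨v, hv, hrest⟩ := ih S' (by omega)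
      (fun e => hu'.2 (Subtype.ext ((Submodule.eq_bot_iff _).1 e u huS')))
      fun b hb x hx => ⟨hinv b hb x hx.1, Module.End.mem_eigenspace_iff.2 (by
        rw [← Module.End.mul_apply, hcomm a haZ b hb, Module.End.mul_apply,
          Module.End.mem_eigenspace_iff.1 hx.2, map_smul])⟩
    exact ⟨v, hv.1, hrest⟩

/-- **the bound**: an operator of prime order without fixed vectors on a group of class two -/
theorem fpf_symplectic [Nontrivial V] (ρ : G →* Module.End K V) {Q Z₀ Fx : Subgroup G} (hle : Z₀ ≤ Q)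
    (hQK : ((Nat.card Q : ℕ) : K) ≠ 0)
    (hcom : ∀ u ∈ Q, ∀ w ∈ Q, ∃ c : K, ρ u * ρ w = c • (ρ w * ρ u))
    (hrad : ∀ u ∈ Q, u ∈ Z₀ ↔ ∀ w ∈ Q, ρ u * ρ w = ρ w * ρ u)
    {x : G} {π : ℕ} [Fact π.Prime] (hπK : (π : K) ≠ 0) (hx : x ∈ normalizer (Q : Set G))
    (hxπ : x ^ π = 1) (hfix : ∀ v, ρ x v = v → v = 0)
    (hFx : ∀ u, u ∈ Fx ↔ u ∈ Q ∧ u⁻¹ * (x * u * x⁻¹) ∈ Z₀) :
    IsSquare (Z₀.relIndex Q) ∧ Z₀.relIndex Q ≤ (π - 1) ^ 2 * Z₀.relIndex Fx := by
  let B : G → G → K := fun u w => if h : u ∈ Q ∧ w ∈ Q then (hcom u h.1 w h.2).choose else 1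
  have hB : ∀ u ∈ Q, ∀ w ∈ Q, ρ u * ρ w = B u w • (ρ w * ρ u) := fun u hu w hw => by
    simp only [B, dif_pos (And.intro hu hw)]
    exact (hcom u hu w hw).choose_spec
  have hconj : ∀ a b : G, ρ (x * a * x⁻¹) * ρ (x * b * x⁻¹) = ρ x * (ρ a * ρ b) * ρ x⁻¹ := fun a b => by
    simp only [← map_mul]; congr 1; group
  have hxZ : ∀ z ∈ Z₀, x * z * x⁻¹ ∈ Z₀ := by
    intro z hz
    refine (hrad _ ((Subgroup.mem_normalizer_iff.1 hx z).1 (hle hz))).2 fun w hw => ?_
    have hw' : x⁻¹ * w * x ∈ Q := (Subgroup.mem_normalizer_iff''.1 hx w).1 hw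
    have e : w = x * (x⁻¹ * w * x) * x⁻¹ := by group
    rw [e, hconj, hconj, (hrad z (hle hz)).1 hz _ hw']
  -- a common eigenvector of the radical
  obtain ⟨v, -, hv0, hv'⟩ := exists_eigen_of_commute ρ Z₀ (fun a ha b hb => (hrad a (hle ha)).1 ha b (hle hb))
    (finrank K V) ⊤ (by rw [finrank_top]) top_ne_bot fun _ _ _ _ => trivial
  let ν : G → K := fun z => if h : z ∈ Z₀ then (hv' z h).choose else 0
  have hvc : v ∈ comp ρ Z₀ ν := mem_comp.2 fun z hz => by
    simp only [ν, dif_pos hz]; exact (hv' z hz).choose_spec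
  have hxN : x ∈ normalizer (Z₀ : Set G) := by
    have hzn : zpowers x ≤ normalizer (Z₀ : Set G) := by
      have hpow : ∀ i : ℕ, ∀ z ∈ Z₀, x ^ i * z * (x ^ i)⁻¹ ∈ Z₀ := by
        intro i
        induction i with
        | zero => intro z hz; simpa using hz
        | succ i ih =>
          intro z hz
          have := hxZ _ (ih z hz)
          rw [pow_succ']
          simpa [mul_assoc] using this
      refine zpowers_le.2 ?_
      rw [Subgroup.mem_normalizer_iff]
      refine fun z => ⟨hxZ z, fun hz => ?_⟩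
      have := hpow (π - 1) _ hz
      have hx1 : x ^ (π - 1) = x⁻¹ := eq_inv_of_mul_eq_one_left (by
        rw [← pow_succ, Nat.sub_add_cancel (Fact.out : π.Prime).one_lt.le, hxπ])
      rw [hx1] at this
      simpa [mul_assoc] using this
    exact hzn (mem_zpowers x)
  have hνx := fix_of_no_fixed ρ hvc hv0 hxN hxπ hfix
  set U := comp ρ Z₀ ν with hU
  have hU0 : U ≠ ⊥ := fun h => hv0 ((Submodule.eq_bot_iff _).1 h v hvc)
  have hQU : Q ≤ stab ρ U := fun q hq => mem_stab fun w hw => mem_comp.2 fun z hz => by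
    rw [← Module.End.mul_apply, (hrad z (hle hz)).1 hz q hq, Module.End.mul_apply, mem_comp.1 hw z hz, map_smul]
  have hxU : x ∈ stab ρ U := mem_stab fun w hw => mem_comp.2 fun z hz => by
    have := mem_comp.1 (map_comp_mem (g := x) (fun z hz => (Subgroup.mem_normalizer_iff''.1 hxN z).1 hz) hw) z hz
    rwa [hνx z hz] at this
  haveI : Nontrivial U := Submodule.nontrivial_iff_ne_bot.2 hU0
  have d := grading_restrict ρ hle hQK B hB hrad hU0 hQU ν fun z hz w hw => mem_comp.1 hw z hz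
  have hFQ : Fx ≤ Q := fun u hu => ((hFx u).1 hu).1
  have hbound := d.bound (Fx := Fx.subgroupOf (stab ρ U)) (x := ⟨x, hxU⟩) hπK
    (by
      rw [Subgroup.mem_normalizer_iff]
      exact fun u => Subgroup.mem_normalizer_iff.1 hx (u : G))
    (Subtype.ext hxπ) (fun z hz => hxZ _ hz)
    (fun w hw => Subtype.ext (hfix w (congrArg Subtype.val hw))) (fun u => hFx u)
  rw [Subgroup.relIndex_subgroupOf hQU, Subgroup.relIndex_subgroupOf (hFQ.trans hQU)] at hbound
  refine ⟨?_, hbound⟩
  -- irreducible subspace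
  obtain ⟨U₁, ⟨hU₁0, hU₁Q, hU₁le⟩, hmin⟩ := WellFounded.has_min (wellFounded_lt (α := Submodule K V))
    {S | S ≠ ⊥ ∧ (∀ q ∈ Q, ∀ w ∈ S, ρ q w ∈ S) ∧ S ≤ U} ⟨U, hU0, fun q hq w hw => (hQU hq w).2 hw, le_rfl⟩
  have hQU₁ : Q ≤ stab ρ U₁ := fun q hq => mem_stab fun w hw => hU₁Q q hq w hw
  haveI : Nontrivial U₁ := Submodule.nontrivial_iff_ne_bot.2 hU₁0
  have d₁ := grading_restrict ρ hle hQK B hB hrad hU₁0 hQU₁ ν fun z hz w hw => mem_comp.1 (hU₁le hw) z hz
  have h4 := d₁.finrank_eq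
  have hirr : ∀ S : Submodule K U₁, (∀ q : Q.subgroupOf (stab ρ U₁), ∀ w ∈ S, restrictStab ρ U₁ q w ∈ S) →
      S = ⊥ ∨ S = ⊤ := by
    intro S hS
    by_contra hh
    push Not at hh
    refine hmin (S.map U₁.subtype) ⟨fun e => hh.1 ((Submodule.eq_bot_iff _).2 fun w hw =>
      Subtype.ext ((Submodule.eq_bot_iff _).1 e _ ⟨w, hw, rfl⟩)), ?_, (Submodule.map_subtype_le _ _).trans hU₁le⟩
      (lt_of_le_of_ne (Submodule.map_subtype_le U₁ S) fun e => hh.2 (Submodule.eq_top_iff'.2 fun w => ?_))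
    · rintro q hq _ ⟨w, hw, rfl⟩
      exact ⟨_, hS ⟨⟨q, hQU₁ hq⟩, hq⟩ w hw, rfl⟩
    · obtain ⟨y, hy, he⟩ := e.ge w.2
      exact Subtype.ext he ▸ hy
  have hle1 : piece (restrictStab ρ U₁) (Q.subgroupOf (stab ρ U₁)) (fun a b => B a b) 1 ≤
      Submodule.span K {(1 : Module.End K U₁)} := by
    intro f hf
    obtain ⟨c, hc⟩ := Cfsg.Lib.OddP.schur (Q := Q.subgroupOf (stab ρ U₁))
      ((restrictStab ρ U₁).comp (Q.subgroupOf (stab ρ U₁)).subtype) hirr f fun g => by
        have h := mem_piece.1 hf g g.2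
        rw [(d₁.rad_right (one_mem _)).1 (one_mem _) g g.2, one_smul, adRep_eq_iff] at h
        exact h.symm
    exact Submodule.mem_span_singleton.2 ⟨c, hc.symm⟩
  have h5 : finrank K (piece (restrictStab ρ U₁) (Q.subgroupOf (stab ρ U₁)) (fun a b => B a b) 1) = 1 := by
    refine le_antisymm ((Submodule.finrank_mono hle1).trans (finrank_span_singleton one_ne_zero).le) ?_
    refine Nat.pos_of_ne_zero fun h => ?_
    rw [h, mul_zero] at h4
    have := Module.finrank_pos (R := K) (M := U₁)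
    nlinarith
  refine ⟨finrank K U₁, ?_⟩
  rw [h4, h5, mul_one, ← Subgroup.relIndex_subgroupOf hQU₁]
  rfl

end Cfsg.Lib.SolvStruct.PQHeight
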