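import Mathlib
import Cfsg.Agent.Coprime.Action
import Cfsg.Agent.Coprime.FrobeniusFixed

/-!
Tools for groups with a fixed point free non-abelian operator group of order a product of two primes.
-/

set_option autoImplicit false
set_option linter.unusedSectionVars false
set_option linter.style.haveILetI false

namespace Cfsg.Lib.SolvStruct.PQHeight

open Subgroup

variable {G : Type*} [Group G] [Finite G]

/-- a group with a fixed point free operator of prime order centralises any module on which that operator is fixed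
point free -/
theorem fpf_trivial {M : Type*} [AddCommGroup M] (ρ : G →* AddMonoid.End M) (U : AddSubgroup M) (C : Subgroup G)
    {σ : G} {q : ℕ} [Fact q.Prime] (hσ : orderOf σ = q) (hσC : ∀ c ∈ C, σ * c * σ⁻¹ ∈ C)
    (hfpf : ∀ c ∈ C, σ * c = c * σ → c = 1) (hCU : ∀ c ∈ C, ∀ v ∈ U, ρ c v ∈ U) (hσU : ∀ v ∈ U, ρ σ v ∈ U)
    (hfix : ∀ v ∈ U, ρ σ v = v → v = 0) (hinj : ∀ v : M, Nat.card C • v = 0 → v = 0) :
    ∀ c ∈ C, ∀ v ∈ U, ρ c v = v := by
  classical
  have := Fintype.ofFinite C
  have hq : q.Prime := Fact.out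
  have hσC' : ∀ i : ℕ, ∀ c ∈ C, σ ^ i * c * (σ ^ i)⁻¹ ∈ C := by
    intro i
    induction i with
    | zero => intro c hc; simpa using hc
    | succ i ih =>
      intro c hc
      have h := hσC _ (ih c hc)
      rw [pow_succ']
      simpa [mul_assoc] using h
  have hσU' : ∀ i : ℕ, ∀ v ∈ U, ρ (σ ^ i) v ∈ U := by
    intro i
    induction i with
    | zero => intro v hv; simpa using hv
    | succ i ih => intro v hv; rw [pow_succ', map_mul]; exact hσU _ (ih v hv)
  have hsum : ∀ v : M, ρ σ (∑ i ∈ Finset.range q, ρ (σ ^ i) v) = ∑ i ∈ Finset.range q, ρ (σ ^ i) v := by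
    intro v
    rw [map_sum]
    have h1 : ∀ i, ρ σ (ρ (σ ^ i) v) = ρ (σ ^ (i + 1)) v := fun i => by rw [pow_succ', map_mul]; rfl
    simp only [h1]
    have h2 := Finset.sum_range_succ' (fun i => ρ (σ ^ i) v) q
    rw [Finset.sum_range_succ, ← hσ, pow_orderOf_eq_one, pow_zero, hσ] at h2
    exact (add_right_cancel h2).symm
  have key : ∀ v ∈ U, ∑ c : C, ρ (c : G) v = Nat.card C • v := by
    intro v hv
    -- the sum over the semidirect product
    have hw : ∑ i ∈ Finset.range q, ∑ c : C, ρ ((c : G) * σ ^ i) v = 0 := by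
      refine hfix _ (sum_mem fun i _ => sum_mem fun c _ => ?_) ?_
      · rw [map_mul]; exact hCU c c.2 _ (hσU' i v hv)
      have hinner : ∀ i, ρ σ (∑ c : C, ρ ((c : G) * σ ^ i) v) = ∑ c : C, ρ ((c : G) * σ ^ (i + 1)) v := by
        intro i
        rw [map_sum]
        let g : C → C := fun c => ⟨σ * c * σ⁻¹, hσC c c.2⟩
        have hg : Function.Bijective g := Finite.injective_iff_bijective.1 fun a b h => by
          have h' : σ * a * σ⁻¹ = σ * b * σ⁻¹ := congrArg Subtype.val h
          exact Subtype.ext (mul_left_cancel (mul_right_cancel h'))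
        refine Fintype.sum_bijective g hg _ _ fun c => ?_
        show ρ σ (ρ ((c : G) * σ ^ i) v) = ρ (σ * (c : G) * σ⁻¹ * σ ^ (i + 1)) v
        rw [show σ * (c : G) * σ⁻¹ * σ ^ (i + 1) = σ * ((c : G) * σ ^ i) by group, map_mul ρ σ]
        rfl
      rw [map_sum]
      simp only [hinner]
      have h2 := Finset.sum_range_succ' (fun i => ∑ c : C, ρ ((c : G) * σ ^ i) v) q
      rw [Finset.sum_range_succ, ← hσ, pow_orderOf_eq_one, pow_zero, hσ] at h2
      exact (add_right_cancel h2).symm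
    -- the conjugates of the operator
    have hz : ∑ i ∈ Finset.range q, ∑ c : C, ρ ((c : G) * σ ^ i * (c : G)⁻¹) v = 0 := by
      rw [Finset.sum_comm]
      refine Finset.sum_eq_zero fun c _ => ?_
      have h0 := hfix _ (sum_mem fun i _ => hσU' i _ (hCU _ (C.inv_mem c.2) v hv)) (hsum (ρ (c : G)⁻¹ v))
      have h1 := congrArg (ρ (c : G)) h0
      rw [map_sum, map_zero] at h1
      rw [← h1]
      exact Finset.sum_congr rfl fun i _ => by rw [map_mul, map_mul]; rfl
    have heq : ∀ i ∈ Finset.range q, i ≠ 0 →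
        ∑ c : C, ρ ((c : G) * σ ^ i * (c : G)⁻¹) v = ∑ c : C, ρ ((c : G) * σ ^ i) v := by
      intro i hi hi0
      have hmem : ∀ c : C, (c : G) * (σ ^ i * (c : G)⁻¹ * (σ ^ i)⁻¹) ∈ C := fun c =>
        C.mul_mem c.2 (hσC' i _ (C.inv_mem c.2))
      let g : C → C := fun c => ⟨_, hmem c⟩
      have hg : Function.Bijective g := Finite.injective_iff_bijective.1 fun a b h => by
        have h' : (a : G) * (σ ^ i * (a : G)⁻¹ * (σ ^ i)⁻¹) = (b : G) * (σ ^ i * (b : G)⁻¹ * (σ ^ i)⁻¹) :=
          congrArg Subtype.val h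
        have hc : σ ^ i * ((b : G)⁻¹ * a) = ((b : G)⁻¹ * a) * σ ^ i := by
          have e : (a : G) * σ ^ i * (a : G)⁻¹ = (b : G) * σ ^ i * (b : G)⁻¹ := by
            have := congrArg (· * σ ^ i) h'
            simpa [mul_assoc] using this
          calc σ ^ i * ((b : G)⁻¹ * a) = (b : G)⁻¹ * ((b : G) * σ ^ i * (b : G)⁻¹) * a := by group
            _ = (b : G)⁻¹ * ((a : G) * σ ^ i * (a : G)⁻¹) * a := by rw [e]
            _ = _ := by group
        have hco : Nat.Coprime i (orderOf σ) := by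
          rw [hσ]
          refine ((hq.coprime_iff_not_dvd).2 fun hd => ?_).symm
          have := Nat.le_of_dvd (Nat.pos_of_ne_zero hi0) hd
          have := Finset.mem_range.1 hi
          omega
        have hc' : σ * ((b : G)⁻¹ * a) = ((b : G)⁻¹ * a) * σ := by
          have hc2 : Commute (σ ^ i) ((b : G)⁻¹ * a) := hc
          obtain ⟨m, hm⟩ := exists_pow_eq_self_of_coprime hco
          have := hc2.pow_left m
          rwa [hm] at this
        exact Subtype.ext (inv_mul_eq_one.1 (hfpf _ (C.mul_mem (C.inv_mem b.2) a.2) hc')).symm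
      refine Fintype.sum_bijective g hg _ _ fun c => ?_
      show ρ _ v = ρ ((c : G) * (σ ^ i * (c : G)⁻¹ * (σ ^ i)⁻¹) * σ ^ i) v
      congr 2
      group
    have h0q : 0 ∈ Finset.range q := Finset.mem_range.2 hq.pos
    have hrest : ∑ i ∈ (Finset.range q).erase 0, ∑ c : C, ρ ((c : G) * σ ^ i * (c : G)⁻¹) v =
        ∑ i ∈ (Finset.range q).erase 0, ∑ c : C, ρ ((c : G) * σ ^ i) v :=
      Finset.sum_congr rfl fun i hi => heq i (Finset.mem_of_mem_erase hi) (Finset.ne_of_mem_erase hi)
    rw [← Finset.add_sum_erase _ _ h0q] at hw hz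
    rw [hrest] at hz
    have e := add_right_cancel (hw.trans hz.symm)
    simp only [pow_zero, mul_one, mul_inv_cancel, map_one] at e
    rw [e]
    simp [Nat.card_eq_fintype_card]
  intro c hc v hv
  refine sub_eq_zero.1 (hinj _ ?_)
  rw [smul_sub, ← key v hv]
  rw [sub_eq_zero]
  calc Nat.card C • ρ c v = ρ c (Nat.card C • v) := (map_nsmul (ρ c) _ _).symm
    _ = ∑ d : C, ρ c (ρ (d : G) v) := by rw [← key v hv, map_sum]
    _ = ∑ d : C, ρ (d : G) v := by
      refine Fintype.sum_bijective _ (Group.mulLeft_bijective (⟨c, hc⟩ : C)) _ _ fun d => ?_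
      rw [Subgroup.coe_mul, map_mul]
      rfl

/-- an elementary abelian group is free over a fixed point free operator of a fixed point free operator group -/
theorem free_card {M : Type*} [CommGroup M] [Finite M] {s t π : ℕ} [Fact s.Prime] [Fact t.Prime] [Fact π.Prime]
    (hM : ∀ x : M, x ^ s = 1) (φ : G →* MulAut M) (T : Subgroup G) (hT : IsPGroup t T) {e : G} (he : orderOf e = π)
    (heT : e ∈ normalizer (T : Set G)) (hst : s ≠ t) (hsπ : s ≠ π) (htπ : t ≠ π)
    (hcT : ∀ x ∈ T, e * x = x * e → φ x = 1) (hfixT : ∀ v : M, (∀ x ∈ T, φ x v = v) → v = 1) :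
    Nat.card M = Nat.card {v : M // φ e v = v} ^ π := by
  classical
  have hπ : π.Prime := Fact.out
  obtain ⟨b, hb⟩ := IsPGroup.iff_card.1 hT
  have hle : zpowers e ≤ normalizer (T : Set G) := zpowers_le.2 heT
  have hcopTe : (Nat.card (zpowers e)).Coprime (Nat.card T) := by
    rw [Nat.card_zpowers, he, hb]
    exact ((Nat.coprime_primes hπ Fact.out).2 (Ne.symm htπ)).pow_right b
  -- lifting fixed points
  have hlift : ∀ x ∈ T, φ e * φ x = φ x * φ e → φ x = 1 := by
    intro x hx hcomm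
    set D := T ⊓ φ.ker with hD
    have hDn : zpowers e ≤ normalizer (D : Set G) := by
      refine zpowers_le.2 ?_
      rw [Subgroup.mem_normalizer_iff]
      intro y
      rw [hD, Subgroup.mem_inf, Subgroup.mem_inf]
      refine and_congr (Subgroup.mem_normalizer_iff.1 heT y) ?_
      exact ⟨fun h => (inferInstance : φ.ker.Normal).conj_mem _ h e, fun h => by
        have := (inferInstance : φ.ker.Normal).conj_mem _ h e⁻¹
        simpa [mul_assoc] using this⟩
    obtain ⟨d, hd, hxd⟩ := Cfsg.Lib.Coprime.exists_fixed_in_coset (k := x) hDn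
      (hcopTe.coprime_dvd_right (Subgroup.card_dvd_of_le inf_le_left))
      (Or.inl (Group.isSolvable_of_comm fun a c => mul_comm' a c))
      (fun a ha => by
        obtain ⟨m, rfl⟩ := Subgroup.mem_zpowers_iff.1 ha
        refine Subgroup.mem_inf.2 ⟨?_, ?_⟩
        · have := T.mul_mem (T.inv_mem hx) ((Subgroup.mem_normalizer_iff.1 (hle ha) x).1 hx)
          simpa [mul_assoc] using this
        · rw [MonoidHom.mem_ker, map_mul, map_mul, map_mul, map_inv, map_inv, map_zpow]
          rw [mul_assoc (φ x)⁻¹, (Commute.zpow_left (hcomm : Commute (φ e) (φ x)) m).eq]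
          group)
    have h1 := hcT _ (T.mul_mem hx hd.1) (mem_centralizer_iff.1 hxd e (mem_zpowers e))
    rwa [map_mul, MonoidHom.mem_ker.1 hd.2, mul_one] at h1
  by_cases he1 : φ e = 1
  · have htriv : ∀ x ∈ T, φ x = 1 := fun x hx => hlift x hx (by rw [he1, one_mul, mul_one])
    haveI : Subsingleton M := ⟨fun a b => by
      rw [hfixT a fun x hx => by rw [htriv x hx]; rfl, hfixT b fun x hx => by rw [htriv x hx]; rfl]⟩
    haveI : Unique M := uniqueOfSubsingleton 1
    rw [Nat.card_unique, Nat.card_eq_one_iff_unique.2 ⟨inferInstance, ⟨⟨1, map_one _⟩⟩⟩, one_pow]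
  set F := (T ⊔ zpowers e).map φ with hF
  set U := (T.map φ).subgroupOf F with hU
  set E := (zpowers (φ e)).subgroupOf F with hE
  have hTF : T.map φ ≤ F := Subgroup.map_mono le_sup_left
  have heF : zpowers (φ e) ≤ F := by
    rw [← MonoidHom.map_zpowers]; exact Subgroup.map_mono le_sup_right
  have hordE : orderOf (φ e) = π := orderOf_eq_prime (by rw [← map_pow, ← he, pow_orderOf_eq_one, map_one]) he1
  have hcardE : Nat.card E = π := by
    rw [hE, Nat.card_congr (Subgroup.subgroupOfEquivOfLe heF).toEquiv, Nat.card_zpowers, hordE]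
  have hFn : F ≤ normalizer ((T.map φ : Subgroup (MulAut M)) : Set (MulAut M)) :=
    (Subgroup.map_mono (sup_le le_normalizer hle)).trans (le_normalizer_map φ)
  haveI : U.Normal := Subgroup.normal_subgroupOf_of_le_normalizer hFn
  obtain ⟨b', hb'⟩ := IsPGroup.iff_card.1 (hT.map φ)
  have hcardU : Nat.card U = t ^ b' := by rw [hU, Nat.card_congr (Subgroup.subgroupOfEquivOfLe hTF).toEquiv, hb']
  have hinf : U ⊓ E = ⊥ := Subgroup.inf_eq_bot_of_coprime (by
    rw [hcardU, hcardE]; exact ((Nat.coprime_primes Fact.out hπ).2 htπ).pow_left _)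
  have hsup : U ⊔ E = ⊤ := by
    rw [hU, hE, ← Subgroup.subgroupOf_sup hTF heF, ← MonoidHom.map_zpowers, ← Subgroup.map_sup,
      Subgroup.subgroupOf_self]
  have hfpf : ∀ a ∈ E, a ≠ 1 → ∀ u ∈ U, a * u = u * a → u = 1 := by
    intro a ha ha1 u hu hcomm
    obtain ⟨x, hx, hxu⟩ := (Subgroup.mem_subgroupOf.1 hu : (u : MulAut M) ∈ T.map φ)
    obtain ⟨m, hm⟩ := Subgroup.mem_zpowers_iff.1 (Subgroup.mem_subgroupOf.1 ha : (a : MulAut M) ∈ zpowers (φ e))
    have hc1 : Commute (a : MulAut M) (φ x) := by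
      rw [hxu]; exact congrArg Subtype.val hcomm
    have hgen : φ e ∈ zpowers (a : MulAut M) := by
      refine mem_zpowers_of_prime_card (p := π) (G := zpowers (φ e))
        (by rw [Nat.card_zpowers, hordE]) (g := ⟨a, Subgroup.mem_zpowers_iff.2 ⟨m, hm⟩⟩)
        (g' := ⟨φ e, mem_zpowers _⟩) (fun h => ha1 (Subtype.ext (congrArg (fun z : zpowers (φ e) => (z : MulAut M)) h))) |> fun h => ?_
      obtain ⟨j, hj⟩ := Subgroup.mem_zpowers_iff.1 h
      exact Subgroup.mem_zpowers_iff.2 ⟨j, by simpa using congrArg Subtype.val hj⟩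
    obtain ⟨j, hj⟩ := Subgroup.mem_zpowers_iff.1 hgen
    have h1 := hlift x hx (by rw [← hj]; exact (hc1.zpow_left j).eq)
    exact Subtype.ext (by rw [← hxu, h1]; rfl)
  have hcard : Nat.card F = t ^ b' * π := by
    have hc : U.IsComplement' E := Subgroup.isComplement'_of_disjoint_and_mul_eq_univ
      (disjoint_iff.2 hinf) (by rw [← Subgroup.normal_mul, hsup]; rfl)
    rw [← hc.card_mul, hcardU, hcardE]
  have hcop : (Nat.card F).Coprime s := by
    rw [hcard]
    exact (((Nat.coprime_primes Fact.out Fact.out).2 hst.symm).pow_left _).mul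
      ((Nat.coprime_primes hπ Fact.out).2 hsπ.symm)
  have key := Cfsg.Lib.FixedDim.frobenius_fixed_elementary hM F.subtype hcop U E hinf hsup hfpf
  have h1 : Nat.card {v : M // ∀ a ∈ U, F.subtype a v = v} = 1 :=
    Nat.card_eq_one_iff_unique.2 ⟨⟨fun a c => Subtype.ext ((hfixT a.1 fun x hx =>
      a.2 ⟨φ x, hTF (mem_map_of_mem φ hx)⟩ (Subgroup.mem_subgroupOf.2 (mem_map_of_mem φ hx))).trans
      (hfixT c.1 fun x hx =>
      c.2 ⟨φ x, hTF (mem_map_of_mem φ hx)⟩ (Subgroup.mem_subgroupOf.2 (mem_map_of_mem φ hx))).symm)⟩,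
      ⟨⟨1, fun a _ => map_one _⟩⟩⟩
  have h2 : Nat.card {v : M // ∀ a : F, F.subtype a v = v} = 1 :=
    Nat.card_eq_one_iff_unique.2 ⟨⟨fun a c => Subtype.ext ((hfixT a.1 fun x hx =>
      a.2 ⟨φ x, hTF (mem_map_of_mem φ hx)⟩).trans
      (hfixT c.1 fun x hx => c.2 ⟨φ x, hTF (mem_map_of_mem φ hx)⟩).symm)⟩, ⟨⟨1, fun a => map_one _⟩⟩⟩
  have h3 : Nat.card {v : M // ∀ a ∈ E, F.subtype a v = v} = Nat.card {v : M // φ e v = v} := by
    refine Nat.card_congr (Equiv.subtypeEquivRight fun v => ⟨fun h => h ⟨φ e, heF (mem_zpowers _)⟩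
      (Subgroup.mem_subgroupOf.2 (mem_zpowers _)), fun h a ha => ?_⟩)
    obtain ⟨m, hm⟩ := Subgroup.mem_zpowers_iff.1 (Subgroup.mem_subgroupOf.1 ha : (a : MulAut M) ∈ zpowers (φ e))
    show (a : MulAut M) v = v
    rw [← hm]
    have hs : φ e ∈ MulAction.stabilizer (MulAut M) v := h
    exact Subgroup.zpow_mem _ hs m
  rw [h1, h2, h3, hcardE, one_pow, one_mul, mul_one] at key
  exact key

end Cfsg.Lib.SolvStruct.PQHeight
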