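import Mathlib
import Cfsg.Agent.SolvStruct.PQHeight.Basic

/-!
Operators on a section of a group.
-/

set_option autoImplicit false
set_option linter.unusedSectionVars false
set_option linter.style.haveILetI false

namespace Cfsg.Lib.SolvStruct.PQHeight

open Subgroup

variable {G : Type*} [Group G]

/-- the automorphisms induced on a section -/
def quotAct {S N H : Subgroup G} [(N.subgroupOf S).Normal] (hS : H ≤ normalizer (S : Set G))
    (hN : H ≤ normalizer (N : Set G)) : H →* MulAut (S ⧸ N.subgroupOf S) where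
  toFun h := QuotientGroup.congr (N.subgroupOf S) (N.subgroupOf S) (S.normalizerMonoidHom ⟨h, hS h.2⟩) (by
    ext y
    rw [Subgroup.mem_map, Subgroup.mem_subgroupOf]
    constructor
    · rintro ⟨z, hz, rfl⟩
      exact (Subgroup.mem_normalizer_iff.1 (hN h.2) _).1 (Subgroup.mem_subgroupOf.1 hz)
    · intro hy
      refine ⟨(S.normalizerMonoidHom ⟨h, hS h.2⟩).symm y, Subgroup.mem_subgroupOf.2 ?_, MulEquiv.apply_symm_apply _ _⟩
      have e' : (((S.normalizerMonoidHom ⟨h, hS h.2⟩).symm y : S) : G) = (h : G)⁻¹ * y * h := by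
        set z := (S.normalizerMonoidHom ⟨h, hS h.2⟩).symm y with hz'
        have h1 : (h : G) * z * (h : G)⁻¹ = y :=
          congrArg Subtype.val (MulEquiv.apply_symm_apply (S.normalizerMonoidHom ⟨h, hS h.2⟩) y)
        rw [← h1]
        group
      rw [e']
      exact (Subgroup.mem_normalizer_iff''.1 (hN h.2) (y : G)).1 hy)
  map_one' := MulEquiv.ext fun t => by
    obtain ⟨u, rfl⟩ := QuotientGroup.mk_surjective t
    exact congrArg (QuotientGroup.mk (s := N.subgroupOf S))
      (Subtype.ext (show (1 : G) * u * (1 : G)⁻¹ = u by group))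
  map_mul' a b := MulEquiv.ext fun t => by
    obtain ⟨u, rfl⟩ := QuotientGroup.mk_surjective t
    exact congrArg (QuotientGroup.mk (s := N.subgroupOf S))
      (Subtype.ext (show ((a : G) * b) * u * ((a : G) * b)⁻¹ = a * (b * u * (b : G)⁻¹) * (a : G)⁻¹ by group))

theorem quotAct_mk {S N H : Subgroup G} [(N.subgroupOf S).Normal] (hS : H ≤ normalizer (S : Set G))
    (hN : H ≤ normalizer (N : Set G)) (h : H) (u : S) :
    quotAct hS hN h (QuotientGroup.mk u) =
      QuotientGroup.mk (⟨h * u * (h : G)⁻¹, (Subgroup.mem_normalizer_iff.1 (hS h.2) u).1 u.2⟩ : S) := rfl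

theorem quotAct_fixed_iff {S N H : Subgroup G} [(N.subgroupOf S).Normal] (hS : H ≤ normalizer (S : Set G))
    (hN : H ≤ normalizer (N : Set G)) (h : H) (u : S) :
    quotAct hS hN h (QuotientGroup.mk u) = QuotientGroup.mk u ↔ (u : G)⁻¹ * (h * u * (h : G)⁻¹) ∈ N := by
  rw [quotAct_mk, eq_comm, QuotientGroup.eq, Subgroup.mem_subgroupOf]
  rfl

/-- an elementary abelian section is free over a fixed point free operator of a fixed point free operator group -/
theorem free_section [Finite G] {S N T : Subgroup G} {e : G} {s t π : ℕ} [Fact s.Prime] [Fact t.Prime] [Fact π.Prime]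
    (hN : N ≤ S) (hNS : S ≤ normalizer (N : Set G)) (hab : ∀ x ∈ S, ∀ y ∈ S, x⁻¹ * y⁻¹ * x * y ∈ N)
    (hexp : ∀ x ∈ S, x ^ s ∈ N) (hT : IsPGroup t T) (he : orderOf e = π)
    (hTS : T ≤ normalizer (S : Set G)) (hTN : T ≤ normalizer (N : Set G))
    (heS : e ∈ normalizer (S : Set G)) (heN : e ∈ normalizer (N : Set G)) (heT : e ∈ normalizer (T : Set G))
    (hst : s ≠ t) (hsπ : s ≠ π) (htπ : t ≠ π)
    (hcT : ∀ y ∈ T, e * y = y * e → ∀ x ∈ S, x⁻¹ * (y * x * y⁻¹) ∈ N)
    (hfixT : ∀ x ∈ S, (∀ y ∈ T, x⁻¹ * (y * x * y⁻¹) ∈ N) → x ∈ N)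
    {F : Subgroup G} (hF : ∀ u, u ∈ F ↔ u ∈ S ∧ u⁻¹ * (e * u * e⁻¹) ∈ N) :
    N.relIndex S = N.relIndex F ^ π := by
  classical
  haveI : (N.subgroupOf S).Normal := Subgroup.normal_subgroupOf_of_le_normalizer hNS
  letI : CommGroup (S ⧸ N.subgroupOf S) :=
    { (inferInstance : Group (S ⧸ N.subgroupOf S)) with
      mul_comm := fun a b => by
        obtain ⟨a, rfl⟩ := QuotientGroup.mk_surjective a
        obtain ⟨b, rfl⟩ := QuotientGroup.mk_surjective b
        rw [← QuotientGroup.mk_mul, ← QuotientGroup.mk_mul, QuotientGroup.eq, Subgroup.mem_subgroupOf]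
        have := hab b b.2 a a.2
        have e' : (((a * b)⁻¹ * (b * a) : S) : G) = (b : G)⁻¹ * (a : G)⁻¹ * b * a := by
          simp [mul_assoc]
        rw [e']
        exact this }
  set H := T ⊔ zpowers e with hH
  have hHS : H ≤ normalizer (S : Set G) := sup_le hTS (zpowers_le.2 heS)
  have hHN : H ≤ normalizer (N : Set G) := sup_le hTN (zpowers_le.2 heN)
  have heH : e ∈ H := le_sup_right (a := T) (mem_zpowers e)
  have hTH : T ≤ H := le_sup_left
  have key := free_card (G := H) (M := S ⧸ N.subgroupOf S) (s := s) (t := t) (π := π)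
    (fun m => by
      obtain ⟨u, rfl⟩ := QuotientGroup.mk_surjective m
      rw [← QuotientGroup.mk_pow, QuotientGroup.eq_one_iff, Subgroup.mem_subgroupOf, Subgroup.coe_pow]
      exact hexp u u.2)
    (quotAct hHS hHN) (T.subgroupOf H) (hT.of_equiv (Subgroup.subgroupOfEquivOfLe hTH).symm) (e := ⟨e, heH⟩)
    (by rw [← he, Subgroup.orderOf_mk])
    (by
      rw [Subgroup.mem_normalizer_iff]
      exact fun z => Subgroup.mem_normalizer_iff.1 heT (z : G))
    hst hsπ htπ
    (fun y hy hcomm => MulEquiv.ext fun m => by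
      obtain ⟨u, rfl⟩ := QuotientGroup.mk_surjective m
      rw [MulAut.one_apply, quotAct_fixed_iff]
      exact hcT y hy (congrArg Subtype.val hcomm) u u.2)
    (fun m hm => by
      obtain ⟨u, rfl⟩ := QuotientGroup.mk_surjective m
      rw [QuotientGroup.eq_one_iff, Subgroup.mem_subgroupOf]
      exact hfixT u u.2 fun y hy => (quotAct_fixed_iff hHS hHN ⟨y, hTH hy⟩ u).1 (hm _ hy))
  have hFS : F ≤ S := fun u hu => ((hF u).1 hu).1
  rw [Subgroup.relIndex, Subgroup.index_eq_card, key]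
  congr 1
  rw [Subgroup.relIndex, Subgroup.index_eq_card]
  have hfx : ∀ u : S, quotAct hHS hHN ⟨e, heH⟩ (QuotientGroup.mk u) = QuotientGroup.mk u ↔ (u : G) ∈ F := fun u => by
    rw [quotAct_fixed_iff, hF]
    exact (and_iff_right u.2).symm
  let J : F ⧸ N.subgroupOf F → {m : S ⧸ N.subgroupOf S // quotAct hHS hHN ⟨e, heH⟩ m = m} :=
    Quotient.lift (fun u : F => ⟨QuotientGroup.mk (Subgroup.inclusion hFS u), (hfx _).2 u.2⟩)
      fun a b h => Subtype.ext (QuotientGroup.eq.2 (Subgroup.mem_subgroupOf.2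
        ((Subgroup.mem_subgroupOf (H := N) (K := F)).1 ((QuotientGroup.leftRel_apply (s := N.subgroupOf F)).1 h))))
  refine (Nat.card_eq_of_bijective J ⟨?_, ?_⟩).symm
  · intro a b h
    obtain ⟨a, rfl⟩ := QuotientGroup.mk_surjective a
    obtain ⟨b, rfl⟩ := QuotientGroup.mk_surjective b
    have h' : (QuotientGroup.mk (Subgroup.inclusion hFS a) : S ⧸ N.subgroupOf S) =
      QuotientGroup.mk (Subgroup.inclusion hFS b) := congrArg Subtype.val h
    exact QuotientGroup.eq.2 (Subgroup.mem_subgroupOf.2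
      ((Subgroup.mem_subgroupOf (H := N) (K := S)).1 (QuotientGroup.eq.1 h')))
  · rintro ⟨m, hm⟩
    obtain ⟨u, rfl⟩ := QuotientGroup.mk_surjective m
    exact ⟨QuotientGroup.mk ⟨u, (hfx u).1 hm⟩, rfl⟩

end Cfsg.Lib.SolvStruct.PQHeight
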