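import Mathlib
import Cfsg.Agent.SolvStruct.PQHeight.Count
import Cfsg.Agent.SolvStruct.PQHeight.Section
import Cfsg.Agent.SolvStruct.PQHeight.Adjoint
import Cfsg.Agent.Coprime.Sylow

/-!
No tower of height three admits a fixed point free non-abelian operator group of order a product of two primes.
-/

set_option autoImplicit false
set_option linter.unusedSectionVars false
set_option linter.style.haveILetI false

namespace Cfsg.Lib.SolvStruct.PQHeight

open Subgroup Module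
open scoped Classical commutatorElement

universe u v w

variable {K : Type u} [Field K] [IsAlgClosed K] {V : Type v} [AddCommGroup V] [Module K V] [FiniteDimensional K V]
  {G : Type w} [Group G] [Finite G]

/-- the generating elements -/
def Gen (S T : Subgroup G) (f σ g : G) : Prop := g ∈ S ∨ g ∈ T ∨ g = f ∨ g = σ

/-- the configuration -/
structure Cfg (ρ : G →* Module.End K V) (S T : Subgroup G) (f σ : G) (p q s t : ℕ) : Prop where
  hS : IsPGroup s S
  hT : IsPGroup t T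
  TS : T ≤ normalizer (S : Set G)
  fS : f ∈ normalizer (S : Set G)
  σS : σ ∈ normalizer (S : Set G)
  fT : f ∈ normalizer (T : Set G)
  σT : σ ∈ normalizer (T : Set G)
  ordf : orderOf f = p
  ordσ : orderOf σ = q
  rel : σ * f * σ⁻¹ ∈ zpowers f
  ncomm : σ * f ≠ f * σ
  st : s ≠ t
  sp : s ≠ p
  sq : s ≠ q
  tp : t ≠ p
  tq : t ≠ q
  sK : (s : K) ≠ 0
  pK : (p : K) ≠ 0
  qK : (q : K) ≠ 0
  fixS : ∀ x ∈ S, f * x = x * f → σ * x = x * σ → x = 1
  fixT : ∀ x ∈ T, f * x = x * f → σ * x = x * σ → x = 1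
  fixV : ∀ v, ρ f v = v → ρ σ v = v → v = 0
  faithful : ∀ x ∈ S, ρ x = 1 → x = 1
  irr : ∀ W : Submodule K V, (∀ g, Gen S T f σ g → ∀ v ∈ W, ρ g v ∈ W) → W = ⊥ ∨ W = ⊤
  minS : ∀ D : Subgroup G, D ≤ S → T ≤ normalizer (D : Set G) → f ∈ normalizer (D : Set G) →
    σ ∈ normalizer (D : Set G) → D ≠ S → ∀ x ∈ D, ∀ y ∈ T, y * x = x * y
  minT : ∀ D : Subgroup G, D ≤ T → f ∈ normalizer (D : Set G) → σ ∈ normalizer (D : Set G) → D ≠ T →
    ∀ x ∈ S, ∀ y ∈ D, y * x = x * y
  ne : ∃ x ∈ S, ∃ y ∈ T, y * x ≠ x * y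

/-- the stabiliser of an eigenvalue function -/
def nuStab (Z : Subgroup G) (ν : G → K) : Subgroup G where
  carrier := {g | g ∈ normalizer (Z : Set G) ∧ ∀ z ∈ Z, ν (g⁻¹ * z * g) = ν z}
  one_mem' := ⟨one_mem _, fun z _ => by simp⟩
  mul_mem' {a b} ha hb := ⟨mul_mem ha.1 hb.1, fun z hz => by
    rw [show (a * b)⁻¹ * z * (a * b) = b⁻¹ * (a⁻¹ * z * a) * b by group,
      hb.2 _ ((Subgroup.mem_normalizer_iff''.1 ha.1 z).1 hz), ha.2 z hz]⟩
  inv_mem' {a} ha := ⟨inv_mem ha.1, fun z hz => by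
    rw [← ha.2 _ (show a⁻¹⁻¹ * z * a⁻¹ ∈ Z by
      rw [inv_inv]; exact (Subgroup.mem_normalizer_iff.1 ha.1 z).1 hz)]
    congr 1
    group⟩

/-- the translate of an eigenvalue function -/
def cj (g : G) (ν : G → K) : G → K := fun z => ν (g⁻¹ * z * g)

theorem conj_mem_of_normalizes {Z : Subgroup G} {g : G} (hg : g ∈ normalizer (Z : Set G)) :
    ∀ z ∈ Z, g⁻¹ * z * g ∈ Z := fun z hz => (Subgroup.mem_normalizer_iff''.1 hg z).1 hz

theorem mem_comp_cj {ρ : G →* Module.End K V} {Z : Subgroup G} {ν : G → K} {v : V} {g : G}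
    (hg : g ∈ normalizer (Z : Set G)) (hv : v ∈ comp ρ Z ν) : ρ g v ∈ comp ρ Z (cj g ν) :=
  map_comp_mem (conj_mem_of_normalizes hg) hv

theorem mem_nuStab_cj {Z : Subgroup G} {ν : G → K} {g a : G} (hg : g ∈ normalizer (Z : Set G)) :
    a ∈ nuStab Z (cj g ν) ↔ g⁻¹ * a * g ∈ nuStab Z ν := by
  constructor
  · rintro ⟨ha, h⟩
    refine ⟨mul_mem (mul_mem (inv_mem hg) ha) hg, fun z hz => ?_⟩
    have := h (g * z * g⁻¹) ((Subgroup.mem_normalizer_iff.1 hg z).1 hz)
    simp only [cj] at this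
    rw [show g⁻¹ * (g * z * g⁻¹) * g = z by group] at this
    rw [← this]
    congr 1
    group
  · rintro ⟨ha, h⟩
    have ha' : a ∈ normalizer (Z : Set G) := by
      have := mul_mem (mul_mem hg ha) (inv_mem hg)
      simpa [mul_assoc] using this
    refine ⟨ha', fun z hz => ?_⟩
    simp only [cj]
    rw [← h _ (conj_mem_of_normalizes hg z hz)]
    congr 1
    group

theorem stab_le_comp {ρ : G →* Module.End K V} {Z : Subgroup G} {ν : G → K} {g : G} (hg : g ∈ nuStab Z ν)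
    {v : V} (hv : v ∈ comp ρ Z ν) : ρ g v ∈ comp ρ Z ν :=
  mem_comp.2 fun z hz => by
    rw [← hg.2 z hz]
    exact mem_comp.1 (mem_comp_cj hg.1 hv) z hz

theorem nu_mul {ρ : G →* Module.End K V} {Z : Subgroup G} {ν : G → K} {v : V} (hv : v ∈ comp ρ Z ν) (hv0 : v ≠ 0)
    {a b : G} (ha : a ∈ Z) (hb : b ∈ Z) : ν (a * b) = ν a * ν b := by
  rw [mem_comp] at hv
  apply smul_left_injective K hv0
  show ν (a * b) • v = (ν a * ν b) • v
  rw [← hv _ (Z.mul_mem ha hb), map_mul, Module.End.mul_apply, hv b hb, map_smul, hv a ha, smul_smul, mul_comm]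

theorem nu_one {ρ : G →* Module.End K V} {Z : Subgroup G} {ν : G → K} {v : V} (hv : v ∈ comp ρ Z ν) (hv0 : v ≠ 0) :
    ν 1 = 1 := by
  apply smul_left_injective K hv0
  show ν 1 • v = (1 : K) • v
  rw [← mem_comp.1 hv 1 Z.one_mem, map_one, Module.End.one_apply, one_smul]

theorem nu_pow {ρ : G →* Module.End K V} {Z : Subgroup G} {ν : G → K} {v : V} (hv : v ∈ comp ρ Z ν) (hv0 : v ≠ 0)
    {a : G} (ha : a ∈ Z) (n : ℕ) : ν (a ^ n) = ν a ^ n := by
  induction n with
  | zero => rw [pow_zero, pow_zero, nu_one hv hv0]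
  | succ n ih => rw [pow_succ, pow_succ, nu_mul hv hv0 (Z.pow_mem ha n) ha, ih]

/-- a moved function has pairwise different translates -/
theorem distinct_of_moved {Z : Subgroup G} {ν : G → K} {x : G} (hx : x ∈ normalizer (Z : Set G)) {π : ℕ}
    [Fact π.Prime] (hxπ : orderOf x = π) (hmoved : x ∉ nuStab Z ν) {a b : G} (ha : a ∈ zpowers x) (hb : b ∈ zpowers x)
    (h : ∀ z ∈ Z, ν (a⁻¹ * z * a) = ν (b⁻¹ * z * b)) : a = b := by
  by_contra hne
  have hsub : zpowers x ≤ normalizer (Z : Set G) := zpowers_le.2 hx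
  have hab : a⁻¹ * b ∈ nuStab Z ν := by
    refine ⟨mul_mem (inv_mem (hsub ha)) (hsub hb), fun z hz => ?_⟩
    have hz' : a * z * a⁻¹ ∈ Z := (Subgroup.mem_normalizer_iff.1 (hsub ha) z).1 hz
    have e := h _ hz'
    rw [show a⁻¹ * (a * z * a⁻¹) * a = z by group] at e
    rw [e]
    congr 1
    group
  apply hmoved
  obtain ⟨m, hm⟩ := Subgroup.mem_zpowers_iff.1 (mem_zpowers_of_prime_card (p := π) (G := zpowers x)
    (by rw [Nat.card_zpowers, hxπ]) (g := ⟨a⁻¹ * b, mul_mem (inv_mem ha) hb⟩) (g' := ⟨x, mem_zpowers x⟩)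
    (fun e => hne (inv_mul_eq_one.1 (congrArg (fun w : zpowers x => (w : G)) e))))
  have e : (a⁻¹ * b) ^ m = x := by simpa using congrArg (fun w : zpowers x => (w : G)) hm
  rw [← e]
  exact zpow_mem hab m

/-- the sum over a cyclic group -/
theorem map_sum_zpowers (ρ : G →* Module.End K V) {x g : G} (hg : ∀ a ∈ zpowers x, g * a * g⁻¹ ∈ zpowers x)
    [Fintype (zpowers x)] (v : V) (hgv : ρ g v = v) :
    ρ g (∑ a : zpowers x, ρ (a : G) v) = ∑ a : zpowers x, ρ (a : G) v := by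
  rw [map_sum]
  let h : zpowers x → zpowers x := fun a => ⟨g * a * g⁻¹, hg a a.2⟩
  have hb : Function.Bijective h := Finite.injective_iff_bijective.1 fun a b e =>
    Subtype.ext (mul_left_cancel (mul_right_cancel (congrArg Subtype.val e : g * (a : G) * g⁻¹ = g * b * g⁻¹)))
  refine Fintype.sum_bijective h hb _ _ fun a => ?_
  show ρ g (ρ (a : G) v) = ρ (g * (a : G) * g⁻¹) v
  conv_lhs => rw [← Module.End.mul_apply, ← map_mul, show g * (a : G) = (g * (a : G) * g⁻¹) * g by group, map_mul,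
    Module.End.mul_apply, hgv]

theorem map_self_sum_zpowers (ρ : G →* Module.End K V) {x : G} [Fintype (zpowers x)] (v : V) :
    ρ x (∑ a : zpowers x, ρ (a : G) v) = ∑ a : zpowers x, ρ (a : G) v := by
  rw [map_sum]
  refine Fintype.sum_bijective _ (Group.mulLeft_bijective (⟨x, mem_zpowers x⟩ : zpowers x)) _ _ fun a => ?_
  show ρ x (ρ (a : G) v) = ρ (x * (a : G)) v
  rw [map_mul]
  rfl

/-- centralisers of the fixed vectors act trivially on moved components -/
theorem centralises_moved (ρ : G →* Module.End K V) {Z : Subgroup G} {ν : G → K} {v : V} (hv : v ∈ comp ρ Z ν)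
    {f : G} (hf : f ∈ normalizer (Z : Set G)) {π : ℕ} [Fact π.Prime] (hfπ : orderOf f = π)
    (hmoved : f ∉ nuStab Z ν) {c : G} (hcZ : ∀ z ∈ Z, c * z = z * c) (hcf : c * f = f * c)
    (hfix : ∀ w, ρ f w = w → ρ c w = w) : ρ c v = v := by
  haveI := Fintype.ofFinite (zpowers f)
  by_contra hne
  have hd : ρ c v - v ∈ comp ρ Z ν := by
    refine sub_mem (mem_comp.2 fun z hz => ?_) hv
    rw [← Module.End.mul_apply, ← map_mul, ← hcZ z hz, map_mul, Module.End.mul_apply, mem_comp.1 hv z hz, map_smul]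
  refine sum_translates_ne_zero ρ hd (sub_ne_zero.2 hne) (fun a : zpowers f => (a : G))
    (fun a => conj_mem_of_normalizes (zpowers_le.2 hf a.2))
    (fun a b h => Subtype.ext (distinct_of_moved hf hfπ hmoved a.2 b.2 h)) ?_
  have h1 := hfix _ (map_self_sum_zpowers ρ (x := f) v)
  rw [map_sum] at h1
  simp only [map_sub]
  rw [Finset.sum_sub_distrib, sub_eq_zero]
  refine Eq.trans (Finset.sum_congr rfl fun a _ => ?_) h1
  rw [← Module.End.mul_apply, ← Module.End.mul_apply, ← map_mul, ← map_mul]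
  obtain ⟨m, hm⟩ := Subgroup.mem_zpowers_iff.1 a.2
  rw [← hm, (Commute.zpow_right (hcf : Commute c f) m).eq]

/-- coprime lifting of a fixed coset -/
theorem lift_fixed {D : Subgroup G} {e : G} {π : ℕ} [Fact π.Prime] (he : orderOf e = π)
    (heD : e ∈ normalizer (D : Set G)) (hcop : ¬ π ∣ Nat.card D) {x : G} (hx : x⁻¹ * (e * x * e⁻¹) ∈ D) :
    ∃ d ∈ D, e * (x * d) = (x * d) * e := by
  obtain ⟨d, hd, hxd⟩ := Cfsg.Lib.Coprime.exists_fixed_in_coset (k := x) (A := zpowers e) (zpowers_le.2 heD)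
    (by rw [Nat.card_zpowers, he]; exact (Fact.out : π.Prime).coprime_iff_not_dvd.2 hcop)
    (Or.inl (Group.isSolvable_of_comm fun a c => mul_comm' a c)) (fun a ha => by
      have key : ∀ n : ℕ, x⁻¹ * (e ^ n * x * (e ^ n)⁻¹) ∈ D := by
        intro n
        induction n with
        | zero => simp
        | succ n ih =>
          have h2 : e * (x⁻¹ * (e ^ n * x * (e ^ n)⁻¹)) * e⁻¹ ∈ D := (Subgroup.mem_normalizer_iff.1 heD _).1 ih
          have h3 := D.mul_mem hx h2
          rw [show x⁻¹ * (e * x * e⁻¹) * (e * (x⁻¹ * (e ^ n * x * (e ^ n)⁻¹)) * e⁻¹) =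
            x⁻¹ * (e * e ^ n * x * (e * e ^ n)⁻¹) by group, ← pow_succ'] at h3
          exact h3
      obtain ⟨n, rfl⟩ := (isOfFinOrder_of_finite e).mem_powers_iff_mem_zpowers.2 ha
      simpa [mul_assoc] using key n)
  exact ⟨d, hd, mem_centralizer_iff.1 hxd e (mem_zpowers e)⟩

theorem zpowers_conj {f σ : G} (rel : σ * f * σ⁻¹ ∈ zpowers f) : σ ∈ normalizer (zpowers f : Set G) := by
  have hle : (zpowers f).map (MulAut.conj σ).toMonoidHom ≤ zpowers f := by
    rw [MonoidHom.map_zpowers]; exact zpowers_le.2 rel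
  have heq : (zpowers f).map (MulAut.conj σ).toMonoidHom = zpowers f :=
    Subgroup.eq_of_le_of_card_ge hle (Nat.card_congr (Subgroup.equivMapOfInjective _ _
      (MulAut.conj σ).injective).toEquiv).le
  rw [Subgroup.mem_normalizer_iff]
  intro a
  constructor
  · intro ha; rw [← heq]; exact ⟨a, ha, rfl⟩
  · intro ha
    rw [← heq] at ha
    obtain ⟨b, hb, hbe⟩ := ha
    have hbe' : σ * b * σ⁻¹ = σ * a * σ⁻¹ := hbe
    rw [← mul_left_cancel (mul_right_cancel hbe')]
    exact hb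

theorem card_pgroup {s : ℕ} [Fact s.Prime] {D : Subgroup G} (h : IsPGroup s D) {π : ℕ} (hπ : π.Prime) (hne : s ≠ π) :
    ¬ π ∣ Nat.card D := by
  obtain ⟨a, ha⟩ := IsPGroup.iff_card.1 h
  rw [ha]
  exact fun hd => hne ((Nat.prime_dvd_prime_iff_eq hπ Fact.out).1 (hπ.dvd_of_dvd_pow hd)).symm

theorem solvable_pgroup {s : ℕ} [Fact s.Prime] {D : Subgroup G} (h : IsPGroup s D) : Group.IsSolvable D := by
  haveI := h.isNilpotent
  infer_instance

namespace Cfg

variable {ρ : G →* Module.End K V} {S T : Subgroup G} {f σ : G} {p q s t : ℕ} [Fact p.Prime] [Fact q.Prime]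
  [Fact s.Prime] [Fact t.Prime]

theorem cop (c : Cfg ρ S T f σ p q s t) : (Nat.card T).Coprime (Nat.card S) := by
  obtain ⟨a, ha⟩ := IsPGroup.iff_card.1 c.hS
  obtain ⟨b, hb⟩ := IsPGroup.iff_card.1 c.hT
  rw [ha, hb]
  exact (((Nat.coprime_primes Fact.out Fact.out).2 c.st.symm).pow_left _).pow_right _

theorem p_ne_two (c : Cfg ρ S T f σ p q s t) : p ≠ 2 := by
  intro h
  obtain ⟨n, hn⟩ := (isOfFinOrder_of_finite f).mem_powers_iff_mem_zpowers.2 c.rel
  have hn' : f ^ n = σ * f * σ⁻¹ := hn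
  rw [← pow_mod_orderOf, c.ordf, h] at hn'
  rcases Nat.mod_two_eq_zero_or_one n with e | e <;> rw [e] at hn'
  · rw [pow_zero, eq_comm, conj_eq_one_iff] at hn'
    have := c.ordf
    rw [hn', orderOf_one] at this
    exact (Fact.out : p.Prime).ne_one this.symm
  · rw [pow_one] at hn'
    exact c.ncomm (by
      have := congrArg (· * σ) hn'
      simpa [mul_assoc] using this.symm)

theorem commutator_eq (c : Cfg ρ S T f σ p q s t) : ⁅S, T⁆ = S := by
  by_contra hne
  have hle : ⁅S, T⁆ ≤ S := Cfsg.Lib.Coprime.commutator_le_of_le_normalizer c.TS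
  have hn : ∀ g, g ∈ normalizer (S : Set G) → g ∈ normalizer (T : Set G) →
      g ∈ normalizer ((⁅S, T⁆ : Subgroup G) : Set G) := by
    intro g h1 h2
    refine Cfsg.Lib.Coprime.mem_normalizer_of_conj_mem ?_ ?_
    all_goals intro x hx
    · have : ⁅S, T⁆.map (MulAut.conj g).toMonoidHom ≤ ⁅S, T⁆ := by
        rw [Subgroup.map_commutator]
        refine Subgroup.commutator_mono ?_ ?_ <;> rintro _ ⟨y, hy, rfl⟩
        · exact (Subgroup.mem_normalizer_iff.1 h1 y).1 hy
        · exact (Subgroup.mem_normalizer_iff.1 h2 y).1 hy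
      exact this ⟨x, hx, rfl⟩
    · have : ⁅S, T⁆.map (MulAut.conj g⁻¹).toMonoidHom ≤ ⁅S, T⁆ := by
        rw [Subgroup.map_commutator]
        refine Subgroup.commutator_mono ?_ ?_ <;> rintro _ ⟨y, hy, rfl⟩
        · exact (Subgroup.mem_normalizer_iff.1 (inv_mem h1) y).1 hy
        · exact (Subgroup.mem_normalizer_iff.1 (inv_mem h2) y).1 hy
      have := this ⟨x, hx, rfl⟩
      simpa using this
  have hT := c.minS _ hle (Cfsg.Lib.Coprime.le_normalizer_commutator_right T S) (hn f c.fS c.fT) (hn σ c.σS c.σT) hne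
  have h2 : ⁅⁅S, T⁆, T⁆ = ⊥ := by
    rw [commutator_eq_bot_iff_le_centralizer]
    exact fun x hx => mem_centralizer_iff.2 fun y hy => hT x hx y hy
  rw [Cfsg.Lib.Coprime.commutator_commutator_eq c.TS c.cop (Or.inr (solvable_pgroup c.hS)),
    commutator_eq_bot_iff_le_centralizer] at h2
  obtain ⟨x, hx, y, hy, hxy⟩ := c.ne
  exact hxy (mem_centralizer_iff.1 (h2 hx) y hy)

/-- the centre of `S` -/
def ctr (S : Subgroup G) : Subgroup G := S ⊓ centralizer (S : Set G)

theorem mem_normalizer_ctr {g : G} (hg : g ∈ normalizer (S : Set G)) : g ∈ normalizer (ctr S : Set G) := by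
  refine Cfsg.Lib.Coprime.mem_normalizer_of_conj_mem ?_ ?_
  all_goals intro x hx
  · refine ⟨(Subgroup.mem_normalizer_iff.1 hg x).1 hx.1, mem_centralizer_iff.2 fun y hy => ?_⟩
    have h := mem_centralizer_iff.1 hx.2 _ ((Subgroup.mem_normalizer_iff''.1 hg y).1 hy)
    have := congrArg (fun w => g * w * g⁻¹) h
    simpa [mul_assoc] using this
  · refine ⟨(Subgroup.mem_normalizer_iff''.1 hg x).1 hx.1, mem_centralizer_iff.2 fun y hy => ?_⟩
    have h := mem_centralizer_iff.1 hx.2 _ ((Subgroup.mem_normalizer_iff.1 hg y).1 hy)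
    have := congrArg (fun w => g⁻¹ * w * g) h
    simpa [mul_assoc] using this

theorem gen_normalizes (c : Cfg ρ S T f σ p q s t) {g : G} (hg : Gen S T f σ g) : g ∈ normalizer (S : Set G) := by
  rcases hg with h | h | rfl | rfl
  · exact le_normalizer h
  · exact c.TS h
  · exact c.fS
  · exact c.σS

/-- the structure of `S`: class two, central `s`-th powers -/
theorem structure_S (c : Cfg ρ S T f σ p q s t) :
    (∀ x ∈ S, ∀ y ∈ S, x⁻¹ * y⁻¹ * x * y ∈ ctr S) ∧ (∀ x ∈ S, x ^ s ∈ ctr S) ∧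
      ((∀ x ∈ S, ∀ y ∈ S, x * y = y * x) → (∀ x ∈ S, x ^ s = 1) ∧
        ∀ x ∈ S, (∀ y ∈ T, y * x = x * y) → x = 1) ∧
      (¬ (∀ x ∈ S, ∀ y ∈ S, x * y = y * x) → (∀ x ∈ ctr S, ∀ y ∈ T, y * x = x * y)) ∧
      (∀ x ∈ S, (∀ y ∈ T, y * x = x * y) → x ∈ ctr S) := by
  have hTS := c.TS
  -- the subgroup generated by commutators and powers
  set gens : Set G := {g | (∃ x ∈ S, ∃ y ∈ S, x⁻¹ * y⁻¹ * x * y = g) ∨ ∃ x ∈ S, x ^ s = g} with hgens
  set Ψ := Subgroup.closure gens with hΨ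
  have hΨS : Ψ ≤ S := by
    rw [hΨ, closure_le]
    rintro g (⟨x, hx, y, hy, rfl⟩ | ⟨x, hx, rfl⟩)
    · exact S.mul_mem (S.mul_mem (S.mul_mem (S.inv_mem hx) (S.inv_mem hy)) hx) hy
    · exact S.pow_mem hx s
  have hΨn : ∀ g ∈ normalizer (S : Set G), g ∈ normalizer (Ψ : Set G) := by
    have hmap : ∀ g ∈ normalizer (S : Set G), Ψ.map (MulAut.conj g).toMonoidHom ≤ Ψ := by
      intro g hg
      rw [hΨ, MonoidHom.map_closure, closure_le]
      have hc : ∀ z, z ∈ S → g * z * g⁻¹ ∈ S := fun z hz => (Subgroup.mem_normalizer_iff.1 hg z).1 hz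
      rintro _ ⟨z, (⟨x, hx, y, hy, rfl⟩ | ⟨x, hx, rfl⟩), rfl⟩
      · refine Subgroup.subset_closure (Or.inl ⟨_, hc x hx, _, hc y hy, ?_⟩)
        simp only [MulEquiv.toMonoidHom_eq_coe, MonoidHom.coe_coe, MulAut.conj_apply]
        group
      · refine Subgroup.subset_closure (Or.inr ⟨_, hc x hx, ?_⟩)
        simp only [MulEquiv.toMonoidHom_eq_coe, MonoidHom.coe_coe, MulAut.conj_apply]
        exact conj_pow
    intro g hg
    refine Cfsg.Lib.Coprime.mem_normalizer_of_conj_mem (fun x hx => hmap g hg ⟨x, hx, rfl⟩) fun x hx => ?_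
    have := hmap g⁻¹ (inv_mem hg) ⟨x, hx, rfl⟩
    simpa using this
  -- it is proper
  have hΨne : Ψ ≠ S := by
    intro heq
    haveI hnil : Group.IsNilpotent S := c.hS.isNilpotent
    haveI : Nontrivial S := by
      obtain ⟨x, hx, y, hy, hxy⟩ := c.ne
      exact ⟨⟨⟨x, hx⟩, 1, fun e => hxy (by rw [show x = 1 from congrArg Subtype.val e]; simp)⟩⟩
    have hcomm : commutator S ≠ ⊤ :=
      (Group.IsSolvable.commutator_lt_top_of_nontrivial (G := S)).ne
    haveI : Nontrivial (Abelianization S) := by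
      by_contra h
      rw [not_nontrivial_iff_subsingleton] at h
      refine hcomm (eq_top_iff.2 fun x _ => ?_)
      rw [← Abelianization.ker_of, MonoidHom.mem_ker]
      exact Subsingleton.elim (α := Abelianization S) _ _
    have hAp : IsPGroup s (Abelianization S) := c.hS.of_surjective Abelianization.of (QuotientGroup.mk'_surjective _)
    obtain ⟨a, ha⟩ := IsPGroup.iff_card.1 hAp
    have hdvd : s ∣ Nat.card (Abelianization S) := by
      rw [ha]
      refine dvd_pow_self s fun h => ?_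
      rw [h, pow_zero, Nat.card_eq_one_iff_unique] at ha
      exact not_subsingleton _ ha.1
    obtain ⟨w, hw⟩ := exists_prime_orderOf_dvd_card' s hdvd
    set P := (powMonoidHom s : Abelianization S →* Abelianization S).range with hP
    have hPne : P ≠ ⊤ := by
      intro h
      have hsurj : Function.Surjective (powMonoidHom s : Abelianization S →* Abelianization S) :=
        MonoidHom.range_eq_top.1 h
      have hinj := Finite.injective_iff_surjective.2 hsurj
      have h1 : w = 1 := hinj (by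
        show w ^ s = (1 : Abelianization S) ^ s
        rw [one_pow, ← hw, pow_orderOf_eq_one])
      rw [h1, orderOf_one] at hw
      exact (Fact.out : s.Prime).ne_one hw.symm
    have hle : Ψ ≤ (P.comap Abelianization.of).map S.subtype := by
      rw [hΨ, closure_le]
      rintro g (⟨x, hx, y, hy, rfl⟩ | ⟨x, hx, rfl⟩)
      · refine ⟨⟨x, hx⟩⁻¹ * ⟨y, hy⟩⁻¹ * ⟨x, hx⟩ * ⟨y, hy⟩, ?_, rfl⟩
        show Abelianization.of _ ∈ P
        rw [map_mul, map_mul, map_mul, map_inv, map_inv, mul_comm (Abelianization.of (⟨x, hx⟩ : S))⁻¹,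
          inv_mul_cancel_right, inv_mul_cancel]
        exact P.one_mem
      · refine ⟨⟨x, hx⟩ ^ s, ?_, rfl⟩
        show Abelianization.of _ ∈ P
        rw [map_pow]
        exact ⟨_, rfl⟩
    rw [heq] at hle
    refine hPne (eq_top_iff.2 fun w _ => ?_)
    obtain ⟨x, rfl⟩ := QuotientGroup.mk'_surjective _ w
    obtain ⟨y, hy, hyx⟩ := hle x.2
    rw [show x = y from Subtype.ext hyx.symm]
    exact hy
  have hΨT := c.minS Ψ hΨS ((fun g hg => hΨn g (hTS hg))) (hΨn f c.fS) (hΨn σ c.σS) hΨne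
  have hcomΨ : ∀ x ∈ S, ∀ y ∈ S, ⁅x, y⁆ ∈ Ψ := fun x hx y hy =>
    Subgroup.subset_closure (Or.inl ⟨x⁻¹, S.inv_mem hx, y⁻¹, S.inv_mem hy, by
      rw [commutatorElement_def, inv_inv, inv_inv]⟩)
  -- three subgroups
  have hrot : ∀ X : Subgroup G, X ≤ S → (∀ x ∈ X, ∀ y ∈ T, y * x = x * y) → X ≤ ctr S := by
    intro X hXS hXT
    refine le_inf hXS ?_
    rw [← commutator_eq_bot_iff_le_centralizer, commutator_comm]
    have h1 : ⁅⁅X, T⁆, S⁆ = ⊥ := by
      have : ⁅X, T⁆ = ⊥ := by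
        rw [commutator_eq_bot_iff_le_centralizer]
        exact fun x hx => mem_centralizer_iff.2 fun y hy => hXT x hx y hy
      rw [this, commutator_bot_left]
    have h2 : ⁅⁅S, X⁆, T⁆ = ⊥ := by
      rw [commutator_eq_bot_iff_le_centralizer]
      intro x hx
      have hx' : x ∈ Ψ := (commutator_le.2 fun a ha b hb => hcomΨ a ha b (hXS hb)) hx
      exact mem_centralizer_iff.2 fun y hy => hΨT x hx' y hy
    have h3 := commutator_commutator_eq_bot_of_rotate h2 h1
    rw [commutator_comm T S, c.commutator_eq] at h3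
    exact h3
  have hΨZ : Ψ ≤ ctr S := hrot Ψ hΨS hΨT
  refine ⟨fun x hx y hy => hΨZ (Subgroup.subset_closure (Or.inl ⟨x, hx, y, hy, rfl⟩)),
    fun x hx => hΨZ (Subgroup.subset_closure (Or.inr ⟨x, hx, rfl⟩)), fun hab => ?_, fun hna => ?_, fun x hx hxT => ?_⟩
  · haveI : IsMulCommutative S := ⟨⟨fun a b => Subtype.ext (hab a a.2 b b.2)⟩⟩
    have hd := (Cfsg.Lib.Coprime.abelian_coprime_decomp hTS c.cop).1
    rw [c.commutator_eq] at hd
    have hfix : ∀ x ∈ S, (∀ y ∈ T, y * x = x * y) → x = 1 := fun x hx hxT => by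
      have hm : x ∈ S ⊓ centralizer (T : Set G) ⊓ S := ⟨⟨hx, mem_centralizer_iff.2 hxT⟩, hx⟩
      rw [hd, Subgroup.mem_bot] at hm
      exact hm
    exact ⟨fun x hx => hfix _ (S.pow_mem hx s) (hΨT _ (Subgroup.subset_closure (Or.inr ⟨x, hx, rfl⟩))), hfix⟩
  · refine c.minS _ inf_le_left (fun g hg => mem_normalizer_ctr (hTS hg)) (mem_normalizer_ctr c.fS)
      (mem_normalizer_ctr c.σS) fun e => hna fun x hx y hy => ?_
    have hy' : y ∈ ctr S := by rw [e]; exact hy
    exact mem_centralizer_iff.1 hy'.2 x hx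
  · set X := S ⊓ centralizer (T : Set G) with hX
    exact hrot X inf_le_left (fun z hz => mem_centralizer_iff.1 hz.2) ⟨hx, mem_centralizer_iff.2 hxT⟩

end Cfg

end Cfsg.Lib.SolvStruct.PQHeight
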