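import Mathlib
import Cfsg.Agent.SolvStruct.PQHeight.Core

/-!
The two cases of the configuration: the normal operator is trivial or non-trivial on `T`.
-/

set_option autoImplicit false
set_option linter.unusedSectionVars false
set_option linter.style.haveILetI false

namespace Cfsg.Lib.SolvStruct.PQHeight

open Subgroup Module
open scoped Classical commutatorElement

universe u v w

variable {K : Type u} [Field K] [IsAlgClosed K] {V : Type v} [AddCommGroup V] [Module K V] [FiniteDimensional K V]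
  {G : Type w} [Group G] [Finite G]

/-- elements fixed by `e` modulo `N` -/
def fixSec (S N : Subgroup G) (e : G) (hNS : S ≤ normalizer (N : Set G)) : Subgroup G where
  carrier := {u | u ∈ S ∧ u⁻¹ * (e * u * e⁻¹) ∈ N}
  one_mem' := ⟨S.one_mem, by simp⟩
  mul_mem' {a b} ha hb := ⟨S.mul_mem ha.1 hb.1, by
    have h := N.mul_mem ((Subgroup.mem_normalizer_iff''.1 (hNS hb.1) _).1 ha.2) hb.2
    rw [show b⁻¹ * (a⁻¹ * (e * a * e⁻¹)) * b * (b⁻¹ * (e * b * e⁻¹)) = (a * b)⁻¹ * (e * (a * b) * e⁻¹) by group] at h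
    exact h⟩
  inv_mem' {a} ha := ⟨S.inv_mem ha.1, by
    have h := (Subgroup.mem_normalizer_iff.1 (hNS ha.1) _).1 (N.inv_mem ha.2)
    rw [show a * (a⁻¹ * (e * a * e⁻¹))⁻¹ * a⁻¹ = a⁻¹⁻¹ * (e * a⁻¹ * e⁻¹) by group] at h
    exact h⟩

theorem mem_fixSec {S N : Subgroup G} {e : G} {hNS : S ≤ normalizer (N : Set G)} (u : G) :
    u ∈ fixSec S N e hNS ↔ u ∈ S ∧ u⁻¹ * (e * u * e⁻¹) ∈ N := Iff.rfl

/-- elements of `S` whose action on `U` commutes with that of `S` -/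
def rad (ρ : G →* Module.End K V) (U : Submodule K V) (S : Subgroup G) : Subgroup G where
  carrier := {g | g ∈ S ∧ g ∈ stab ρ U ∧ ∀ w ∈ S, ∀ v ∈ U, ρ g (ρ w v) = ρ w (ρ g v)}
  one_mem' := ⟨S.one_mem, one_mem _, fun w _ v _ => by simp⟩
  mul_mem' {a b} ha hb := ⟨S.mul_mem ha.1 hb.1, mul_mem ha.2.1 hb.2.1, fun w hw v hv => by
    rw [map_mul, Module.End.mul_apply, Module.End.mul_apply, hb.2.2 w hw v hv, ha.2.2 w hw _ ((hb.2.1 v).2 hv)]⟩
  inv_mem' {a} ha := ⟨S.inv_mem ha.1, inv_mem ha.2.1, fun w hw v hv => by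
    have h := ha.2.2 w hw _ (((inv_mem ha.2.1) v).2 hv)
    have e : ρ a (ρ a⁻¹ v) = v := by simpa using apply_inv_apply ρ a⁻¹ v
    rw [e] at h
    rw [← h, apply_inv_apply]⟩

theorem mem_normalizer_rad {ρ : G →* Module.End K V} {U : Submodule K V} {S : Subgroup G} {a : G}
    (ha : a ∈ normalizer (S : Set G)) (haU : a ∈ stab ρ U) : a ∈ normalizer (rad ρ U S : Set G) := by
  have key : ∀ b, b ∈ normalizer (S : Set G) → b ∈ stab ρ U → ∀ x ∈ rad ρ U S, b * x * b⁻¹ ∈ rad ρ U S := by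
    intro b hb hbU x hx
    refine ⟨(Subgroup.mem_normalizer_iff.1 hb x).1 hx.1, mul_mem (mul_mem hbU hx.2.1) (inv_mem hbU), fun w hw v hv => ?_⟩
    have h := congrArg (ρ b) (hx.2.2 _ ((Subgroup.mem_normalizer_iff''.1 hb w).1 hw) _ (((inv_mem hbU) v).2 hv))
    simp only [← Module.End.mul_apply, ← map_mul] at h ⊢
    convert h using 3 <;> group
  refine Cfsg.Lib.Coprime.mem_normalizer_of_conj_mem (key a ha haU) fun x hx => ?_
  simpa using key a⁻¹ (inv_mem ha) (inv_mem haU) x hx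

theorem fixed_zpowers {ρ : G →* Module.End K V} {f : G} {w : V} (h : ρ f w = w) :
    ∀ a ∈ zpowers f, ρ a w = w := by
  intro a ha
  obtain ⟨n, rfl⟩ := (isOfFinOrder_of_finite f).mem_powers_iff_mem_zpowers.2 ha
  show ρ (f ^ n) w = w
  induction n with
  | zero => simp
  | succ n ih => rw [pow_succ', map_mul, Module.End.mul_apply, ih (Subgroup.pow_mem _ (mem_zpowers f) n), h]

theorem comm_zpowers {f c : G} (h : f * c = c * f) : ∀ a ∈ zpowers f, a * c = c * a := by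
  intro a ha
  obtain ⟨m, rfl⟩ := Subgroup.mem_zpowers_iff.1 ha
  exact (Commute.zpow_left (h : Commute f c) m).eq

/-- the numerical contradiction -/
theorem arith {s π W N : ℕ} [hs : Fact s.Prime] [hπ : Fact π.Prime] (hN : ∃ c, N = s ^ c) (hW : W = N ^ π)
    (hsq : IsSquare W) (hb : W ≤ (π - 1) ^ 2 * N) (h1 : W ≠ 1) : False := by
  obtain ⟨c, rfl⟩ := hN
  obtain ⟨d, hd⟩ := hsq
  have hsp : s.Prime := hs.out
  have hπp : π.Prime := hπ.out
  have hc : c ≠ 0 := fun h => h1 (by rw [hW, h, pow_zero, one_pow])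
  obtain ⟨k, hk⟩ : ∃ k, π = k + 1 := ⟨π - 1, by have := hπp.one_lt; omega⟩
  have hle : (s ^ c) ^ k ≤ k ^ 2 := by
    rw [hW, hk, Nat.add_sub_cancel, pow_succ] at hb
    exact Nat.le_of_mul_le_mul_right hb (pow_pos hsp.pos c)
  rcases hπp.eq_two_or_odd with h2 | hodd
  · have hk1 : k = 1 := by omega
    rw [hk1, pow_one, one_pow] at hle
    have := Nat.one_lt_pow hc hsp.one_lt
    omega
  · have hd0 : d ≠ 0 := fun h => by
      rw [h, zero_mul, hW] at hd
      exact absurd hd (pow_ne_zero _ (pow_ne_zero _ hsp.pos.ne'))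
    have he : c * π = 2 * d.factorization s := by
      have e := congrArg (fun m => m.factorization s) hd
      simp only [hW, ← pow_mul, Nat.Prime.factorization_self hsp, Nat.factorization_pow, Finsupp.smul_apply,
        smul_eq_mul, mul_one, Nat.factorization_mul hd0 hd0, Finsupp.add_apply] at e
      omega
    have hc2 : 2 ≤ c := by
      rcases Nat.lt_or_ge c 2 with h | h
      · have : c = 1 := by omega
        rw [this, one_mul] at he
        omega
      · exact h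
    have h4 : 4 ^ k ≤ k ^ 2 := by
      refine le_trans (Nat.pow_le_pow_left ?_ k) hle
      calc 4 = 2 ^ 2 := rfl
        _ ≤ s ^ 2 := Nat.pow_le_pow_left hsp.two_le 2
        _ ≤ s ^ c := Nat.pow_le_pow_right hsp.pos hc2
    have h5 : k ^ 2 < (2 ^ k) ^ 2 := Nat.pow_lt_pow_left Nat.lt_two_pow_self two_ne_zero
    rw [← pow_mul, mul_comm, pow_mul] at h5
    exact absurd h4 (not_le.2 h5)

namespace Cfg

variable {ρ : G →* Module.End K V} {S T : Subgroup G} {f σ : G} {p q s t : ℕ} [Fact p.Prime] [Fact q.Prime]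
  [Fact s.Prime] [Fact t.Prime]

theorem conj_comm (c : Cfg ρ S T f σ p q s t) {x : G} (h : f * x = x * f) :
    f * (σ * x * σ⁻¹) = (σ * x * σ⁻¹) * f := by
  have hf : σ⁻¹ * f * σ ∈ zpowers f := (Subgroup.mem_normalizer_iff''.1 (zpowers_conj c.rel) f).1 (mem_zpowers f)
  have := congrArg (fun w => σ * w * σ⁻¹) (comm_zpowers h _ hf)
  simpa [mul_assoc] using this

/-- the fixed points of `f` in `S` centralise the fixed points of `f` in `V` -/
theorem fix_fix (c : Cfg ρ S T f σ p q s t) {x : G} (hx : x ∈ S) (hxf : f * x = x * f) {w : V} (hw : ρ f w = w) :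
    ρ x w = w := by
  let ρ' : G →* AddMonoid.End V :=
    { toFun := fun g => (ρ g).toAddMonoidHom
      map_one' := by rw [map_one]; rfl
      map_mul' := fun a b => by rw [map_mul]; rfl }
  let C : Subgroup G := S ⊓ centralizer (zpowers f : Set G)
  have hC : ∀ y, y ∈ C ↔ y ∈ S ∧ f * y = y * f := fun y =>
    ⟨fun h => ⟨h.1, mem_centralizer_iff.1 h.2 f (mem_zpowers f)⟩,
      fun h => ⟨h.1, mem_centralizer_iff.2 (comm_zpowers h.2)⟩⟩
  refine fpf_trivial ρ' (LinearMap.ker (ρ f - 1)).toAddSubgroup C c.ordσ ?_ ?_ ?_ ?_ ?_ ?_ x ((hC x).2 ⟨hx, hxf⟩) w ?_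
  · intro y hy
    exact (hC _).2 ⟨(Subgroup.mem_normalizer_iff.1 c.σS y).1 hy.1, c.conj_comm ((hC y).1 hy).2⟩
  · intro y hy h
    exact c.fixS y hy.1 ((hC y).1 hy).2 h
  · intro y hy v hv
    have hv' : ρ f v = v := sub_eq_zero.1 (by simpa using hv)
    show ρ y v ∈ LinearMap.ker (ρ f - 1)
    rw [LinearMap.mem_ker, LinearMap.sub_apply, Module.End.one_apply, sub_eq_zero, ← Module.End.mul_apply, ← map_mul,
      ((hC y).1 hy).2, map_mul, Module.End.mul_apply, hv']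
  · intro v hv
    have hv' : ρ f v = v := sub_eq_zero.1 (by simpa using hv)
    show ρ σ v ∈ LinearMap.ker (ρ f - 1)
    have hf : σ⁻¹ * f * σ ∈ zpowers f := (Subgroup.mem_normalizer_iff''.1 (zpowers_conj c.rel) f).1 (mem_zpowers f)
    rw [LinearMap.mem_ker, LinearMap.sub_apply, Module.End.one_apply, sub_eq_zero, ← Module.End.mul_apply, ← map_mul,
      show f * σ = σ * (σ⁻¹ * f * σ) by group, map_mul, Module.End.mul_apply, fixed_zpowers hv' _ hf]
  · intro v hv h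
    exact c.fixV v (sub_eq_zero.1 (by simpa using hv)) h
  · intro v hv
    have hcard : ((Nat.card C : ℕ) : K) ≠ 0 := by
      obtain ⟨a, ha⟩ := IsPGroup.iff_card.1 c.hS
      obtain ⟨b, -, hb⟩ := (Nat.dvd_prime_pow Fact.out).1 (ha ▸ Subgroup.card_dvd_of_le (inf_le_left : C ≤ S))
      rw [hb, Nat.cast_pow]
      exact pow_ne_zero _ c.sK
    rw [← Nat.cast_smul_eq_nsmul K] at hv
    exact (smul_eq_zero.1 hv).resolve_left hcard
  · show w ∈ LinearMap.ker (ρ f - 1)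
    rw [LinearMap.mem_ker, LinearMap.sub_apply, Module.End.one_apply, hw, sub_self]

theorem gen_ctr (c : Cfg ρ S T f σ p q s t) {g : G} (hg : Gen S T f σ g) : g ∈ normalizer (ctr S : Set G) :=
  mem_normalizer_ctr (c.gen_normalizes hg)

/-- an invariant family of components is everything -/
theorem top_of (c : Cfg ρ S T f σ p q s t) (P : (G → K) → Prop)
    (hP : ∀ g, Gen S T f σ g → ∀ μ, P μ → P (cj g μ)) {μ₀ : G → K} (h₀ : P μ₀) {v : V}
    (hv : v ∈ comp ρ (ctr S) μ₀) (hv0 : v ≠ 0) : (⨆ μ : {μ // P μ}, comp ρ (ctr S) μ.1) = ⊤ := by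
  refine (c.irr _ fun g hg x hx => ?_).resolve_left fun h => hv0 ?_
  · have hle : Submodule.map (ρ g) (⨆ μ : {μ // P μ}, comp ρ (ctr S) μ.1) ≤ ⨆ μ : {μ // P μ}, comp ρ (ctr S) μ.1 := by
      rw [Submodule.map_iSup]
      refine iSup_le fun μ => ?_
      rintro _ ⟨y, hy, rfl⟩
      exact le_iSup (fun μ : {μ // P μ} => comp ρ (ctr S) μ.1) ⟨cj g μ.1, hP g hg _ μ.2⟩ (mem_comp_cj (c.gen_ctr hg) hy)
    exact hle ⟨x, hx, rfl⟩
  · exact (Submodule.eq_bot_iff _).1 h v (le_iSup (fun μ : {μ // P μ} => comp ρ (ctr S) μ.1) ⟨μ₀, h₀⟩ hv)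

theorem ext_on (c : Cfg ρ S T f σ p q s t) (P : (G → K) → Prop)
    (htop : (⨆ μ : {μ // P μ}, comp ρ (ctr S) μ.1) = ⊤) {a b : G}
    (h : ∀ μ, P μ → ∀ w ∈ comp ρ (ctr S) μ, ρ a w = ρ b w) : ρ a = ρ b := by
  have hle : (⨆ μ : {μ // P μ}, comp ρ (ctr S) μ.1) ≤ LinearMap.ker (ρ a - ρ b) := iSup_le fun μ w hw => by
    rw [LinearMap.mem_ker, LinearMap.sub_apply, h μ.1 μ.2 w hw, sub_self]
  rw [htop] at hle
  refine LinearMap.ext fun w => ?_
  have := hle (Submodule.mem_top (x := w))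
  rw [LinearMap.mem_ker, LinearMap.sub_apply, sub_eq_zero] at this
  exact this

theorem eq_of_act (c : Cfg ρ S T f σ p q s t) {a b : G} (ha : a ∈ S) (hb : b ∈ S) (h : ρ a = ρ b) : a = b := by
  have h1 : ρ (b⁻¹ * a) = 1 := by rw [map_mul, h, ← map_mul, inv_mul_cancel, map_one]
  exact (inv_mul_eq_one.1 (c.faithful _ (S.mul_mem (S.inv_mem hb) ha) h1)).symm

theorem nontrivial_V (c : Cfg ρ S T f σ p q s t) : Nontrivial V := by
  by_contra h
  haveI := not_nontrivial_iff_subsingleton.1 h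
  obtain ⟨x, hx, y, hy, hxy⟩ := c.ne
  refine hxy ?_
  rw [c.faithful x hx (LinearMap.ext fun w => Subsingleton.elim _ _)]
  simp

/-- eigenvalue functions occur and fill the space -/
theorem comps_top (c : Cfg ρ S T f σ p q s t) :
    (⨆ μ : {_μ : G → K // True}, comp ρ (ctr S) μ.1) = ⊤ := by
  haveI := c.nontrivial_V
  obtain ⟨v, -, hv0, hv⟩ := exists_eigen_of_commute ρ (ctr S) (fun a ha b hb => by
      rw [← map_mul, ← map_mul, mem_centralizer_iff.1 hb.2 a ha.1])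
    (finrank K V) ⊤ (by rw [finrank_top]) top_ne_bot fun _ _ _ _ => trivial
  exact c.top_of (fun _ => True) (fun _ _ _ _ => trivial)
    (μ₀ := fun z => if h : z ∈ ctr S then (hv z h).choose else 0) trivial
    (mem_comp.2 fun z hz => by simp only [dif_pos hz]; exact (hv z hz).choose_spec) hv0

theorem S_stab (c : Cfg ρ S T f σ p q s t) (ν : G → K) : S ≤ nuStab (ctr S) ν := fun x hx =>
  ⟨c.gen_ctr (Or.inl hx), fun z hz => by
    congr 1
    rw [mul_assoc, ← mem_centralizer_iff.1 hz.2 x hx, inv_mul_cancel_left]⟩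

theorem T_stab (c : Cfg ρ S T f σ p q s t) (hna : ∀ x ∈ ctr S, ∀ y ∈ T, y * x = x * y) (ν : G → K) :
    T ≤ nuStab (ctr S) ν := fun y hy =>
  ⟨c.gen_ctr (Or.inr (Or.inl hy)), fun z hz => by
    congr 1
    rw [mul_assoc, ← hna z hz y hy, inv_mul_cancel_left]⟩

/-- lifting `T`-fixed cosets -/
theorem lift_T (c : Cfg ρ S T f σ p q s t) {N : Subgroup G} (hN : N ≤ S) (hTN : T ≤ normalizer (N : Set G))
    {x : G} (hxT : ∀ y ∈ T, x⁻¹ * (y * x * y⁻¹) ∈ N) : ∃ d ∈ N, ∀ y ∈ T, y * (x * d) = (x * d) * y := by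
  obtain ⟨d, hd, h⟩ := Cfsg.Lib.Coprime.exists_fixed_in_coset (k := x) (A := T) hTN
    (c.cop.coprime_dvd_right (Subgroup.card_dvd_of_le hN)) (Or.inl (solvable_pgroup c.hT))
    fun y hy => by simpa [mul_assoc] using hxT y hy
  exact ⟨d, hd, fun y hy => mem_centralizer_iff.1 h y hy⟩

theorem hfixT (c : Cfg ρ S T f σ p q s t) {N : Subgroup G} (hZN : ctr S ≤ N) (hN : N ≤ S)
    (hTN : T ≤ normalizer (N : Set G)) : ∀ x ∈ S, (∀ y ∈ T, x⁻¹ * (y * x * y⁻¹) ∈ N) → x ∈ N := by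
  intro x hx hxT
  obtain ⟨d, hd, h⟩ := c.lift_T hN hTN hxT
  have h1 := hZN (c.structure_S.2.2.2.2 _ (S.mul_mem hx (hN hd)) h)
  simpa using N.mul_mem h1 (N.inv_mem hd)

theorem pow_relIndex (c : Cfg ρ S T f σ p q s t) {A B : Subgroup G} (hB : B ≤ S) :
    ∃ n, A.relIndex B = s ^ n := by
  obtain ⟨a, ha⟩ := IsPGroup.iff_card.1 c.hS
  obtain ⟨b, -, hb⟩ := (Nat.dvd_prime_pow Fact.out).1
    (ha ▸ (Subgroup.index_dvd_card (A.subgroupOf B)).trans (Subgroup.card_dvd_of_le hB))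
  exact ⟨b, hb⟩

/-- non-triviality on the derived subgroup -/
theorem nu_nontrivial (c : Cfg ρ S T f σ p q s t) (hna : ¬ ∀ x ∈ S, ∀ y ∈ S, x * y = y * x) {ν : G → K} {v : V}
    (hv : v ∈ comp ρ (ctr S) ν) (hv0 : v ≠ 0) : ∃ a ∈ S, ∃ b ∈ S, ν (a⁻¹ * b⁻¹ * a * b) ≠ 1 := by
  by_contra h
  push Not at h
  apply hna
  have htop := c.top_of (fun μ => ∀ a ∈ S, ∀ b ∈ S, μ (a⁻¹ * b⁻¹ * a * b) = 1) (fun g hg μ hμ a ha b hb => by
    have hg' := c.gen_normalizes hg
    simp only [cj]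
    rw [← hμ _ ((Subgroup.mem_normalizer_iff''.1 hg' a).1 ha) _ ((Subgroup.mem_normalizer_iff''.1 hg' b).1 hb)]
    congr 1
    group) h hv hv0
  intro x hx y hy
  have h1 : x⁻¹ * y⁻¹ * x * y = 1 := c.faithful _ ((c.structure_S.1 x hx y hy).1)
    ((c.ext_on _ htop (b := 1) fun μ hμ w hw => by
      rw [mem_comp.1 hw _ (c.structure_S.1 x hx y hy), hμ x hx y hy, one_smul, map_one, Module.End.one_apply]).trans
      (map_one ρ))
  have := congrArg (fun z => y * x * z) h1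
  simpa [mul_assoc] using this

/-- **the bound on a component** -/
theorem bound_on_comp (c : Cfg ρ S T f σ p q s t) (hna : ¬ ∀ x ∈ S, ∀ y ∈ S, x * y = y * x) {ν : G → K} {v : V}
    (hv : v ∈ comp ρ (ctr S) ν) (hv0 : v ≠ 0) {e : G} {π : ℕ} [Fact π.Prime] (hπK : (π : K) ≠ 0)
    (he : orderOf e = π) (heS : e ∈ normalizer (S : Set G)) (heν : e ∈ nuStab (ctr S) ν)
    (hfix : ∀ w ∈ comp ρ (ctr S) ν, ρ e w = w → w = 0)
    (hRS : S ≤ normalizer (rad ρ (comp ρ (ctr S) ν) S : Set G)) :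
    ctr S ≤ rad ρ (comp ρ (ctr S) ν) S ∧
    (∀ u ∈ S, u ∈ rad ρ (comp ρ (ctr S) ν) S ↔ ∀ w ∈ S, ν (u * w * u⁻¹ * w⁻¹) = 1) ∧
    IsSquare ((rad ρ (comp ρ (ctr S) ν) S).relIndex S) ∧
    (rad ρ (comp ρ (ctr S) ν) S).relIndex S ≤
      (π - 1) ^ 2 * (rad ρ (comp ρ (ctr S) ν) S).relIndex (fixSec S (rad ρ (comp ρ (ctr S) ν) S) e hRS) ∧
    (rad ρ (comp ρ (ctr S) ν) S).relIndex S ≠ 1 := by
  set U := comp ρ (ctr S) ν with hU
  set R := rad ρ U S with hR
  have hSU : S ≤ stab ρ U := fun x hx => mem_stab fun w hw => stab_le_comp (c.S_stab ν hx) hw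
  have hcomm : ∀ u ∈ S, ∀ w ∈ S, u * w * u⁻¹ * w⁻¹ ∈ ctr S := fun u hu w hw => by
    have := c.structure_S.1 _ (S.inv_mem hu) _ (S.inv_mem hw)
    simpa [inv_inv] using this
  have hswap : ∀ u ∈ S, ∀ w ∈ S, ∀ x ∈ U, ρ u (ρ w x) = ν (u * w * u⁻¹ * w⁻¹) • ρ w (ρ u x) := by
    intro u hu w hw x hx
    rw [← mem_comp.1 ((hSU hw _).2 ((hSU hu x).2 hx)) _ (hcomm u hu w hw)]
    simp only [← Module.End.mul_apply, ← map_mul]
    congr 2
    group
  have hrad : ∀ u ∈ S, u ∈ R ↔ ∀ w ∈ S, ν (u * w * u⁻¹ * w⁻¹) = 1 := by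
    intro u hu
    constructor
    · intro h w hw
      have h1 := (h.2.2 w hw v hv).symm.trans (hswap u hu w hw v hv)
      refine (smul_left_injective K (fun e0 => hv0 ?_) (h1.symm.trans (one_smul K _).symm))
      rw [← apply_inv_apply ρ u v, ← apply_inv_apply ρ w (ρ u v), e0, map_zero, map_zero]
    · intro h
      exact ⟨hu, hSU hu, fun w hw x hx => by rw [hswap u hu w hw x hx, h w hw, one_smul]⟩
  have hne : R.relIndex S ≠ 1 := by
    intro h1
    obtain ⟨a, ha, b, hb, hab⟩ := c.nu_nontrivial hna hv hv0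
    have h2 := (hrad _ (S.inv_mem ha)).1 (Subgroup.relIndex_eq_one.1 h1 (S.inv_mem ha)) _ (S.inv_mem hb)
    rw [inv_inv, inv_inv] at h2
    exact hab h2
  have hZR : ctr S ≤ R := fun z hz => ⟨hz.1, hSU hz.1, fun w hw x _ => by
    rw [← Module.End.mul_apply, ← map_mul, ← mem_centralizer_iff.1 hz.2 w hw, map_mul]; rfl⟩
  refine ⟨hZR, hrad, ?_⟩
  haveI : Nontrivial U := ⟨⟨⟨v, hv⟩, 0, fun e0 => hv0 (congrArg Subtype.val e0)⟩⟩
  have hFS : fixSec S R e hRS ≤ S := fun u hu => hu.1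
  have heU : e ∈ stab ρ U := mem_stab fun w hw => stab_le_comp heν hw
  have key := fpf_symplectic (restrictStab ρ U) (Q := S.subgroupOf (stab ρ U)) (Z₀ := R.subgroupOf (stab ρ U))
    (Fx := (fixSec S R e hRS).subgroupOf (stab ρ U)) (fun z hz => hz.1)
    (by
      obtain ⟨a, ha⟩ := IsPGroup.iff_card.1 c.hS
      rw [Nat.card_congr (Subgroup.subgroupOfEquivOfLe hSU).toEquiv, ha, Nat.cast_pow]
      exact pow_ne_zero _ c.sK)
    (fun u hu w hw => ⟨ν ((u : G) * w * (u : G)⁻¹ * (w : G)⁻¹), LinearMap.ext fun x => Subtype.ext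
      (hswap (u : G) hu (w : G) hw x x.2)⟩)
    (fun u hu => ⟨fun h w hw => LinearMap.ext fun x => Subtype.ext ((h : (u : G) ∈ R).2.2 (w : G) hw x x.2),
      fun h => ⟨hu, u.2, fun w hw x hx => congrArg Subtype.val (LinearMap.congr_fun (h ⟨w, hSU hw⟩ hw) ⟨x, hx⟩)⟩⟩)
    (x := ⟨e, heU⟩) hπK
    (by
      rw [Subgroup.mem_normalizer_iff]
      exact fun u => Subgroup.mem_normalizer_iff.1 heS (u : G))
    (Subtype.ext (by show e ^ π = 1; rw [← he, pow_orderOf_eq_one]))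
    (fun w hw => Subtype.ext (hfix w w.2 (congrArg Subtype.val hw))) (fun u => Iff.rfl)
  rw [Subgroup.relIndex_subgroupOf hSU, Subgroup.relIndex_subgroupOf (hFS.trans hSU)] at key
  exact ⟨key.1, key.2, hne⟩

end Cfg

end Cfsg.Lib.SolvStruct.PQHeight
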