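import Mathlib
import Cfsg.Agent.SolvStruct.PQHeight.Cases

/-!
The configuration is impossible.
-/

set_option autoImplicit false
set_option linter.unusedSectionVars false
set_option linter.style.haveILetI false

namespace Cfsg.Lib.SolvStruct.PQHeight

open Subgroup Module
open scoped Classical commutatorElement

universe u v w

variable {K : Type u} [Field K] [IsAlgClosed K] {V : Type v} [AddCommGroup V] [Module K V] [FiniteDimensional K V]
  {G : Type w} [Group G] [Finite G]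

theorem stab_of_eq {Z : Subgroup G} {ν : G → K} {a b : G} (ha : a ∈ normalizer (Z : Set G))
    (hb : b ∈ normalizer (Z : Set G)) (h : ∀ z ∈ Z, ν (a⁻¹ * z * a) = ν (b⁻¹ * z * b)) :
    a⁻¹ * b ∈ nuStab Z ν := by
  refine ⟨mul_mem (inv_mem ha) hb, fun z hz => ?_⟩
  have e := h _ ((Subgroup.mem_normalizer_iff.1 ha z).1 hz)
  rw [show a⁻¹ * (a * z * a⁻¹) * a = z by group] at e
  rw [e]
  congr 1
  group

theorem pow_coset {f g : G} (hg : g ∈ normalizer (zpowers f : Set G)) {a : G} (ha : a ∈ zpowers f) (n : ℕ) :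
    ∃ b ∈ zpowers f, (a * g) ^ n = b * g ^ n := by
  induction n with
  | zero => exact ⟨1, one_mem _, by simp⟩
  | succ n ih =>
    obtain ⟨b, hb, hbe⟩ := ih
    refine ⟨b * (g ^ n * a * (g ^ n)⁻¹), mul_mem hb ((Subgroup.mem_normalizer_iff.1 (pow_mem hg n) a).1 ha), ?_⟩
    rw [pow_succ, hbe, pow_succ]
    group

theorem gen_of_zpowers {f a : G} {p : ℕ} [Fact p.Prime] (hf : orderOf f = p) (ha : a ∈ zpowers f) (ha1 : a ≠ 1)
    {D : Subgroup G} (h : a ∈ D) : f ∈ D := by
  obtain ⟨m, hm⟩ := Subgroup.mem_zpowers_iff.1 (mem_zpowers_of_prime_card (p := p) (G := zpowers f)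
    (by rw [Nat.card_zpowers, hf]) (g := ⟨a, ha⟩) (g' := ⟨f, mem_zpowers f⟩)
    (fun e => ha1 (congrArg (fun w : zpowers f => (w : G)) e)))
  have e : a ^ m = f := by simpa using congrArg (fun w : zpowers f => (w : G)) hm
  rw [← e]
  exact zpow_mem h m

namespace Cfg

variable {ρ : G →* Module.End K V} {S T : Subgroup G} {f σ : G} {p q s t : ℕ} [Fact p.Prime] [Fact q.Prime]
  [Fact s.Prime] [Fact t.Prime]

theorem order_coset (c : Cfg ρ S T f σ p q s t) {a : G} (ha : a ∈ zpowers f) : orderOf (a * σ) = q := by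
  obtain ⟨b, hb, hbe⟩ := pow_coset (zpowers_conj c.rel) ha q
  rw [← c.ordσ, pow_orderOf_eq_one, mul_one, c.ordσ] at hbe
  refine orderOf_eq_prime ?_ fun h => c.ncomm ?_
  · rw [hbe]
    by_contra hne
    apply c.ncomm
    have hbc : b ∈ centralizer ({a * σ} : Set G) := by
      rw [mem_centralizer_singleton_iff, ← hbe]
      exact (Commute.pow_self (a * σ) q).eq
    have hfc := gen_of_zpowers c.ordf hb hne hbc
    rw [mem_centralizer_singleton_iff] at hfc
    have haf := comm_zpowers (c := f) rfl a ha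
    have h2 : a * (σ * f) = a * (f * σ) := by
      rw [← mul_assoc, ← hfc, ← mul_assoc, ← mul_assoc, haf]
    exact mul_left_cancel h2
  · have hσ : σ = a⁻¹ := eq_inv_of_mul_eq_one_right h
    rw [hσ]
    exact comm_zpowers rfl _ (inv_mem ha)

/-- a fixed point in a section, not in `N` -/
theorem exists_fixed_not_mem (c : Cfg ρ S T f σ p q s t)
    (hT2 : ∀ y ∈ T, f * y = y * f → ∀ x ∈ S, y * x = x * y) {N : Subgroup G} (hN : N ≤ S)
    (hg : ∀ g ∈ normalizer (S : Set G), g ∈ normalizer (N : Set G))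
    (hab : ∀ x ∈ S, ∀ y ∈ S, x⁻¹ * y⁻¹ * x * y ∈ N) (hexp : ∀ x ∈ S, x ^ s ∈ N)
    (hfixT : ∀ x ∈ S, (∀ y ∈ T, x⁻¹ * (y * x * y⁻¹) ∈ N) → x ∈ N) (hne : ¬ S ≤ N) :
    ∃ x ∈ S, f * x = x * f ∧ x ∉ N := by
  by_contra h
  push Not at h
  have hNS : S ≤ normalizer (N : Set G) := fun x hx => hg x (le_normalizer hx)
  have key := free_section (e := f) hN hNS hab hexp c.hT c.ordf c.TS (fun x hx => hg x (c.TS hx)) c.fS (hg f c.fS)
    c.fT c.st c.sp c.tp (fun y hy hc x hx => by
      rw [hT2 y hy hc x hx, mul_inv_cancel_right, inv_mul_cancel]; exact N.one_mem)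
    hfixT (F := fixSec S N f hNS) fun u => Iff.rfl
  have h1 : N.relIndex (fixSec S N f hNS) = 1 := by
    refine Subgroup.relIndex_eq_one.2 fun u hu => ?_
    obtain ⟨d, hd, he⟩ := lift_fixed c.ordf (hg f c.fS)
      (card_pgroup (c.hS.to_le hN) Fact.out c.sp) hu.2
    have := N.mul_mem (h _ (S.mul_mem hu.1 (hN hd)) he) (N.inv_mem hd)
    simpa using this
  rw [h1, one_pow] at key
  exact hne (Subgroup.relIndex_eq_one.1 key)

/-- `f`-fixed cosets are trivial when `f` centralises `T` -/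
theorem fixed_mem (c : Cfg ρ S T f σ p q s t) (hT1 : ∀ y ∈ T, f * y = y * f) {N : Subgroup G} (hN : N ≤ S)
    (hg : ∀ g ∈ normalizer (S : Set G), g ∈ normalizer (N : Set G))
    (hab : ∀ x ∈ S, ∀ y ∈ S, x⁻¹ * y⁻¹ * x * y ∈ N) (hexp : ∀ x ∈ S, x ^ s ∈ N)
    (hfixT : ∀ x ∈ S, (∀ y ∈ T, x⁻¹ * (y * x * y⁻¹) ∈ N) → x ∈ N) :
    ∀ u ∈ S, u⁻¹ * (f * u * f⁻¹) ∈ N → u ∈ N := by
  intro u hu hfu
  set C := S ⊓ centralizer ({f} : Set G) with hC
  have hmemC : ∀ {x}, x ∈ C ↔ x ∈ S ∧ f * x = x * f := fun {x} => by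
    rw [hC, Subgroup.mem_inf, mem_centralizer_singleton_iff, eq_comm (a := x * f)]
  set X := N ⊔ C with hX
  have hCS : C ≤ S := inf_le_left
  have hXS : X ≤ S := sup_le hN hCS
  have hNS : S ≤ normalizer (N : Set G) := fun x hx => hg x (le_normalizer hx)
  have hCN : C ≤ normalizer (N : Set G) := fun x hx => hNS hx.1
  have hCn : ∀ g, g ∈ normalizer (S : Set G) → (∀ a ∈ zpowers f, g * a * g⁻¹ ∈ zpowers f) →
      (∀ a ∈ zpowers f, g⁻¹ * a * g ∈ zpowers f) → g ∈ normalizer (C : Set G) := by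
    intro g hgS h1 h2
    refine Cfsg.Lib.Coprime.mem_normalizer_of_conj_mem ?_ ?_
    all_goals intro x hx
    · refine hmemC.2 ⟨(Subgroup.mem_normalizer_iff.1 hgS x).1 hx.1, ?_⟩
      have := congrArg (fun w => g * w * g⁻¹) (comm_zpowers (hmemC.1 hx).2 _ (h2 f (mem_zpowers f)))
      simpa [mul_assoc] using this
    · refine hmemC.2 ⟨(Subgroup.mem_normalizer_iff''.1 hgS x).1 hx.1, ?_⟩
      have := congrArg (fun w => g⁻¹ * w * g) (comm_zpowers (hmemC.1 hx).2 _ (h1 f (mem_zpowers f)))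
      simpa [mul_assoc] using this
  have hTC : T ≤ normalizer (C : Set G) := fun y hy => hCn y (c.TS hy)
    (fun a ha => by rwa [← comm_zpowers (hT1 y hy) a ha, mul_inv_cancel_right])
    (fun a ha => by rwa [mul_assoc, comm_zpowers (hT1 y hy) a ha, inv_mul_cancel_left])
  have hσC : σ ∈ normalizer (C : Set G) := hCn σ c.σS
    (fun a ha => (Subgroup.mem_normalizer_iff.1 (zpowers_conj c.rel) a).1 ha)
    (fun a ha => (Subgroup.mem_normalizer_iff''.1 (zpowers_conj c.rel) a).1 ha)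
  have hXN : X ≤ normalizer (N : Set G) := sup_le le_normalizer hCN
  have key := free_section (S := X) (N := N) (e := σ) le_sup_left hXN
    (fun x hx y hy => hab x (hXS hx) y (hXS hy)) (fun x hx => hexp x (hXS hx)) c.hT c.ordσ
    (Cfsg.Lib.Coprime.le_normalizer_sup (fun y hy => hg y (c.TS hy)) hTC) (fun y hy => hg y (c.TS hy))
    (Cfsg.Lib.Coprime.le_normalizer_sup (zpowers_le.2 (hg σ c.σS)) (zpowers_le.2 hσC) (mem_zpowers σ))
    (hg σ c.σS) c.σT c.st c.sq c.tq
    (fun y hy hc x hx => by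
      rw [c.fixT y hy (hT1 y hy) hc, one_mul, inv_one, mul_one, inv_mul_cancel]; exact N.one_mem)
    (fun x hx h => hfixT x (hXS hx) h) (F := fixSec X N σ hXN) fun x => Iff.rfl
  have h1 : N.relIndex (fixSec X N σ hXN) = 1 := by
    refine Subgroup.relIndex_eq_one.2 fun x hx => ?_
    obtain ⟨n, hn, y, hy, rfl⟩ := (Cfsg.Lib.Coprime.mem_sup_of_le_normalizer hCN).1 hx.1
    obtain ⟨hyS, hyf⟩ := hmemC.1 hy
    set D := N ⊓ centralizer ({f} : Set G) with hD
    have hyD : y⁻¹ * (σ * y * σ⁻¹) ∈ D := by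
      have h2 := hx.2
      have e : y⁻¹ * (σ * y * σ⁻¹) = (y⁻¹ * n * y) * ((n * y)⁻¹ * (σ * (n * y) * σ⁻¹)) *
          ((σ * y * σ⁻¹)⁻¹ * (σ * n * σ⁻¹)⁻¹ * (σ * y * σ⁻¹)) := by group
      refine Subgroup.mem_inf.2 ⟨?_, mem_centralizer_singleton_iff.2 ?_⟩
      · rw [e]
        exact N.mul_mem (N.mul_mem ((Subgroup.mem_normalizer_iff''.1 (hNS hyS) n).1 hn) h2)
          ((Subgroup.mem_normalizer_iff''.1 (hNS ((Subgroup.mem_normalizer_iff.1 c.σS y).1 hyS)) _).1
            (N.inv_mem ((Subgroup.mem_normalizer_iff.1 (hg σ c.σS) n).1 hn)))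
      · have h3 := c.conj_comm hyf
        calc y⁻¹ * (σ * y * σ⁻¹) * f = y⁻¹ * (f * (σ * y * σ⁻¹)) := by rw [mul_assoc, ← h3]
          _ = f * (y⁻¹ * (σ * y * σ⁻¹)) := by
            rw [← mul_assoc, ← mul_assoc f]
            congr 1
            have h4 := congrArg (fun w => y⁻¹ * w * y⁻¹) hyf
            simpa [mul_assoc] using h4
    have hσD : σ ∈ normalizer (D : Set G) := by
      refine Cfsg.Lib.Coprime.mem_normalizer_of_conj_mem ?_ ?_
      all_goals intro z hz
      · exact ⟨(Subgroup.mem_normalizer_iff.1 (hg σ c.σS) z).1 hz.1,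
          mem_centralizer_singleton_iff.2 (c.conj_comm (mem_centralizer_singleton_iff.1 hz.2).symm).symm⟩
      · refine ⟨(Subgroup.mem_normalizer_iff''.1 (hg σ c.σS) z).1 hz.1, mem_centralizer_singleton_iff.2 ?_⟩
        have h3 := comm_zpowers (mem_centralizer_singleton_iff.1 hz.2).symm _ c.rel
        have := congrArg (fun w => σ⁻¹ * w * σ) h3
        simpa [mul_assoc] using this.symm
    obtain ⟨d, hd, he⟩ := lift_fixed c.ordσ hσD
      (card_pgroup (c.hS.to_le (inf_le_left.trans hN)) Fact.out c.sq) hyD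
    have h4 : y * d = 1 := c.fixS _ (S.mul_mem hyS (hN hd.1)) (by
      have hdf := (mem_centralizer_singleton_iff.1 hd.2).symm
      rw [← mul_assoc, hyf, mul_assoc, hdf, mul_assoc]) he
    rw [eq_inv_of_mul_eq_one_left h4]
    exact N.mul_mem hn (N.inv_mem hd.1)
  rw [h1, one_pow] at key
  have hle := Subgroup.relIndex_eq_one.1 key
  obtain ⟨d, hd, he⟩ := lift_fixed c.ordf (hg f c.fS) (card_pgroup (c.hS.to_le hN) Fact.out c.sp) hfu
  have h5 := N.mul_mem (hle (Subgroup.mem_sup_right (hmemC.2 ⟨S.mul_mem hu (hN hd), he⟩))) (N.inv_mem hd)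
  simpa using h5

theorem ctr_eq_of_abelian (hab : ∀ x ∈ S, ∀ y ∈ S, x * y = y * x) : ctr S = S :=
  le_antisymm inf_le_left fun x hx => ⟨hx, mem_centralizer_iff.2 fun y hy => hab y hy x hx⟩

theorem ne_of_S (c : Cfg ρ S T f σ p q s t) {x : G} (h : ∀ y ∈ S, y = x) : False := by
  obtain ⟨a, ha, b, hb, hab⟩ := c.ne
  have e : a = 1 := (h a ha).trans (h 1 S.one_mem).symm
  exact hab (by rw [e]; simp)

/-- a component fixed by `f` makes `f` centralise the centre -/
theorem ctr_fixed (c : Cfg ρ S T f σ p q s t) (hna : ∀ x ∈ ctr S, ∀ y ∈ T, y * x = x * y) {ν : G → K} {v : V}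
    (hv : v ∈ comp ρ (ctr S) ν) (hv0 : v ≠ 0) (hfν : f ∈ nuStab (ctr S) ν) : ∀ z ∈ ctr S, f * z = z * f := by
  have htop := c.top_of (fun μ => f ∈ nuStab (ctr S) μ) (fun g hg μ hμ => by
    rw [mem_nuStab_cj (c.gen_ctr hg)]
    rcases hg with h | h | rfl | rfl
    · exact mul_mem (mul_mem (inv_mem (c.S_stab μ h)) hμ) (c.S_stab μ h)
    · exact mul_mem (mul_mem (inv_mem (c.T_stab hna μ h)) hμ) (c.T_stab hna μ h)
    · exact mul_mem (mul_mem (inv_mem hμ) hμ) hμ
    · exact (zpowers_le.2 hμ) ((Subgroup.mem_normalizer_iff''.1 (zpowers_conj c.rel) f).1 (mem_zpowers f))) hfν hv hv0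
  intro z hz
  have hz' : f⁻¹ * z * f ∈ ctr S := conj_mem_of_normalizes (mem_normalizer_ctr c.fS) z hz
  have h := c.eq_of_act hz'.1 hz.1 (c.ext_on _ htop fun μ hμ w hw => by
    rw [mem_comp.1 hw _ hz', mem_comp.1 hw _ hz, hμ.2 z hz])
  have := congrArg (fun w => f * w) h
  simpa [mul_assoc] using this.symm

theorem fpf_on_comp (c : Cfg ρ S T f σ p q s t) (hna : ¬ ∀ x ∈ S, ∀ y ∈ S, x * y = y * x) {ν : G → K} {v : V}
    (hv : v ∈ comp ρ (ctr S) ν) (hv0 : v ≠ 0) (hZf : ∀ z ∈ ctr S, f * z = z * f) :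
    ∀ w ∈ comp ρ (ctr S) ν, ρ f w = w → w = 0 := by
  intro w hw hfw
  obtain ⟨a, ha, b, hb, hab⟩ := c.nu_nontrivial hna hv hv0
  have hz := c.structure_S.1 a ha b hb
  have h := (mem_comp.1 hw _ hz).symm.trans (c.fix_fix hz.1 (hZf _ hz) hfw)
  by_contra hw0
  exact hab (smul_left_injective K hw0 (h.trans (one_smul K w).symm))

/-- normal operator non-trivial on `T` -/
theorem case_two (c : Cfg ρ S T f σ p q s t) (hT2 : ∀ y ∈ T, f * y = y * f → ∀ x ∈ S, y * x = x * y) : False := by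
  obtain ⟨hab', hexp', habel, hnabel, hcT⟩ := c.structure_S
  by_cases hab : ∀ x ∈ S, ∀ y ∈ S, x * y = y * x
  · obtain ⟨hs1, hT1⟩ := habel hab
    have hctr := ctr_eq_of_abelian hab
    obtain ⟨x, hx, hxf, hx1⟩ := c.exists_fixed_not_mem hT2 bot_le (fun g _ => by rw [Subgroup.normalizer_eq_top]; trivial)
      (fun a ha b hb => by rw [Subgroup.mem_bot, mul_assoc, hab _ ha b hb]; group)
      (fun a ha => by rw [Subgroup.mem_bot, hs1 a ha])
      (fun a ha h => by
        rw [Subgroup.mem_bot]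
        refine hT1 a ha fun y hy => ?_
        have := h y hy
        rw [Subgroup.mem_bot, inv_mul_eq_one] at this
        exact (mul_inv_eq_iff_eq_mul.1 this.symm))
      fun h => c.ne_of_S (x := 1) fun y hy => by simpa using h hy
    rw [Subgroup.mem_bot] at hx1
    -- a fixed component on which `x` is non-trivial
    obtain ⟨ν, v, hv, hv0, hfν, hxv⟩ : ∃ ν v, v ∈ comp ρ (ctr S) ν ∧ v ≠ 0 ∧ f ∈ nuStab (ctr S) ν ∧ ν x ≠ 1 := by
      by_contra hcon
      push Not at hcon
      refine hx1 (c.eq_of_act hx S.one_mem (c.ext_on _ c.comps_top fun μ _ w hw => ?_))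
      rw [map_one, Module.End.one_apply]
      by_cases hw0 : w = 0
      · rw [hw0, map_zero]
      by_cases hμ : f ∈ nuStab (ctr S) μ
      · rw [mem_comp.1 hw x (by rw [hctr]; exact hx), hcon μ w hw hw0 hμ, one_smul]
      · exact centralises_moved ρ hw (mem_normalizer_ctr c.fS) c.ordf hμ
          (fun z hz => hab x hx z hz.1) hxf.symm fun u hu => c.fix_fix hx hxf hu
    -- the product over `T`
    letI : CommGroup S := { (inferInstance : Group S) with mul_comm := fun a b => Subtype.ext (hab a a.2 b b.2) }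
    haveI := Fintype.ofFinite T
    let χ : S →* K :=
      { toFun := fun a => ν a
        map_one' := nu_one hv hv0
        map_mul' := fun a b => nu_mul hv hv0 (hctr.symm ▸ a.2) (hctr.symm ▸ b.2) }
    let a : T → S := fun y => ⟨(y : G)⁻¹ * x * y, (Subgroup.mem_normalizer_iff''.1 (c.TS y.2) x).1 hx⟩
    have hprod : ∏ y, a y = 1 := by
      refine Subtype.ext (hT1 _ (∏ y, a y).2 fun y hy => ?_)
      let ψ : S →* S :=
        { toFun := fun z => ⟨y * z * y⁻¹, (Subgroup.mem_normalizer_iff.1 (c.TS hy) z).1 z.2⟩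
          map_one' := Subtype.ext (by simp)
          map_mul' := fun z z' => Subtype.ext (by simp [mul_assoc]) }
      have h : ψ (∏ z, a z) = ∏ z, a z := by
        rw [map_prod]
        refine Fintype.prod_equiv (Equiv.mulRight (⟨y, hy⟩⁻¹ : T)) _ _ fun z => Subtype.ext ?_
        show y * ((z : G)⁻¹ * x * z) * y⁻¹ = ((z : G) * y⁻¹)⁻¹ * x * ((z : G) * y⁻¹)
        group
      exact mul_inv_eq_iff_eq_mul.1 (congrArg Subtype.val h)
    have hone : ∀ y : T, (y : G) ∉ nuStab (ctr S) ν → χ (a y) = 1 := by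
      intro y hy
      have hyN := c.gen_ctr (Or.inr (Or.inl y.2))
      have hv' : ρ (y : G) v ≠ 0 := fun e => hv0 (by rw [← apply_inv_apply ρ (y : G) v, e, map_zero])
      have hmov : f ∉ nuStab (ctr S) (cj (y : G) ν) := by
        intro hf'
        rw [mem_nuStab_cj hyN] at hf'
        apply hy
        set T₀ := T ⊓ nuStab (ctr S) ν with hT₀
        have hfT₀ : f ∈ normalizer (T₀ : Set G) := by
          refine Cfsg.Lib.Coprime.mem_normalizer_of_conj_mem ?_ ?_
          all_goals intro z hz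
          · exact ⟨(Subgroup.mem_normalizer_iff.1 c.fT z).1 hz.1, (nuStab (ctr S) ν).mul_mem ((nuStab (ctr S) ν).mul_mem hfν hz.2) (inv_mem hfν)⟩
          · exact ⟨(Subgroup.mem_normalizer_iff''.1 c.fT z).1 hz.1, (nuStab (ctr S) ν).mul_mem ((nuStab (ctr S) ν).mul_mem (inv_mem hfν) hz.2) hfν⟩
        have hmem : (y : G)⁻¹ * (f * y * f⁻¹) ∈ T₀ :=
          ⟨T.mul_mem (T.inv_mem y.2) ((Subgroup.mem_normalizer_iff.1 c.fT (y : G)).1 y.2), by
            have := mul_mem hf' (inv_mem hfν)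
            simpa [mul_assoc] using this⟩
        obtain ⟨d, hd, he⟩ := lift_fixed c.ordf hfT₀ (card_pgroup (c.hT.to_le inf_le_left) Fact.out c.tp) hmem
        have h6 : (y : G) * d ∈ nuStab (ctr S) ν := ⟨mul_mem hyN hd.2.1, fun z hz => by
          have hcm := hT2 _ (T.mul_mem y.2 hd.1) he z hz.1
          congr 1
          rw [mul_assoc, ← hcm, inv_mul_cancel_left]⟩
        have := mul_mem h6 (inv_mem hd.2)
        simpa using this
      have h1 := centralises_moved ρ (mem_comp_cj hyN hv) (mem_normalizer_ctr c.fS) c.ordf hmov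
        (fun z hz => hab x hx z hz.1) hxf.symm fun u hu => c.fix_fix hx hxf hu
      rw [mem_comp.1 (mem_comp_cj hyN hv) x (by rw [hctr]; exact hx)] at h1
      exact smul_left_injective K hv' (h1.trans (one_smul K _).symm)
    have hstay : ∀ y : T, (y : G) ∈ nuStab (ctr S) ν → χ (a y) = ν x := fun y hy =>
      hy.2 x (by rw [hctr]; exact hx)
    have h := congrArg χ hprod
    rw [map_prod, map_one, ← Finset.prod_filter_mul_prod_filter_not Finset.univ (fun y : T => (y : G) ∈ nuStab (ctr S) ν),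
      Finset.prod_eq_one (s := Finset.univ.filter fun y : T => ¬ (y : G) ∈ nuStab (ctr S) ν)
        (fun y hy => hone y (Finset.mem_filter.1 hy).2), mul_one,
      Finset.prod_congr rfl fun y hy => hstay y (Finset.mem_filter.1 hy).2, Finset.prod_const] at h
    set n := (Finset.univ.filter fun y : T => (y : G) ∈ nuStab (ctr S) ν).card with hn
    have hn' : n = Nat.card ↥(T ⊓ nuStab (ctr S) ν : Subgroup G) := by
      rw [hn, ← Fintype.card_subtype, ← Nat.card_eq_fintype_card]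
      exact Nat.card_congr ((Equiv.subtypeSubtypeEquivSubtypeInter (fun g => g ∈ T) (fun g => g ∈ nuStab (ctr S) ν)).trans
        (Equiv.refl _))
    have hcop : Nat.Coprime n s := by
      obtain ⟨b, hb⟩ := IsPGroup.iff_card.1 (c.hT.to_le (inf_le_left : T ⊓ nuStab (ctr S) ν ≤ T))
      rw [hn', hb]
      exact ((Nat.coprime_primes Fact.out Fact.out).2 c.st.symm).pow_left b
    have hxs : ν x ^ s = 1 := by
      rw [← nu_pow hv hv0 (hctr.symm ▸ hx) s, hs1 x hx, nu_one hv hv0]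
    have h7 : orderOf (ν x) ∣ Nat.gcd n s := Nat.dvd_gcd (orderOf_dvd_of_pow_eq_one h) (orderOf_dvd_of_pow_eq_one hxs)
    rw [hcop, Nat.dvd_one, orderOf_eq_one_iff] at h7
    exact hxv h7
  · have hTZ := hnabel hab
    have hTN : T ≤ normalizer (ctr S : Set G) := fun y hy => mem_normalizer_ctr (c.TS hy)
    obtain ⟨x, hx, hxf, hxN⟩ := c.exists_fixed_not_mem hT2 (N := ctr S) inf_le_left
      (fun g hg => mem_normalizer_ctr hg) hab' hexp' (c.hfixT le_rfl inf_le_left hTN)
      fun h => hab fun a ha b hb => mem_centralizer_iff.1 (h hb).2 a ha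
    obtain ⟨ν, v, hv, hv0, hfν⟩ : ∃ ν v, v ∈ comp ρ (ctr S) ν ∧ v ≠ 0 ∧ f ∈ nuStab (ctr S) ν := by
      by_contra hcon
      push Not at hcon
      refine hxN ?_
      rw [c.eq_of_act hx S.one_mem (c.ext_on _ c.comps_top fun μ _ w hw => ?_)]
      · exact one_mem _
      rw [map_one, Module.End.one_apply]
      by_cases hw0 : w = 0
      · rw [hw0, map_zero]
      exact centralises_moved ρ hw (mem_normalizer_ctr c.fS) c.ordf (hcon μ w hw hw0)
        (fun z hz => mem_centralizer_iff.1 hz.2 x hx) hxf.symm fun u hu => c.fix_fix hx hxf hu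
    have hfix := c.fpf_on_comp hab hv hv0 (c.ctr_fixed hTZ hv hv0 hfν)
    set U := comp ρ (ctr S) ν
    set R := rad ρ U S
    have hstab : ∀ g, g ∈ nuStab (ctr S) ν → g ∈ normalizer (S : Set G) → g ∈ normalizer (R : Set G) := fun g h1 h2 =>
      mem_normalizer_rad h2 (mem_stab fun w hw => stab_le_comp h1 hw)
    have hRS : S ≤ normalizer (R : Set G) := fun a ha => hstab a (c.S_stab ν ha) (le_normalizer ha)
    obtain ⟨hZR, -, hsq, hb, h1⟩ := c.bound_on_comp hab hv hv0 c.pK c.ordf c.fS hfν hfix hRS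
    have hTR : T ≤ normalizer (R : Set G) := fun y hy => hstab y (c.T_stab hTZ ν hy) (c.TS hy)
    have hRle : R ≤ S := fun a ha => ha.1
    exact arith (s := s) (π := p) (c.pow_relIndex (B := fixSec S R f hRS) fun a ha => ha.1) (free_section (e := f) hRle hRS
      (fun a ha b hb => hZR (hab' a ha b hb)) (fun a ha => hZR (hexp' a ha)) c.hT c.ordf c.TS hTR c.fS
      (hstab f hfν c.fS) c.fT c.st c.sp c.tp
      (fun y hy hcm a ha => by rw [hT2 y hy hcm a ha, mul_inv_cancel_right, inv_mul_cancel]; exact one_mem _)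
      (c.hfixT hZR hRle hTR) fun u => Iff.rfl) hsq hb h1

/-- when `f` centralises `T`, moved components are stabilised by a coset element of order `q` -/
theorem exists_coset_stab (c : Cfg ρ S T f σ p q s t) {ν : G → K} {v : V} (hv : v ∈ comp ρ (ctr S) ν) (hv0 : v ≠ 0)
    (hmov : f ∉ nuStab (ctr S) ν) : ∃ a ∈ zpowers f, a * σ ∈ nuStab (ctr S) ν := by
  haveI := Fintype.ofFinite (zpowers f)
  have hq : q.Prime := Fact.out
  haveI : NeZero q := ⟨hq.ne_zero⟩
  have hσf := zpowers_conj c.rel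
  by_contra hno
  push Not at hno
  have hfZ : zpowers f ≤ normalizer (ctr S : Set G) := zpowers_le.2 (mem_normalizer_ctr c.fS)
  have hσZ : σ ∈ normalizer (ctr S : Set G) := mem_normalizer_ctr c.σS
  have hne : ∑ ai : zpowers f × Fin q, ρ ((ai.1 : G) * σ ^ (ai.2 : ℕ)) v ≠ 0 := by
    refine sum_translates_ne_zero ρ hv hv0 _ (fun ai => conj_mem_of_normalizes (mul_mem (hfZ ai.1.2) (pow_mem hσZ _)))
      fun ai bj h => ?_
    obtain ⟨⟨a, ha⟩, i⟩ := ai
    obtain ⟨⟨b, hb⟩, j⟩ := bj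
    have hh := stab_of_eq (mul_mem (hfZ ha) (pow_mem hσZ _)) (mul_mem (hfZ hb) (pow_mem hσZ _)) h
    -- ordering the exponents
    wlog hij : (i : ℕ) ≤ j generalizing a b i j
    · exact (this j b hb i a ha (fun z hz => (h z hz).symm) (by
        have := inv_mem hh
        rwa [mul_inv_rev, inv_inv] at this) (by omega)).symm
    have hc : (σ ^ (i : ℕ))⁻¹ * (a⁻¹ * b) * σ ^ (i : ℕ) ∈ zpowers f :=
      (Subgroup.mem_normalizer_iff''.1 (pow_mem hσf _) _).1 (mul_mem (inv_mem ha) hb)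
    set a' := (σ ^ (i : ℕ))⁻¹ * (a⁻¹ * b) * σ ^ (i : ℕ) with ha'
    have e : (a * σ ^ (i : ℕ))⁻¹ * (b * σ ^ (j : ℕ)) = a' * σ ^ ((j : ℕ) - i) := by
      rw [ha', show σ ^ (j : ℕ) = σ ^ (i : ℕ) * σ ^ ((j : ℕ) - i) by rw [← pow_add]; congr 1; omega]
      group
    simp only at hh
    rw [e] at hh
    rcases Nat.eq_zero_or_pos ((j : ℕ) - i) with hd | hd
    · rw [hd, pow_zero, mul_one] at hh
      have hij' : i = j := Fin.ext (by omega)
      by_contra hne
      refine hmov (gen_of_zpowers c.ordf hc (fun e1 => hne ?_) hh)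
      rw [ha'] at e1
      have : a⁻¹ * b = 1 := by
        have := congrArg (fun w => σ ^ (i : ℕ) * w * (σ ^ (i : ℕ))⁻¹) e1
        simpa [mul_assoc] using this
      subst hij'
      simp [inv_mul_eq_one.1 this]
    · have hlt : (j : ℕ) - i < q := by have := j.2; omega
      obtain ⟨m, -, hm⟩ := Nat.exists_mul_mod_eq_one_of_coprime
        (k := q) (n := (j : ℕ) - i) ((hq.coprime_iff_not_dvd.2 fun hdd => absurd (Nat.le_of_dvd hd hdd) (not_le.2 hlt)).symm)
        hq.one_lt
      obtain ⟨b', hb', hbe⟩ := pow_coset (pow_mem hσf ((j : ℕ) - i)) hc m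
      rw [← pow_mul, ← pow_mod_orderOf σ (((j : ℕ) - i) * m), c.ordσ, hm, pow_one] at hbe
      have := pow_mem hh m
      rw [hbe] at this
      exact absurd this (hno b' hb')
  refine hne (c.fixV _ ?_ ?_)
  · rw [Fintype.sum_prod_type, Finset.sum_comm, map_sum]
    refine Finset.sum_congr rfl fun i _ => ?_
    have := map_self_sum_zpowers ρ (x := f) (ρ (σ ^ (i : ℕ)) v)
    simpa [map_mul, Module.End.mul_apply] using this
  · rw [Fintype.sum_prod_type, map_sum]
    simp only [map_sum]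
    let g : zpowers f → zpowers f := fun a => ⟨σ * a * σ⁻¹, (Subgroup.mem_normalizer_iff.1 hσf a).1 a.2⟩
    have hg : Function.Bijective g := Finite.injective_iff_bijective.1 fun a b e =>
      Subtype.ext (mul_left_cancel (mul_right_cancel (congrArg Subtype.val e : σ * (a : G) * σ⁻¹ = σ * b * σ⁻¹)))
    refine Fintype.sum_bijective g hg _ _ fun a => ?_
    refine Fintype.sum_equiv (Equiv.addRight (1 : Fin q)) _ _ fun i => ?_
    show ρ σ (ρ ((a : G) * σ ^ (i : ℕ)) v) = ρ (σ * (a : G) * σ⁻¹ * σ ^ ((i + 1 : Fin q) : ℕ)) v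
    rw [← Module.End.mul_apply, ← map_mul]
    congr 2
    have e : σ ^ ((i + 1 : Fin q) : ℕ) = σ * σ ^ (i : ℕ) := by
      rw [Fin.val_add, Fin.val_one', ← pow_succ' σ, pow_eq_pow_iff_modEq, c.ordσ]
      exact (Nat.mod_modEq _ _).trans (Nat.ModEq.add_left _ (Nat.mod_modEq _ _))
    rw [e]
    group

theorem commutators_in_T (c : Cfg ρ S T f σ p q s t) (hT1 : ∀ y ∈ T, f * y = y * f) {y : G} (hy : y ∈ T) :
    ∃ z ∈ T, y = z⁻¹ * (σ * z * σ⁻¹) := by
  let g : T → T := fun z => ⟨(z : G)⁻¹ * (σ * z * σ⁻¹),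
    T.mul_mem (T.inv_mem z.2) ((Subgroup.mem_normalizer_iff.1 c.σT z).1 z.2)⟩
  have hg : Function.Bijective g := Finite.injective_iff_bijective.1 fun a b e => by
    have e' : (a : G)⁻¹ * (σ * a * σ⁻¹) = (b : G)⁻¹ * (σ * b * σ⁻¹) := congrArg Subtype.val e
    have h1 : σ * ((a : G) * (b : G)⁻¹) = (a : G) * (b : G)⁻¹ * σ := by
      have := congrArg (fun w => (a : G) * w * (σ * (b : G)⁻¹)) e'
      simpa [mul_assoc] using this
    have hm := T.mul_mem a.2 (T.inv_mem b.2)
    exact Subtype.ext (mul_inv_eq_one.1 (c.fixT _ hm (hT1 _ hm) h1))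
  obtain ⟨z, hz⟩ := hg.2 ⟨y, hy⟩
  exact ⟨z, z.2, (congrArg Subtype.val hz).symm⟩

/-- normal operator trivial on `T`, abelian `S` -/
theorem case_one_abelian (c : Cfg ρ S T f σ p q s t) (hT1 : ∀ y ∈ T, f * y = y * f)
    (hab : ∀ x ∈ S, ∀ y ∈ S, x * y = y * x) : False := by
  obtain ⟨hab', hexp', habel, hnabel, hcT⟩ := c.structure_S
  obtain ⟨hs1, hTfix⟩ := habel hab
  have hctr := ctr_eq_of_abelian hab
  have hC : ∀ u ∈ S, f * u = u * f → u = 1 := fun u hu hfu => by
    have := c.fixed_mem hT1 bot_le (fun g _ => by rw [Subgroup.normalizer_eq_top]; trivial)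
      (fun a ha b hb => by rw [Subgroup.mem_bot, mul_assoc, hab _ ha b hb]; group)
      (fun a ha => by rw [Subgroup.mem_bot, hs1 a ha])
      (fun a ha h => by
        rw [Subgroup.mem_bot]
        refine hTfix a ha fun y hy => ?_
        have := h y hy
        rw [Subgroup.mem_bot, inv_mul_eq_one] at this
        exact (mul_inv_eq_iff_eq_mul.1 this.symm)) u hu
      (by rw [Subgroup.mem_bot, hfu, mul_inv_cancel_right, inv_mul_cancel])
    exact Subgroup.mem_bot.1 this
  -- every occurring function is moved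
  have hmov : ∀ ν v, v ∈ comp ρ (ctr S) ν → v ≠ 0 → f ∉ nuStab (ctr S) ν := by
    intro ν v hv hv0 hfν
    have h1 : ∀ z ∈ ctr S, ν z = 1 := by
      intro z hz
      let g : S → S := fun a => ⟨(a : G)⁻¹ * (f * a * f⁻¹),
        S.mul_mem (S.inv_mem a.2) ((Subgroup.mem_normalizer_iff.1 c.fS a).1 a.2)⟩
      have hg : Function.Bijective g := Finite.injective_iff_bijective.1 fun a b e => by
        have e' : (a : G)⁻¹ * (f * a * f⁻¹) = (b : G)⁻¹ * (f * b * f⁻¹) := congrArg Subtype.val e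
        have h1 : f * ((a : G) * (b : G)⁻¹) = (a : G) * (b : G)⁻¹ * f := by
          have := congrArg (fun w => (a : G) * w * (f * (b : G)⁻¹)) e'
          simpa [mul_assoc] using this
        exact Subtype.ext (mul_inv_eq_one.1 (hC _ (S.mul_mem a.2 (S.inv_mem b.2)) h1))
      obtain ⟨a, ha⟩ := hg.2 ⟨z, hz.1⟩
      have hz' : z = (a : G)⁻¹ * (f * a * f⁻¹) := (congrArg Subtype.val ha).symm
      have haZ : (a : G) ∈ ctr S := hctr.symm ▸ a.2
      have h2 : ν (f * a * f⁻¹) = ν a := by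
        have := (inv_mem hfν).2 (a : G) haZ
        rwa [inv_inv] at this
      rw [hz', nu_mul hv hv0 (inv_mem haZ) ((Subgroup.mem_normalizer_iff.1 (mem_normalizer_ctr c.fS) _).1 haZ), h2,
        ← nu_mul hv hv0 (inv_mem haZ) haZ, inv_mul_cancel, nu_one hv hv0]
    have htop := c.top_of (fun μ => ∀ z ∈ ctr S, μ z = 1)
      (fun g hg μ hμ z hz => hμ _ (conj_mem_of_normalizes (c.gen_ctr hg) z hz)) h1 hv hv0
    refine c.ne_of_S (x := 1) fun x hx => c.eq_of_act hx S.one_mem (c.ext_on _ htop fun μ hμ w hw => ?_)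
    have hxZ : x ∈ ctr S := hctr.symm ▸ hx
    rw [mem_comp.1 hw x hxZ, hμ x hxZ, one_smul, map_one, Module.End.one_apply]
  -- `T` fixes every occurring function
  obtain ⟨x, hx, y, hy, hxy⟩ := c.ne
  apply hxy
  have hy' : y⁻¹ * x * y ∈ S := (Subgroup.mem_normalizer_iff''.1 (c.TS hy) x).1 hx
  have key : y⁻¹ * x * y = x := by
    refine c.eq_of_act hy' hx (c.ext_on _ c.comps_top fun ν _ w hw => ?_)
    by_cases hw0 : w = 0
    · rw [hw0, map_zero, map_zero]
    have hxZ : x ∈ ctr S := hctr.symm ▸ hx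
    have hyS : y ∈ nuStab (ctr S) ν := by
      obtain ⟨z, hz, hyz⟩ := c.commutators_in_T hT1 hy
      have hzN := c.gen_ctr (Or.inr (Or.inl hz))
      have hw' : ρ z w ≠ 0 := fun e => hw0 (by rw [← apply_inv_apply ρ z w, e, map_zero])
      obtain ⟨a, ha, haS⟩ := c.exists_coset_stab hw hw0 (hmov ν w hw hw0)
      obtain ⟨b, hb, hbS⟩ := c.exists_coset_stab (mem_comp_cj hzN hw) hw' (hmov _ _ (mem_comp_cj hzN hw) hw')
      rw [mem_nuStab_cj hzN] at hbS
      have hzb : z⁻¹ * b = b * z⁻¹ := (comm_zpowers (by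
        have := congrArg (fun w => z⁻¹ * w * z⁻¹) (hT1 z hz)
        simpa [mul_assoc] using this.symm) b hb).symm
      have hbc : b * y * a⁻¹ ∈ nuStab (ctr S) ν := by
        have h := mul_mem hbS (inv_mem haS)
        rw [mul_inv_rev, ← mul_assoc z⁻¹ b σ, hzb] at h
        rw [hyz]
        simpa [mul_assoc] using h
      have hya : y * a⁻¹ = a⁻¹ * y := (comm_zpowers (hT1 y hy) _ (inv_mem ha)).symm
      rw [mul_assoc, hya, ← mul_assoc] at hbc
      set d := b * a⁻¹ with hd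
      have hdz : d ∈ zpowers f := mul_mem hb (inv_mem ha)
      obtain ⟨k, hk⟩ := IsPGroup.iff_card.1 c.hT
      have hyk : y ^ (t ^ k) = 1 := by
        rw [← hk, show y = ((⟨y, hy⟩ : T) : G) from rfl, ← Subgroup.coe_pow, pow_card_eq_one']
        rfl
      have hdy : Commute d y := comm_zpowers (hT1 y hy) _ hdz
      have h2 := pow_mem hbc (t ^ k)
      rw [hdy.mul_pow, hyk, mul_one] at h2
      by_cases hd1 : d = 1
      · rwa [hd1, one_mul] at hbc
      · exfalso
        refine hmov ν w hw hw0 (gen_of_zpowers c.ordf (pow_mem hdz _) (fun e => hd1 ?_) h2)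
        have h3 : orderOf d ∣ t ^ k := orderOf_dvd_of_pow_eq_one e
        have h4 : orderOf d ∣ p := by
          rw [← c.ordf, ← Nat.card_zpowers f]
          exact Subgroup.orderOf_dvd_natCard _ hdz
        exact orderOf_eq_one_iff.1 (Nat.eq_one_of_dvd_coprimes
          (((Nat.coprime_primes Fact.out Fact.out).2 c.tp).pow_left k) h3 h4)
    rw [mem_comp.1 hw _ (hctr.symm ▸ hy'), mem_comp.1 hw x hxZ, hyS.2 x hxZ]
  have := congrArg (fun w => y * w) key
  simpa [mul_assoc] using this.symm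

/-- normal operator trivial on `T`, non-abelian `S` -/
theorem case_one_nonabelian (c : Cfg ρ S T f σ p q s t) (hT1 : ∀ y ∈ T, f * y = y * f)
    (hna : ¬ ∀ x ∈ S, ∀ y ∈ S, x * y = y * x) : False := by
  obtain ⟨hab', hexp', habel, hnabel, hcT⟩ := c.structure_S
  have hTZ := hnabel hna
  have hTN : T ≤ normalizer (ctr S : Set G) := fun y hy => mem_normalizer_ctr (c.TS hy)
  haveI := c.nontrivial_V
  -- some component
  obtain ⟨v, -, hv0, hv'⟩ := exists_eigen_of_commute ρ (ctr S) (fun a ha b hb => by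
      rw [← map_mul, ← map_mul, mem_centralizer_iff.1 hb.2 a ha.1])
    (finrank K V) ⊤ (by rw [finrank_top]) top_ne_bot fun _ _ _ _ => trivial
  obtain ⟨ν, hv⟩ : ∃ ν, v ∈ comp ρ (ctr S) ν := ⟨fun z => if h : z ∈ ctr S then (hv' z h).choose else 0,
    mem_comp.2 fun z hz => by simp only [dif_pos hz]; exact (hv' z hz).choose_spec⟩
  set U := comp ρ (ctr S) ν with hU
  set R := rad ρ U S with hR
  have hRle : R ≤ S := fun a ha => ha.1
  have hstab : ∀ g, g ∈ nuStab (ctr S) ν → g ∈ normalizer (S : Set G) → g ∈ normalizer (R : Set G) := fun g h1 h2 =>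
    mem_normalizer_rad h2 (mem_stab fun w hw => stab_le_comp h1 hw)
  have hRS : S ≤ normalizer (R : Set G) := fun a ha => hstab a (c.S_stab ν ha) (le_normalizer ha)
  have hTR : T ≤ normalizer (R : Set G) := fun y hy => hstab y (c.T_stab hTZ ν hy) (c.TS hy)
  by_cases hfν : f ∈ nuStab (ctr S) ν
  · have hfix := c.fpf_on_comp hna hv hv0 (c.ctr_fixed hTZ hv hv0 hfν)
    obtain ⟨hZR, hrad, ⟨d, hd⟩, hb, h1⟩ := c.bound_on_comp hna hv hv0 c.pK c.ordf c.fS hfν hfix hRS
    have hfR := hstab f hfν c.fS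
    -- no fixed cosets
    have hfixf : ∀ u ∈ S, u⁻¹ * (f * u * f⁻¹) ∈ R → u ∈ R := by
      intro u hu hfu
      obtain ⟨e, he, hef⟩ := lift_fixed c.ordf hfR (card_pgroup (c.hS.to_le hRle) Fact.out c.sp) hfu
      have h := c.fixed_mem hT1 inf_le_left (fun g hg => mem_normalizer_ctr hg) hab' hexp'
        (c.hfixT le_rfl inf_le_left hTN) _ (S.mul_mem hu (hRle he))
        (by rw [hef, mul_inv_cancel_right, inv_mul_cancel]; exact one_mem _)
      simpa using R.mul_mem (hZR h) (R.inv_mem he)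
    have hFx : R.relIndex (fixSec S R f hRS) = 1 :=
      Subgroup.relIndex_eq_one.2 fun u hu => hfixf u hu.1 hu.2
    rw [hFx, mul_one] at hb
    obtain ⟨n, hn⟩ := c.pow_relIndex (A := R) (B := S) le_rfl
    obtain ⟨m, -, hm⟩ := (Nat.dvd_prime_pow Fact.out).1 (Dvd.intro d (hd.symm.trans hn) : d ∣ s ^ n)
    subst hm
    have hm0 : m ≠ 0 := fun h => h1 (by rw [hd, h]; rfl)
    have hsm : s ^ m ≤ p - 1 := by
      rw [hd, ← pow_two] at hb
      exact (Nat.pow_le_pow_iff_left two_ne_zero).1 hb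
    -- the quotient
    haveI : (R.subgroupOf S).Normal := Subgroup.normal_subgroupOf_of_le_normalizer hRS
    set H := T ⊔ zpowers f with hH
    have hHS : H ≤ normalizer (S : Set G) := sup_le c.TS (zpowers_le.2 c.fS)
    have hHR : H ≤ normalizer (R : Set G) := sup_le hTR (zpowers_le.2 hfR)
    have hHν : H ≤ nuStab (ctr S) ν := sup_le (c.T_stab hTZ ν) (zpowers_le.2 hfν)
    letI : CommGroup (S ⧸ R.subgroupOf S) :=
      { (inferInstance : Group (S ⧸ R.subgroupOf S)) with
        mul_comm := fun a b => by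
          obtain ⟨a, rfl⟩ := QuotientGroup.mk_surjective a
          obtain ⟨b, rfl⟩ := QuotientGroup.mk_surjective b
          rw [← QuotientGroup.mk_mul, ← QuotientGroup.mk_mul, QuotientGroup.eq, Subgroup.mem_subgroupOf]
          have e' : (((a * b)⁻¹ * (b * a) : S) : G) = (b : G)⁻¹ * (a : G)⁻¹ * b * a := by simp [mul_assoc]
          rw [e']
          exact hZR (hab' b b.2 a a.2) }
    have hfH : f ∈ H := Subgroup.mem_sup_right (mem_zpowers f)
    set F := quotAct hHS hHR ⟨f, hfH⟩ with hF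
    have hFp : F ^ p = 1 := by
      rw [hF, ← map_pow, show (⟨f, hfH⟩ : H) ^ p = 1 from Subtype.ext (by
        show f ^ p = 1; rw [← c.ordf, pow_orderOf_eq_one]), map_one]
    have hFfix : ∀ w, F w = w → w = 1 := by
      intro w hw
      obtain ⟨u, rfl⟩ := QuotientGroup.mk_surjective w
      rw [QuotientGroup.eq_one_iff, Subgroup.mem_subgroupOf]
      exact hfixf u u.2 ((quotAct_fixed_iff hHS hHR ⟨f, hfH⟩ u).1 hw)
    have hcong : ∀ D : Subgroup (S ⧸ R.subgroupOf S), (∀ x ∈ D, F x ∈ D) → Nat.card D ≡ 1 [MOD p] := by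
      intro D hD
      let g : Equiv.Perm D := Equiv.ofBijective (fun x => ⟨F x.1, hD x.1 x.2⟩)
        (Finite.injective_iff_bijective.1 fun a b e => Subtype.ext (F.injective (congrArg Subtype.val e)))
      have hgpow : ∀ (i : ℕ) (x : D), ((g ^ i) x : S ⧸ R.subgroupOf S) = (F ^ i) x.1 := by
        intro i
        induction i with
        | zero => intro x; rfl
        | succ i ih => intro x; rw [pow_succ', Equiv.Perm.mul_apply, pow_succ', MulAut.mul_apply, ← ih]; rfl
      have hgp : g ^ p = 1 := Equiv.ext fun x => Subtype.ext (by rw [hgpow, hFp]; rfl)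
      have hP : IsPGroup p (zpowers g) := fun x => ⟨1, by
        obtain ⟨i, hi⟩ := Subgroup.mem_zpowers_iff.1 x.2
        refine Subtype.ext ?_
        rw [Subgroup.coe_pow, pow_one, ← hi, ← zpow_natCast, ← zpow_mul, mul_comm, zpow_mul, zpow_natCast, hgp,
          one_zpow]
        rfl⟩
      have h := hP.card_modEq_card_fixedPoints D
      have hone : Nat.card (MulAction.fixedPoints (zpowers g) D) = 1 := by
        refine Nat.card_eq_one_iff_unique.2 ⟨⟨fun a b => Subtype.ext (Subtype.ext ?_)⟩, ⟨⟨1, fun x => ?_⟩⟩⟩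
        · rw [hFfix _ (congrArg Subtype.val (a.2 ⟨g, mem_zpowers g⟩)), hFfix _ (congrArg Subtype.val (b.2 ⟨g, mem_zpowers g⟩))]
        · have hs : g ∈ MulAction.stabilizer (Equiv.Perm D) (1 : D) := Subtype.ext (map_one F)
          obtain ⟨i, hi⟩ := Subgroup.mem_zpowers_iff.1 x.2
          show (x : Equiv.Perm D) 1 = 1
          rw [← hi]
          exact Subgroup.zpow_mem _ hs i
      rwa [hone] at h
    have hW : Nat.card (S ⧸ R.subgroupOf S) = s ^ m * s ^ m := by
      rw [← Subgroup.index_eq_card]; exact hd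
    have hp : p.Prime := Fact.out
    have hpsm : p ∣ s ^ m + 1 := by
      have h2 : s ^ m * s ^ m ≡ 1 [MOD p] := by
        have := hcong ⊤ fun _ _ => trivial
        rwa [Subgroup.card_top, hW] at this
      have h3 : p ∣ s ^ m * s ^ m - 1 := (Nat.modEq_iff_dvd' (Nat.one_le_iff_ne_zero.2 (by
        exact mul_ne_zero (pow_ne_zero _ (Fact.out : s.Prime).ne_zero) (pow_ne_zero _ (Fact.out : s.Prime).ne_zero)))).1 h2.symm
      rw [← pow_two, show (1 : ℕ) = 1 ^ 2 from rfl, Nat.sq_sub_sq] at h3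
      rcases hp.dvd_mul.1 h3 with h | h
      · exact h
      · exfalso
        have h4 : 1 < s ^ m := Nat.one_lt_pow hm0 (Fact.out : s.Prime).one_lt
        have := Nat.le_of_dvd (by omega) h
        omega
    have hpe : p = s ^ m + 1 := by
      have := Nat.le_of_dvd (by omega) hpsm
      have := hp.two_le
      omega
    have hirr : ∀ D : Subgroup (S ⧸ R.subgroupOf S), (∀ x ∈ D, F x ∈ D) → D = ⊥ ∨ D = ⊤ := by
      intro D hD
      have hdvd := Subgroup.card_subgroup_dvd_card D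
      rw [hW, ← pow_add] at hdvd
      obtain ⟨u, hu, hue⟩ := (Nat.dvd_prime_pow Fact.out).1 hdvd
      have h2 := hcong D hD
      rw [hue] at h2
      have hs1 : 1 < s := (Fact.out : s.Prime).one_lt
      rcases Nat.lt_or_ge u (m + 1) with h | h
      · left
        have h3 : s ^ u ≤ s ^ m := Nat.pow_le_pow_right (by omega) (by omega)
        have h4 : p ∣ s ^ u - 1 := (Nat.modEq_iff_dvd' (Nat.one_le_pow _ _ (by omega))).1 h2.symm
        have h5 : s ^ u - 1 = 0 := Nat.eq_zero_of_dvd_of_lt h4 (by omega)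
        rw [← Subgroup.card_eq_one, hue]
        have := Nat.one_le_pow u s (by omega)
        omega
      rcases Nat.lt_or_ge u (m + m) with h' | h'
      · exfalso
        obtain ⟨e, rfl⟩ : ∃ e, u = m + e := ⟨u - m, by omega⟩
        have h5 : s ^ e < s ^ m := Nat.pow_lt_pow_right hs1 (by omega)
        have h6 : (s ^ m + 1) * s ^ e ≡ 0 [MOD p] := Nat.modEq_zero_iff_dvd.2 (Dvd.dvd.mul_right hpsm _)
        rw [add_mul, one_mul, ← pow_add] at h6
        have h7 : 1 + s ^ e ≡ 0 [MOD p] := ((h2.symm.add_right _).trans h6)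
        have h8 := Nat.le_of_dvd (by omega) (Nat.modEq_zero_iff_dvd.1 h7)
        omega
      · right
        refine Subgroup.eq_top_of_card_eq D ?_
        rw [hue, hW, ← pow_add, show u = m + m by omega]
    -- the pairing
    let b : S ⧸ R.subgroupOf S → S ⧸ R.subgroupOf S → K := fun x y =>
      ν ((x.out : G) * y.out * (x.out : G)⁻¹ * (y.out : G)⁻¹)
    have hcomm : ∀ u ∈ S, ∀ w ∈ S, u * w * u⁻¹ * w⁻¹ ∈ ctr S := fun u hu w hw => by
      have := hab' _ (S.inv_mem hu) _ (S.inv_mem hw)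
      simpa [inv_inv] using this
    have hl : ∀ u ∈ S, ∀ u' ∈ S, ∀ w ∈ S,
        ν (u * u' * w * (u * u')⁻¹ * w⁻¹) = ν (u * w * u⁻¹ * w⁻¹) * ν (u' * w * u'⁻¹ * w⁻¹) := by
      intro u hu u' hu' w hw
      have e : u * u' * w * (u * u')⁻¹ * w⁻¹ = (u * w * u⁻¹ * w⁻¹) * (u' * w * u'⁻¹ * w⁻¹) := by
        have h := mem_centralizer_iff.1 (hcomm u' hu' w hw).2 (u * w * u⁻¹ * w⁻¹) (hcomm u hu w hw).1
        rw [h]
        have h' := mem_centralizer_iff.1 (hcomm u' hu' w hw).2 u hu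
        calc u * u' * w * (u * u')⁻¹ * w⁻¹ = u * (u' * w * u'⁻¹ * w⁻¹) * (w * u⁻¹ * w⁻¹) := by group
          _ = (u' * w * u'⁻¹ * w⁻¹) * u * (w * u⁻¹ * w⁻¹) := by rw [h']
          _ = _ := by group
      rw [e, nu_mul hv hv0 (hcomm u hu w hw) (hcomm u' hu' w hw)]
    have hr : ∀ u ∈ S, ∀ w ∈ S, ∀ w' ∈ S,
        ν (u * (w * w') * u⁻¹ * (w * w')⁻¹) = ν (u * w * u⁻¹ * w⁻¹) * ν (u * w' * u⁻¹ * w'⁻¹) := by
      intro u hu w hw w' hw'
      have h' := mem_centralizer_iff.1 (hcomm u hu w' hw').2 w hw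
      have e : u * (w * w') * u⁻¹ * (w * w')⁻¹ = (u * w * u⁻¹ * w⁻¹) * (u * w' * u⁻¹ * w'⁻¹) := by
        calc u * (w * w') * u⁻¹ * (w * w')⁻¹ = u * w * u⁻¹ * ((u * w' * u⁻¹ * w'⁻¹) * w⁻¹) := by group
          _ = u * w * u⁻¹ * (w⁻¹ * (w * (u * w' * u⁻¹ * w'⁻¹)) * w⁻¹) := by group
          _ = u * w * u⁻¹ * (w⁻¹ * ((u * w' * u⁻¹ * w'⁻¹) * w) * w⁻¹) := by rw [h']
          _ = _ := by group
      rw [e, nu_mul hv hv0 (hcomm u hu w hw) (hcomm u hu w' hw')]
    have hswap : ∀ u ∈ S, ∀ w ∈ S, ν (w * u * w⁻¹ * u⁻¹) * ν (u * w * u⁻¹ * w⁻¹) = 1 := fun u hu w hw => by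
      rw [← nu_mul hv hv0 (hcomm w hw u hu) (hcomm u hu w hw),
        show w * u * w⁻¹ * u⁻¹ * (u * w * u⁻¹ * w⁻¹) = 1 by group, nu_one hv hv0]
    have hrr : ∀ u ∈ S, ∀ r ∈ R, ν (u * r * u⁻¹ * r⁻¹) = 1 := fun u hu r hr' => by
      have h := hswap u hu r (hRle hr')
      rwa [(hrad r (hRle hr')).1 hr' u hu, one_mul] at h
    have hmk : ∀ (u w : S), b (QuotientGroup.mk u) (QuotientGroup.mk w) = ν ((u : G) * w * (u : G)⁻¹ * (w : G)⁻¹) := by
      intro u w
      have h1 : ∀ z : S, ∃ r ∈ R, ((QuotientGroup.mk z : S ⧸ R.subgroupOf S).out : G) = z * r := fun z =>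
        ⟨_, Subgroup.mem_subgroupOf.1 (QuotientGroup.eq.1 (QuotientGroup.out_eq' (QuotientGroup.mk z : S ⧸ R.subgroupOf S)).symm),
          (mul_inv_cancel_left (z : G) _).symm⟩
      obtain ⟨r, hr1, hre⟩ := h1 u
      obtain ⟨r', hr1', hre'⟩ := h1 w
      simp only [b, hre, hre']
      rw [hl u u.2 r (hRle hr1) _ (S.mul_mem w.2 (hRle hr1')), (hrad r (hRle hr1)).1 hr1 _ (S.mul_mem w.2 (hRle hr1')),
        mul_one, hr u u.2 w w.2 r' (hRle hr1'), hrr u u.2 r' hr1', mul_one]
    have hinv : ∀ h : H, ∀ x y, b (quotAct hHS hHR h x) (quotAct hHS hHR h y) = b x y := by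
      intro h x y
      obtain ⟨x, rfl⟩ := QuotientGroup.mk_surjective x
      obtain ⟨y, rfl⟩ := QuotientGroup.mk_surjective y
      rw [quotAct_mk, quotAct_mk, hmk, hmk]
      have h3 := (inv_mem (hHν h.2)).2 _ (hcomm x x.2 y y.2)
      rw [inv_inv] at h3
      rw [← h3]
      congr 1
      show (h : G) * x * (h : G)⁻¹ * ((h : G) * y * (h : G)⁻¹) * ((h : G) * x * (h : G)⁻¹)⁻¹ *
        ((h : G) * y * (h : G)⁻¹)⁻¹ = (h : G) * ((x : G) * y * (x : G)⁻¹ * (y : G)⁻¹) * (h : G)⁻¹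
      group
    have hτ : ∀ y : T, quotAct hHS hHR ⟨y, Subgroup.mem_sup_left y.2⟩ = 1 := by
      intro y
      set τ := quotAct hHS hHR ⟨(y : G), Subgroup.mem_sup_left y.2⟩ with hτ'
      have h1 := adjoint_pow (s := s) (p := p) (m := m) (fun z => by
          obtain ⟨u, rfl⟩ := QuotientGroup.mk_surjective z
          rw [← QuotientGroup.mk_pow, QuotientGroup.eq_one_iff, Subgroup.mem_subgroupOf, Subgroup.coe_pow]
          exact hZR (hexp' u u.2))
        b (fun x y => by
          obtain ⟨x, rfl⟩ := QuotientGroup.mk_surjective x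
          obtain ⟨y, rfl⟩ := QuotientGroup.mk_surjective y
          rw [hmk]
          exact fun e => one_ne_zero ((hswap x x.2 y y.2).symm.trans (by rw [e, mul_zero])))
        (fun x x' y => by
          obtain ⟨x, rfl⟩ := QuotientGroup.mk_surjective x
          obtain ⟨x', rfl⟩ := QuotientGroup.mk_surjective x'
          obtain ⟨y, rfl⟩ := QuotientGroup.mk_surjective y
          rw [← QuotientGroup.mk_mul, hmk, hmk, hmk]
          exact hl x x.2 x' x'.2 y y.2)
        (fun x y y' => by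
          obtain ⟨x, rfl⟩ := QuotientGroup.mk_surjective x
          obtain ⟨y, rfl⟩ := QuotientGroup.mk_surjective y
          obtain ⟨y', rfl⟩ := QuotientGroup.mk_surjective y'
          rw [← QuotientGroup.mk_mul, hmk, hmk, hmk]
          exact hr x x.2 y y.2 y' y'.2)
        (fun y h => by
          obtain ⟨y, rfl⟩ := QuotientGroup.mk_surjective y
          rw [QuotientGroup.eq_one_iff, Subgroup.mem_subgroupOf, hrad y y.2]
          intro w hw
          have h' := h (QuotientGroup.mk ⟨w, hw⟩)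
          rw [hmk] at h'
          have := hswap y y.2 w hw
          rwa [h', one_mul] at this)
        F τ (hinv _) (hinv _)
        (by
          rw [hF, hτ', ← map_mul, ← map_mul]
          exact congrArg _ (Subtype.ext (hT1 y y.2)))
        hFp hpsm hirr
      obtain ⟨k, hk⟩ := c.hT y
      have h2 : τ ^ (t ^ k) = 1 := by
        rw [hτ', ← map_pow, show (⟨(y : G), Subgroup.mem_sup_left y.2⟩ : H) ^ (t ^ k) = 1 from Subtype.ext (by
          show (y : G) ^ (t ^ k) = 1; rw [← Subgroup.coe_pow, hk]; rfl), map_one]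
      rw [← hpe] at h1
      exact orderOf_eq_one_iff.1 (Nat.eq_one_of_dvd_coprimes
        (((Nat.coprime_primes Fact.out Fact.out).2 c.tp).pow_left k)
        (orderOf_dvd_of_pow_eq_one h2) (orderOf_dvd_of_pow_eq_one h1))
    refine h1 (Subgroup.relIndex_eq_one.2 fun u hu => c.hfixT hZR hRle hTR u hu fun y hy => ?_)
    exact (quotAct_fixed_iff hHS hHR ⟨y, Subgroup.mem_sup_left hy⟩ ⟨u, hu⟩).1 (by rw [hτ ⟨y, hy⟩]; rfl)
  · obtain ⟨a, ha, haν⟩ := c.exists_coset_stab hv hv0 hfν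
    set x := a * σ with hx
    have hxS : x ∈ normalizer (S : Set G) := mul_mem (zpowers_le.2 c.fS ha) c.σS
    have hxT : x ∈ normalizer (T : Set G) := mul_mem (zpowers_le.2 c.fT ha) c.σT
    have hxo := c.order_coset ha
    have hxf : ∀ b ∈ zpowers f, x * b * x⁻¹ ∈ zpowers f := fun b hb =>
      (Subgroup.mem_normalizer_iff.1 (mul_mem (le_normalizer ha) (zpowers_conj c.rel)) b).1 hb
    -- no fixed vectors on the component
    have hfix : ∀ w ∈ U, ρ x w = w → w = 0 := by
      intro w hw hxw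
      haveI := Fintype.ofFinite (zpowers f)
      by_contra hw0
      refine sum_translates_ne_zero ρ hw hw0 (fun b : zpowers f => (b : G))
        (fun b => conj_mem_of_normalizes (zpowers_le.2 (mem_normalizer_ctr c.fS) b.2))
        (fun b b' h => Subtype.ext (distinct_of_moved (mem_normalizer_ctr c.fS) c.ordf hfν b.2 b'.2 h)) ?_
      set W := ∑ b : zpowers f, ρ (b : G) w
      have hW : ρ f W = W := map_self_sum_zpowers ρ (x := f) w
      have hxW : ρ x W = W := map_sum_zpowers ρ hxf w hxw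
      refine c.fixV W hW ?_
      rw [show σ = a⁻¹ * x by rw [hx, inv_mul_cancel_left], map_mul, Module.End.mul_apply, hxW,
        fixed_zpowers hW _ (inv_mem ha)]
    obtain ⟨hZR, -, hsq, hb, h1⟩ := c.bound_on_comp hna hv hv0 c.qK hxo hxS haν hfix hRS
    exact arith (s := s) (π := q) (c.pow_relIndex (B := fixSec S R x hRS) fun u hu => hu.1)
      (free_section (e := x) hRle hRS (fun a ha b hb => hZR (hab' a ha b hb)) (fun a ha => hZR (hexp' a ha))
        c.hT hxo c.TS hTR hxS (hstab x haν hxS) hxT c.st c.sq c.tq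
        (fun y hy hcm u hu => by
          have hya : a * y = y * a := comm_zpowers (hT1 y hy) a ha
          have hσy : σ * y = y * σ := by
            rw [hx] at hcm
            refine mul_left_cancel (a := a) ?_
            rw [← mul_assoc, hcm, ← mul_assoc, ← hya, mul_assoc]
          rw [c.fixT y hy (hT1 y hy) hσy, one_mul, inv_one, mul_one, inv_mul_cancel]
          exact one_mem _)
        (c.hfixT hZR hRle hTR) fun u => Iff.rfl) hsq hb h1

/-- **the configuration is impossible** -/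
theorem impossible (c : Cfg ρ S T f σ p q s t) : False := by
  by_cases hT1 : ∀ y ∈ T, f * y = y * f
  · by_cases hab : ∀ x ∈ S, ∀ y ∈ S, x * y = y * x
    · exact c.case_one_abelian hT1 hab
    · exact c.case_one_nonabelian hT1 hab
  refine c.case_two fun y hy hfy x hx => ?_
  set D := T ⊓ centralizer (zpowers f : Set G) with hD
  have hmem : ∀ {z}, z ∈ D ↔ z ∈ T ∧ f * z = z * f := fun {z} =>
    ⟨fun h => ⟨h.1, mem_centralizer_iff.1 h.2 f (mem_zpowers f)⟩,
      fun h => ⟨h.1, mem_centralizer_iff.2 (comm_zpowers h.2)⟩⟩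
  have hn : ∀ g, g ∈ normalizer (T : Set G) → g ∈ normalizer (zpowers f : Set G) → g ∈ normalizer (D : Set G) := by
    intro g h1 h2
    refine Cfsg.Lib.Coprime.mem_normalizer_of_conj_mem ?_ ?_
    all_goals intro z hz
    · refine hmem.2 ⟨(Subgroup.mem_normalizer_iff.1 h1 z).1 hz.1, ?_⟩
      have := congrArg (fun w => g * w * g⁻¹)
        (comm_zpowers (hmem.1 hz).2 _ ((Subgroup.mem_normalizer_iff''.1 h2 f).1 (mem_zpowers f)))
      simpa [mul_assoc] using this
    · refine hmem.2 ⟨(Subgroup.mem_normalizer_iff''.1 h1 z).1 hz.1, ?_⟩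
      have := congrArg (fun w => g⁻¹ * w * g)
        (comm_zpowers (hmem.1 hz).2 _ ((Subgroup.mem_normalizer_iff.1 h2 f).1 (mem_zpowers f)))
      simpa [mul_assoc] using this
  exact c.minT D inf_le_left (hn f c.fT (le_normalizer (mem_zpowers f))) (hn σ c.σT (zpowers_conj c.rel))
    (fun e => hT1 fun z hz => (hmem.1 (by rw [e]; exact hz)).2) x hx y (hmem.2 ⟨hy, hfy⟩)

end Cfg

end Cfsg.Lib.SolvStruct.PQHeight
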