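import Mathlib
import Cfsg.Agent.SolvStruct.PQHeight.Main

/-!
Reduction to the irreducible faithful configuration.
-/

set_option autoImplicit false
set_option linter.unusedSectionVars false
set_option linter.style.haveILetI false

namespace Cfsg.Lib.SolvStruct.PQHeight

open Subgroup Module
open scoped Classical commutatorElement

universe u v w

variable {K : Type u} [Field K] [IsAlgClosed K]

/-- the configuration before reduction -/
structure Pre {G : Type w} [Group G] {V : Type v} [AddCommGroup V] [Module K V] (ρ : G →* Module.End K V)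
    (S T : Subgroup G) (f σ : G) (p q s t : ℕ) : Prop where
  hS : IsPGroup s S
  hT : IsPGroup t T
  TS : T ≤ normalizer (S : Set G)
  fS : f ∈ normalizer (S : Set G)
  σS : σ ∈ normalizer (S : Set G)
  fT : f ∈ normalizer (T : Set G)
  σT : σ ∈ normalizer (T : Set G)
  ordf : orderOf f = p
  ordσ : orderOf σ = q
  rel : σ * f * σ⁻¹ ∈ zpowers f
  ncomm : σ * f ≠ f * σ
  st : s ≠ t
  sp : s ≠ p
  sq : s ≠ q
  tp : t ≠ p
  tq : t ≠ q
  sK : (s : K) ≠ 0
  pK : (p : K) ≠ 0
  qK : (q : K) ≠ 0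
  fixS : ∀ x ∈ S, f * x = x * f → σ * x = x * σ → x = 1
  fixT : ∀ x ∈ T, f * x = x * f → σ * x = x * σ → x = 1
  fixV : ∀ v, ρ f v = v → ρ σ v = v → v = 0
  ne : ∃ x ∈ S, ∃ y ∈ T, ρ (x⁻¹ * (y * x * y⁻¹)) ≠ 1

/-- averaging over a cyclic operator of order prime to the characteristic -/
theorem avg {G : Type w} [Group G] [Finite G] {V : Type v} [AddCommGroup V] [Module K V] [FiniteDimensional K V]
    (ρ : G →* Module.End K V)
    {x : G} {π : ℕ} (hx : orderOf x = π) (hπ : (π : K) ≠ 0) (W : Submodule K V) {v : V} (hv : ρ x v - v ∈ W)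
    (hW : ∀ w ∈ W, ρ x w ∈ W) :
    ∃ u, u - v ∈ W ∧ ρ x u = u ∧ ∀ g : G, (∀ a ∈ zpowers x, ρ g (ρ a v) = ρ a v) → ρ g u = u := by
  haveI := Fintype.ofFinite (zpowers x)
  refine ⟨(π : K)⁻¹ • ∑ a : zpowers x, ρ (a : G) v, ?_, ?_, ?_⟩
  · have hall : ∀ n : ℕ, ρ (x ^ n) v - v ∈ W := by
      intro n
      induction n with
      | zero => simp
      | succ n ih =>
        have h := W.add_mem (hW _ ih) hv
        rw [map_sub, ← Module.End.mul_apply, ← map_mul, ← pow_succ'] at h
        simpa using h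
    have hcard : Fintype.card (zpowers x) = π := by rw [← Nat.card_eq_fintype_card, Nat.card_zpowers, hx]
    have e : (π : K)⁻¹ • (∑ a : zpowers x, ρ (a : G) v) - v = (π : K)⁻¹ • ∑ a : zpowers x, (ρ (a : G) v - v) := by
      rw [Finset.sum_sub_distrib, Finset.sum_const, Finset.card_univ, hcard, ← Nat.cast_smul_eq_nsmul K, smul_sub,
        inv_smul_smul₀ hπ]
    rw [e]
    refine W.smul_mem _ (W.sum_mem fun a _ => ?_)
    obtain ⟨n, hn⟩ := (isOfFinOrder_of_finite x).mem_powers_iff_mem_zpowers.2 a.2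
    rw [← show x ^ n = (a : G) from hn]
    exact hall n
  · rw [map_smul, map_self_sum_zpowers ρ v]
  · intro g hg
    rw [map_smul, map_sum, Finset.sum_congr rfl fun (a : zpowers x) _ => hg a a.2]

/-- a coset fixed by both operators contains a common fixed element -/
theorem lift_two {G : Type w} [Group G] [Finite G] {D : Subgroup G} {f σ x : G} {p q : ℕ} [Fact p.Prime] [Fact q.Prime]
    (hf : orderOf f = p) (hσ : orderOf σ = q) (rel : σ * f * σ⁻¹ ∈ zpowers f) (hfD : f ∈ normalizer (D : Set G))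
    (hσD : σ ∈ normalizer (D : Set G)) (hp : ¬ p ∣ Nat.card D) (hq : ¬ q ∣ Nat.card D)
    (h1 : x⁻¹ * (f * x * f⁻¹) ∈ D) (h2 : x⁻¹ * (σ * x * σ⁻¹) ∈ D) (hxD : x ∈ normalizer (D : Set G)) :
    ∃ d ∈ D, f * (x * d) = (x * d) * f ∧ σ * (x * d) = (x * d) * σ := by
  obtain ⟨d, hd, he⟩ := lift_fixed hf hfD hp h1
  set y := x * d with hy
  set D' := D ⊓ centralizer ({f} : Set G) with hD'
  have hσn := zpowers_conj rel
  have hcm : ∀ {z}, f * z = z * f → ∀ a ∈ zpowers f, a * z = z * a := fun h => comm_zpowers h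
  have hσD' : σ ∈ normalizer (D' : Set G) := by
    refine Cfsg.Lib.Coprime.mem_normalizer_of_conj_mem ?_ ?_
    all_goals intro z hz
    · refine ⟨(Subgroup.mem_normalizer_iff.1 hσD z).1 hz.1, mem_centralizer_singleton_iff.2 ?_⟩
      have h := hcm (mem_centralizer_singleton_iff.1 hz.2).symm _ ((Subgroup.mem_normalizer_iff''.1 hσn f).1 (mem_zpowers f))
      have := congrArg (fun w => σ * w * σ⁻¹) h
      simpa [mul_assoc] using this.symm
    · refine ⟨(Subgroup.mem_normalizer_iff''.1 hσD z).1 hz.1, mem_centralizer_singleton_iff.2 ?_⟩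
      have h := hcm (mem_centralizer_singleton_iff.1 hz.2).symm _ rel
      have := congrArg (fun w => σ⁻¹ * w * σ) h
      simpa [mul_assoc] using this.symm
  have hσy : f * (σ * y * σ⁻¹) = (σ * y * σ⁻¹) * f := by
    have h := hcm he _ ((Subgroup.mem_normalizer_iff''.1 hσn f).1 (mem_zpowers f))
    have := congrArg (fun w => σ * w * σ⁻¹) h
    simpa [mul_assoc] using this
  have hyD : y⁻¹ * (σ * y * σ⁻¹) ∈ D' := by
    refine ⟨?_, mem_centralizer_singleton_iff.2 ?_⟩
    · have e : y⁻¹ * (σ * y * σ⁻¹) = d⁻¹ * (x⁻¹ * (σ * x * σ⁻¹)) * (σ * d * σ⁻¹) := by rw [hy]; group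
      rw [e]
      exact D.mul_mem (D.mul_mem (D.inv_mem hd) h2) ((Subgroup.mem_normalizer_iff.1 hσD d).1 hd)
    · calc y⁻¹ * (σ * y * σ⁻¹) * f = y⁻¹ * (f * (σ * y * σ⁻¹)) := by rw [mul_assoc, ← hσy]
        _ = f * (y⁻¹ * (σ * y * σ⁻¹)) := by
          rw [← mul_assoc, ← mul_assoc f]
          congr 1
          have h4 := congrArg (fun w => y⁻¹ * w * y⁻¹) he
          simpa [mul_assoc] using h4
  obtain ⟨d', hd', he'⟩ := lift_fixed hσ hσD'
    (fun h => hq (h.trans (Subgroup.card_dvd_of_le inf_le_left))) hyD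
  refine ⟨d * d', D.mul_mem hd hd'.1, ?_, ?_⟩
  · rw [← mul_assoc x, ← mul_assoc, he, mul_assoc, (mem_centralizer_singleton_iff.1 hd'.2).symm, ← mul_assoc]
  · rw [← mul_assoc x]; exact he'

theorem mem_stab_gen {G : Type w} [Group G] [Finite G] {V : Type v} [AddCommGroup V] [Module K V]
    [FiniteDimensional K V] {ρ : G →* Module.End K V} {S T : Subgroup G} {f σ : G} {W : Submodule K V}
    (h : ∀ g, Gen S T f σ g → ∀ v ∈ W, ρ g v ∈ W) {g : G} (hg : Gen S T f σ g) : g ∈ stab ρ W :=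
  mem_stab (h g hg)

/-- the representation induced on a quotient space -/
def quotStab {G : Type w} [Group G] [Finite G] {V : Type v} [AddCommGroup V] [Module K V] [FiniteDimensional K V]
    (ρ : G →* Module.End K V) (W : Submodule K V) : stab ρ W →* Module.End K (V ⧸ W) where
  toFun g := W.mapQ W (ρ (g : G)) fun v hv => (g.2 v).2 hv
  map_one' := Submodule.linearMap_qext _ (LinearMap.ext fun v => by simp)
  map_mul' a b := Submodule.linearMap_qext _ (LinearMap.ext fun v => by simp)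

theorem Pre.map_stab {G : Type w} [Group G] [Finite G] {V : Type v} [AddCommGroup V] [Module K V]
    [FiniteDimensional K V] {ρ : G →* Module.End K V} {S T : Subgroup G} {f σ : G} {p q s t : ℕ}
    (c : Pre ρ S T f σ p q s t) {W : Submodule K V} {V' : Type v} [AddCommGroup V'] [Module K V']
    (ρ' : stab ρ W →* Module.End K V') (hS : S ≤ stab ρ W) (hT : T ≤ stab ρ W) (hf : f ∈ stab ρ W)
    (hσ : σ ∈ stab ρ W) (hfix : ∀ v, ρ' ⟨f, hf⟩ v = v → ρ' ⟨σ, hσ⟩ v = v → v = 0)
    (hne : ∃ x, ∃ hx : x ∈ S, ∃ y, ∃ hy : y ∈ T,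
      ρ' ⟨x⁻¹ * (y * x * y⁻¹), mul_mem (inv_mem (hS hx)) (mul_mem (mul_mem (hT hy) (hS hx)) (inv_mem (hT hy)))⟩ ≠ 1) :
    Pre ρ' (S.subgroupOf (stab ρ W)) (T.subgroupOf (stab ρ W)) ⟨f, hf⟩ ⟨σ, hσ⟩ p q s t where
  hS := c.hS.of_equiv (Subgroup.subgroupOfEquivOfLe hS).symm
  hT := c.hT.of_equiv (Subgroup.subgroupOfEquivOfLe hT).symm
  TS := fun y hy => Subgroup.mem_normalizer_iff.2 fun z => Subgroup.mem_normalizer_iff.1 (c.TS hy) (z : G)
  fS := Subgroup.mem_normalizer_iff.2 fun z => Subgroup.mem_normalizer_iff.1 c.fS (z : G)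
  σS := Subgroup.mem_normalizer_iff.2 fun z => Subgroup.mem_normalizer_iff.1 c.σS (z : G)
  fT := Subgroup.mem_normalizer_iff.2 fun z => Subgroup.mem_normalizer_iff.1 c.fT (z : G)
  σT := Subgroup.mem_normalizer_iff.2 fun z => Subgroup.mem_normalizer_iff.1 c.σT (z : G)
  ordf := (Subgroup.orderOf_mk f hf).trans c.ordf
  ordσ := (Subgroup.orderOf_mk σ hσ).trans c.ordσ
  rel := by
    obtain ⟨n, hn⟩ := Subgroup.mem_zpowers_iff.1 c.rel
    exact Subgroup.mem_zpowers_iff.2 ⟨n, Subtype.ext (by rw [Subgroup.coe_zpow]; exact hn)⟩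
  ncomm := fun h => c.ncomm (congrArg Subtype.val h)
  st := c.st
  sp := c.sp
  sq := c.sq
  tp := c.tp
  tq := c.tq
  sK := c.sK
  pK := c.pK
  qK := c.qK
  fixS := fun x hx h1 h2 => Subtype.ext (c.fixS _ hx (congrArg Subtype.val h1) (congrArg Subtype.val h2))
  fixT := fun x hx h1 h2 => Subtype.ext (c.fixT _ hx (congrArg Subtype.val h1) (congrArg Subtype.val h2))
  fixV := hfix
  ne := by
    obtain ⟨x, hx, y, hy, hxy⟩ := hne
    exact ⟨⟨x, hS hx⟩, hx, ⟨y, hT hy⟩, hy, hxy⟩

/-- **no configuration exists** -/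
theorem no_config {p q s t : ℕ} [Fact p.Prime] [Fact q.Prime] [Fact s.Prime] [Fact t.Prime] :
    ∀ (n : ℕ) (G : Type w) [Group G] [Finite G] (V : Type v) [AddCommGroup V] [Module K V] [FiniteDimensional K V]
      (ρ : G →* Module.End K V) (S T : Subgroup G) (f σ : G),
      finrank K V + Nat.card S + Nat.card T ≤ n → ¬ Pre ρ S T f σ p q s t := by
  intro n
  induction n with
  | zero =>
    intro G _ _ V _ _ _ ρ S T f σ hn _
    have := Nat.card_pos (α := S)
    omega
  | succ n ih =>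
    intro G _ _ V _ _ _ ρ S T f σ hn c
    have hpp : p.Prime := Fact.out
    have hqq : q.Prime := Fact.out
    obtain ⟨x₀, hx₀, y₀, hy₀, hxy₀⟩ := c.ne
    have hmemS : ∀ {x y}, x ∈ S → y ∈ T → x⁻¹ * (y * x * y⁻¹) ∈ S := fun {x y} hx hy =>
      S.mul_mem (S.inv_mem hx) ((Subgroup.mem_normalizer_iff.1 (c.TS hy) x).1 hx)
    -- smaller subgroups
    have hminS : ∀ D : Subgroup G, D ≤ S → T ≤ normalizer (D : Set G) → f ∈ normalizer (D : Set G) →
        σ ∈ normalizer (D : Set G) → D ≠ S → ∀ x ∈ D, ∀ y ∈ T, ρ (x⁻¹ * (y * x * y⁻¹)) = 1 := by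
      intro D hD hTD hfD hσD hne x hx y hy
      by_contra h
      have hlt : Nat.card D < Nat.card S := lt_of_le_of_ne (Nat.le_of_dvd Nat.card_pos (Subgroup.card_dvd_of_le hD))
        fun e => hne (Subgroup.eq_of_le_of_card_ge hD e.ge)
      exact ih G V ρ D T f σ (by omega) { c with
        hS := c.hS.to_le hD
        TS := hTD
        fS := hfD
        σS := hσD
        fixS := fun z hz => c.fixS z (hD hz)
        ne := ⟨x, hx, y, hy, h⟩ }
    have hminT : ∀ D : Subgroup G, D ≤ T → f ∈ normalizer (D : Set G) → σ ∈ normalizer (D : Set G) → D ≠ T →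
        ∀ x ∈ S, ∀ y ∈ D, ρ (x⁻¹ * (y * x * y⁻¹)) = 1 := by
      intro D hD hfD hσD hne x hx y hy
      by_contra h
      have hlt : Nat.card D < Nat.card T := lt_of_le_of_ne (Nat.le_of_dvd Nat.card_pos (Subgroup.card_dvd_of_le hD))
        fun e => hne (Subgroup.eq_of_le_of_card_ge hD e.ge)
      exact ih G V ρ S D f σ (by omega) { c with
        hT := c.hT.to_le hD
        TS := hD.trans c.TS
        fT := hfD
        σT := hσD
        fixT := fun z hz => c.fixT z (hD hz)
        ne := ⟨x, hx, y, hy, h⟩ }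
    -- irreducibility
    have hirr : ∀ W : Submodule K V, (∀ g, Gen S T f σ g → ∀ v ∈ W, ρ g v ∈ W) → W = ⊥ ∨ W = ⊤ := by
      intro W hW
      by_contra hh
      push Not at hh
      have hS : S ≤ stab ρ W := fun g hg => mem_stab (hW g (Or.inl hg))
      have hT : T ≤ stab ρ W := fun g hg => mem_stab (hW g (Or.inr (Or.inl hg)))
      have hf : f ∈ stab ρ W := mem_stab (hW f (Or.inr (Or.inr (Or.inl rfl))))
      have hσ : σ ∈ stab ρ W := mem_stab (hW σ (Or.inr (Or.inr (Or.inr rfl))))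
      have hlt1 : finrank K W < finrank K V := Submodule.finrank_lt hh.2
      have hlt2 : finrank K (V ⧸ W) < finrank K V := by
        have h1 := Submodule.finrank_quotient_add_finrank W
        have h2 : 0 < finrank K W := Nat.pos_of_ne_zero fun e => hh.1 (Submodule.finrank_eq_zero.1 e)
        omega
      have hcS : Nat.card (S.subgroupOf (stab ρ W)) = Nat.card S :=
        Nat.card_congr (Subgroup.subgroupOfEquivOfLe hS).toEquiv
      have hcT : Nat.card (T.subgroupOf (stab ρ W)) = Nat.card T :=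
        Nat.card_congr (Subgroup.subgroupOfEquivOfLe hT).toEquiv
      set z := x₀⁻¹ * (y₀ * x₀ * y₀⁻¹) with hz
      have hzS : z ∈ S := hmemS hx₀ hy₀
      -- trivial on the subspace and on the quotient
      have h1 : ∀ w ∈ W, ρ z w = w := by
        intro w hw
        by_contra hne
        refine ih _ W (restrictStab ρ W) _ _ _ _ (by omega) (c.map_stab (restrictStab ρ W) hS hT hf hσ
          (fun v hv hv' => Subtype.ext (c.fixV v (congrArg Subtype.val hv) (congrArg Subtype.val hv')))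
          ⟨x₀, hx₀, y₀, hy₀, fun e => hne ?_⟩)
        exact congrArg Subtype.val (LinearMap.congr_fun e ⟨w, hw⟩)
      have h2 : ∀ v, ρ z v - v ∈ W := by
        intro v
        by_contra hne
        refine ih _ (V ⧸ W) (quotStab ρ W) _ _ _ _ (by omega) (c.map_stab (quotStab ρ W) hS hT hf hσ ?_
          ⟨x₀, hx₀, y₀, hy₀, fun e => hne ?_⟩)
        · intro u
          obtain ⟨u, rfl⟩ := Submodule.Quotient.mk_surjective W u
          intro hu hu'
          obtain ⟨u1, hu1, hfu1, -⟩ := avg ρ c.ordf c.pK W ((Submodule.Quotient.eq W).1 hu) fun w hw => (hf w).2 hw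
          have hσu1 : ρ σ u1 - u1 ∈ W := by
            have e : ρ σ u1 - u1 = ρ σ (u1 - u) + (ρ σ u - u) - (u1 - u) := by rw [map_sub]; abel
            rw [e]
            exact W.sub_mem (W.add_mem ((hσ _).2 hu1) ((Submodule.Quotient.eq W).1 hu')) hu1
          obtain ⟨u2, hu2, hσu2, hu2f⟩ := avg ρ c.ordσ c.qK W hσu1 fun w hw => (hσ w).2 hw
          have hf2 : ρ f u2 = u2 := by
            refine hu2f f fun a ha => ?_
            have hmem : a⁻¹ * f * a ∈ zpowers f :=
              (Subgroup.mem_normalizer_iff''.1 ((zpowers_le.2 (zpowers_conj c.rel)) ha) f).1 (mem_zpowers f)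
            rw [← Module.End.mul_apply, ← map_mul, show f * a = a * (a⁻¹ * f * a) by group, map_mul,
              Module.End.mul_apply, fixed_zpowers hfu1 _ hmem]
          rw [Submodule.Quotient.mk_eq_zero]
          have h := c.fixV u2 hf2 hσu2
          rw [h, zero_sub, neg_mem_iff] at hu2
          have := W.sub_mem hu2 hu1
          simpa using this
        · exact (Submodule.Quotient.eq W).1 (LinearMap.congr_fun e (Submodule.Quotient.mk v))
      -- hence trivial
      refine hxy₀ (LinearMap.ext fun v => ?_)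
      have hpow : ∀ k : ℕ, ρ (z ^ k) v = v + k • (ρ z v - v) := by
        intro k
        induction k with
        | zero => simp
        | succ k ihk =>
          rw [pow_succ', map_mul, Module.End.mul_apply, ihk, map_add, map_nsmul, h1 _ (h2 v), succ_nsmul]
          abel
      obtain ⟨a, ha⟩ := c.hS ⟨z, hzS⟩
      have hz1 : z ^ (s ^ a) = 1 := congrArg Subtype.val ha
      have h := hpow (s ^ a)
      rw [hz1, map_one, Module.End.one_apply, left_eq_add, ← Nat.cast_smul_eq_nsmul K] at h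
      rw [Module.End.one_apply]
      exact sub_eq_zero.1 ((smul_eq_zero.1 h).resolve_left (by rw [Nat.cast_pow]; exact pow_ne_zero _ c.sK))
    -- the faithful quotient
    set G₀ := S ⊔ T ⊔ zpowers f ⊔ zpowers σ with hG₀
    have hgen : ∀ g, Gen S T f σ g → g ∈ G₀ := by
      rintro g (h | h | rfl | rfl)
      · exact mem_sup_left (mem_sup_left (mem_sup_left h))
      · exact mem_sup_left (mem_sup_left (mem_sup_right h))
      · exact mem_sup_left (mem_sup_right (mem_zpowers g))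
      · exact mem_sup_right (mem_zpowers g)
    have hG₀S : G₀ ≤ normalizer (S : Set G) :=
      sup_le (sup_le (sup_le le_normalizer c.TS) (zpowers_le.2 c.fS)) (zpowers_le.2 c.σS)
    set Kk := S ⊓ ρ.ker with hKk
    have hG₀K : G₀ ≤ normalizer (Kk : Set G) := fun g hg => Cfsg.Lib.Coprime.mem_normalizer_of_conj_mem
      (fun z hz => ⟨(Subgroup.mem_normalizer_iff.1 (hG₀S hg) z).1 hz.1,
        (inferInstance : ρ.ker.Normal).conj_mem z hz.2 g⟩)
      (fun z hz => ⟨(Subgroup.mem_normalizer_iff''.1 (hG₀S hg) z).1 hz.1, by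
        simpa using (inferInstance : ρ.ker.Normal).conj_mem z hz.2 g⁻¹⟩)
    have hKS : Kk ≤ S := inf_le_left
    have hKG : Kk ≤ G₀ := hKS.trans fun g hg => hgen g (Or.inl hg)
    haveI : (Kk.subgroupOf G₀).Normal := Subgroup.normal_subgroupOf_of_le_normalizer hG₀K
    set π := QuotientGroup.mk' (Kk.subgroupOf G₀) with hπ
    let ρ' : G₀ ⧸ Kk.subgroupOf G₀ →* Module.End K V :=
      QuotientGroup.lift _ (ρ.comp G₀.subtype) fun g hg => (Subgroup.mem_subgroupOf.1 hg).2
    have hρ' : ∀ g : G₀, ρ' (π g) = ρ g := fun g => rfl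
    have hSG : S ≤ G₀ := fun g hg => hgen g (Or.inl hg)
    have hTG : T ≤ G₀ := fun g hg => hgen g (Or.inr (Or.inl hg))
    have hfG : f ∈ G₀ := hgen f (Or.inr (Or.inr (Or.inl rfl)))
    have hσG : σ ∈ G₀ := hgen σ (Or.inr (Or.inr (Or.inr rfl)))
    set S' := (S.subgroupOf G₀).map π with hS'
    set T' := (T.subgroupOf G₀).map π with hT'
    have hπ1 : ∀ g : G₀, π g = 1 ↔ (g : G) ∈ Kk := fun g =>
      (QuotientGroup.eq_one_iff g).trans Subgroup.mem_subgroupOf
    have hπeq : ∀ a b : G₀, π a = π b ↔ (a : G)⁻¹ * b ∈ Kk := fun a b =>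
      QuotientGroup.eq.trans Subgroup.mem_subgroupOf
    have hcopK : ∀ {π' : ℕ}, π'.Prime → s ≠ π' → ¬ π' ∣ Nat.card Kk := fun h hne =>
      card_pgroup (c.hS.to_le hKS) h hne
    have hord : ∀ {g : G} (hg : g ∈ G₀) {π' : ℕ}, π'.Prime → s ≠ π' → orderOf g = π' → orderOf (π ⟨g, hg⟩) = π' := by
      intro g hg π' hπ' hne ho
      haveI := Fact.mk hπ'
      refine orderOf_eq_prime ?_ fun h => ?_
      · rw [← map_pow, ← map_one π]
        congr 1
        exact Subtype.ext (by show g ^ π' = 1; rw [← ho, pow_orderOf_eq_one])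
      · exact hcopK hπ' hne (ho ▸ Subgroup.orderOf_dvd_natCard Kk ((hπ1 _).1 h))
    have hnorm : ∀ (D : Subgroup G) (g : G₀), (g : G) ∈ normalizer (D : Set G) →
        π g ∈ normalizer ((D.subgroupOf G₀).map π : Set (G₀ ⧸ Kk.subgroupOf G₀)) := fun D g hg =>
      le_normalizer_map π ⟨g, Subgroup.mem_normalizer_iff.2 fun z => Subgroup.mem_normalizer_iff.1 hg (z : G), rfl⟩
    have hcommK : ∀ (a b : G₀), π a * π b = π b * π a → ((a : G)⁻¹ * ((b : G) * a * (b : G)⁻¹)) ∈ Kk := by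
      intro a b h
      have h' : π (a⁻¹ * (b * a * b⁻¹)) = 1 := by
        simp only [map_mul, map_inv]
        rw [← h]
        group
      exact (hπ1 _).1 h'
    refine Cfg.impossible (p := p) (q := q) (s := s) (t := t) (ρ := ρ') (S := S') (T := T') (f := π ⟨f, hfG⟩)
      (σ := π ⟨σ, hσG⟩) ?_
    constructor
    case hS => exact (c.hS.of_equiv (Subgroup.subgroupOfEquivOfLe hSG).symm).map π
    case hT => exact (c.hT.of_equiv (Subgroup.subgroupOfEquivOfLe hTG).symm).map π
    case TS => rintro _ ⟨y, hy, rfl⟩; exact hnorm S y (c.TS hy)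
    case fS => exact hnorm S _ c.fS
    case σS => exact hnorm S _ c.σS
    case fT => exact hnorm T _ c.fT
    case σT => exact hnorm T _ c.σT
    case ordf => exact hord hfG hpp c.sp c.ordf
    case ordσ => exact hord hσG hqq c.sq c.ordσ
    case rel =>
      obtain ⟨m, hm⟩ := Subgroup.mem_zpowers_iff.1 c.rel
      refine Subgroup.mem_zpowers_iff.2 ⟨m, ?_⟩
      rw [← map_zpow, ← map_mul, ← map_inv, ← map_mul]
      exact congrArg π (Subtype.ext (by simpa using hm))
    case ncomm =>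
      intro h
      have h1 := hcommK _ _ h.symm
      have h2 : f⁻¹ * (σ * f * σ⁻¹) ∈ zpowers f := mul_mem (inv_mem (mem_zpowers f)) c.rel
      have h3 : f⁻¹ * (σ * f * σ⁻¹) = 1 := by
        rw [← orderOf_eq_one_iff]
        refine Nat.eq_one_of_dvd_coprimes ?_ (c.ordf ▸ (Nat.card_zpowers f) ▸ Subgroup.orderOf_dvd_natCard _ h2)
          (Subgroup.orderOf_dvd_natCard _ h1)
        exact hpp.coprime_iff_not_dvd.2 (hcopK hpp c.sp)
      rw [inv_mul_eq_one] at h3
      exact c.ncomm (mul_inv_eq_iff_eq_mul.1 h3.symm)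
    case st => exact c.st
    case sp => exact c.sp
    case sq => exact c.sq
    case tp => exact c.tp
    case tq => exact c.tq
    case sK => exact c.sK
    case pK => exact c.pK
    case qK => exact c.qK
    case fixS =>
      rintro _ ⟨x, hx, rfl⟩ h1 h2
      have hxS : (x : G) ∈ S := hx
      obtain ⟨d, hd, h3, h4⟩ := lift_two c.ordf c.ordσ c.rel (hG₀K hfG) (hG₀K hσG) (hcopK hpp c.sp)
        (hcopK hqq c.sq) (hcommK x _ h1.symm) (hcommK x _ h2.symm) (hG₀K x.2)
      have h5 := c.fixS _ (S.mul_mem hxS (hKS hd)) h3 h4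
      rw [hπ1, eq_inv_of_mul_eq_one_left h5]
      exact Kk.inv_mem hd
    case fixT =>
      rintro _ ⟨x, hx, rfl⟩ h1 h2
      have hxT : (x : G) ∈ T := hx
      have key : ∀ g : G, g ∈ normalizer (T : Set G) → (x : G)⁻¹ * (g * x * g⁻¹) ∈ Kk → g * x = x * g := by
        intro g hg hK
        have hT1 : (x : G)⁻¹ * (g * x * g⁻¹) ∈ T :=
          T.mul_mem (T.inv_mem hxT) ((Subgroup.mem_normalizer_iff.1 hg (x : G)).1 hxT)
        obtain ⟨a, ha⟩ := IsPGroup.iff_card.1 c.hS
        obtain ⟨b, hb⟩ := IsPGroup.iff_card.1 c.hT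
        have h6 : (x : G)⁻¹ * (g * x * g⁻¹) = 1 := orderOf_eq_one_iff.1 (Nat.eq_one_of_dvd_coprimes
          ((((Nat.coprime_primes Fact.out Fact.out).2 c.st).pow_left a).pow_right b)
          (ha ▸ Subgroup.orderOf_dvd_natCard S (hKS hK)) (hb ▸ Subgroup.orderOf_dvd_natCard T hT1))
        rw [inv_mul_eq_one] at h6
        exact mul_inv_eq_iff_eq_mul.1 h6.symm
      rw [show x = 1 from Subtype.ext (c.fixT _ hxT (key f c.fT (hcommK x _ h1.symm)) (key σ c.σT (hcommK x _ h2.symm))),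
        map_one]
    case fixV => exact c.fixV
    case faithful =>
      rintro _ ⟨x, hx, rfl⟩ h
      rw [hπ1]
      exact ⟨hx, h⟩
    case irr =>
      intro W hW
      refine hirr W fun g hg v hv => ?_
      refine hW (π ⟨g, hgen g hg⟩) ?_ v hv
      rcases hg with h | h | h | h
      · exact Or.inl ⟨_, h, rfl⟩
      · exact Or.inr (Or.inl ⟨_, h, rfl⟩)
      · subst h; exact Or.inr (Or.inr (Or.inl rfl))
      · subst h; exact Or.inr (Or.inr (Or.inr rfl))
    case minS =>
      intro D hD hTD hfD hσD hne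
      set D₀ := (D.comap π).map G₀.subtype ⊓ S with hD₀
      have hn : ∀ g : G₀, (g : G) ∈ normalizer (S : Set G) → π g ∈ normalizer (D : Set (G₀ ⧸ Kk.subgroupOf G₀)) →
          (g : G) ∈ normalizer (D₀ : Set G) := by
        intro g hg hgD
        refine Cfsg.Lib.Coprime.mem_normalizer_of_conj_mem ?_ ?_
        all_goals rintro z ⟨⟨z', hz', hze⟩, hzS⟩
        · refine ⟨⟨g * z' * g⁻¹, ?_, by simp [← hze]⟩, (Subgroup.mem_normalizer_iff.1 hg z).1 hzS⟩
          show π (g * z' * g⁻¹) ∈ D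
          rw [map_mul, map_mul, map_inv]
          exact (Subgroup.mem_normalizer_iff.1 hgD _).1 hz'
        · refine ⟨⟨g⁻¹ * z' * g, ?_, by simp [← hze]⟩, (Subgroup.mem_normalizer_iff''.1 hg z).1 hzS⟩
          show π (g⁻¹ * z' * g) ∈ D
          rw [map_mul, map_mul, map_inv]
          exact (Subgroup.mem_normalizer_iff''.1 hgD _).1 hz'
      have hne₀ : D₀ ≠ S := by
        intro e
        refine hne (le_antisymm hD ?_)
        rintro _ ⟨x, hx, rfl⟩
        obtain ⟨⟨x', hx', hxe⟩, -⟩ := (show (x : G) ∈ D₀ by rw [e]; exact hx)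
        rw [show x = x' from Subtype.ext hxe.symm]
        exact hx'
      have h := hminS D₀ inf_le_right (fun y hy => hn ⟨y, hTG hy⟩ (c.TS hy) (hTD ⟨_, hy, rfl⟩))
        (hn ⟨f, hfG⟩ c.fS hfD) (hn ⟨σ, hσG⟩ c.σS hσD) hne₀
      intro x' hx' y' hy'
      obtain ⟨x, hx, rfl⟩ := hD hx'
      obtain ⟨y, hy, rfl⟩ := hy'
      have h8 : π (x⁻¹ * (y * x * y⁻¹)) = 1 := (hπ1 _).2
        ⟨hmemS hx hy, h x ⟨⟨x, hx', rfl⟩, hx⟩ y hy⟩
      simp only [map_mul, map_inv, inv_mul_eq_one] at h8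
      exact mul_inv_eq_iff_eq_mul.1 h8.symm
    case minT =>
      intro D hD hfD hσD hne
      set D₀ := (D.comap π).map G₀.subtype ⊓ T with hD₀
      have hn : ∀ g : G₀, (g : G) ∈ normalizer (T : Set G) → π g ∈ normalizer (D : Set (G₀ ⧸ Kk.subgroupOf G₀)) →
          (g : G) ∈ normalizer (D₀ : Set G) := by
        intro g hg hgD
        refine Cfsg.Lib.Coprime.mem_normalizer_of_conj_mem ?_ ?_
        all_goals rintro z ⟨⟨z', hz', hze⟩, hzS⟩
        · refine ⟨⟨g * z' * g⁻¹, ?_, by simp [← hze]⟩, (Subgroup.mem_normalizer_iff.1 hg z).1 hzS⟩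
          show π (g * z' * g⁻¹) ∈ D
          rw [map_mul, map_mul, map_inv]
          exact (Subgroup.mem_normalizer_iff.1 hgD _).1 hz'
        · refine ⟨⟨g⁻¹ * z' * g, ?_, by simp [← hze]⟩, (Subgroup.mem_normalizer_iff''.1 hg z).1 hzS⟩
          show π (g⁻¹ * z' * g) ∈ D
          rw [map_mul, map_mul, map_inv]
          exact (Subgroup.mem_normalizer_iff''.1 hgD _).1 hz'
      have hne₀ : D₀ ≠ T := by
        intro e
        refine hne (le_antisymm hD ?_)
        rintro _ ⟨x, hx, rfl⟩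
        obtain ⟨⟨x', hx', hxe⟩, -⟩ := (show (x : G) ∈ D₀ by rw [e]; exact hx)
        rw [show x = x' from Subtype.ext hxe.symm]
        exact hx'
      have h := hminT D₀ inf_le_right (hn ⟨f, hfG⟩ c.fT hfD) (hn ⟨σ, hσG⟩ c.σT hσD) hne₀
      intro x' hx' y' hy'
      obtain ⟨x, hx, rfl⟩ := hx'
      obtain ⟨y, hy, rfl⟩ := hD hy'
      have h8 : π (x⁻¹ * (y * x * y⁻¹)) = 1 := (hπ1 _).2
        ⟨hmemS hx hy, h x hx y ⟨⟨y, hy', rfl⟩, hy⟩⟩
      simp only [map_mul, map_inv, inv_mul_eq_one] at h8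
      exact mul_inv_eq_iff_eq_mul.1 h8.symm
    case ne =>
      refine ⟨π ⟨x₀, hSG hx₀⟩, ⟨_, hx₀, rfl⟩, π ⟨y₀, hTG hy₀⟩, ⟨_, hy₀, rfl⟩, fun e => hxy₀ ?_⟩
      exact (hcommK _ _ e.symm).2

end Cfsg.Lib.SolvStruct.PQHeight
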