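import Mathlib
import Cfsg.Agent.SolvStruct.PQHeight.Reduce
import Cfsg.Agent.Coprime.Fitting
import Cfsg.Agent.Components.Misc.BenderPair
import Cfsg.Agent.Components.Misc.GenFittingAction
import Cfsg.Agent.Components.PComponents
import Cfsg.Agent.PGroups.Basic

/-!
A solvable group with a fixed point free non-abelian operator group of order a product of two primes has Fitting
height at most two.
-/

set_option autoImplicit false
set_option linter.unusedSectionVars false
set_option linter.style.haveILetI false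

namespace Cfsg.Lib.SolvStruct.PQHeight

open Subgroup Module
open scoped Classical TensorProduct commutatorElement

universe w

/-- a finite solvable group that is not nilpotent has non-commuting elements of coprime orders, one in a core -/
theorem exists_noncomm_core {Q : Type w} [Group Q] [Finite Q] [Group.IsSolvable Q] (h : ¬ Group.IsNilpotent Q) :
    ∃ s t : ℕ, s.Prime ∧ t.Prime ∧ s ≠ t ∧ ∃ x ∈ Cfsg.pCore s Q, ∃ y : Q, (∃ k : ℕ, y ^ t ^ k = 1) ∧ y * x ≠ x * y := by
  by_contra hcon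
  push Not at hcon
  set Fq := Cfsg.fittingSubgroup Q with hFq
  haveI hnilF : Group.IsNilpotent Fq := Cfsg.Lib.Components.isNilpotent_fitting
  have hne : Fq ≠ ⊤ := by
    intro e
    apply h
    haveI : Group.IsNilpotent (⊤ : Subgroup Q) := e ▸ hnilF
    exact Group.nilpotent_of_surjective (Subgroup.topEquiv (G := Q)).toMonoidHom Subgroup.topEquiv.surjective
  haveI : Nontrivial (Q ⧸ Fq) := by
    by_contra hc
    haveI := not_nontrivial_iff_subsingleton.1 hc
    exact hne (eq_top_iff.2 fun x _ => (QuotientGroup.eq_one_iff x).1 (Subsingleton.elim _ _))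
  obtain ⟨⟨u, hu⟩, hune⟩ : ∃ u : {u : ℕ // u.Prime}, Cfsg.pCore u.1 (Q ⧸ Fq) ≠ ⊥ := by
    by_contra hc
    push Not at hc
    apply Cfsg.Lib.Coprime.fitting_ne_bot (G := Q ⧸ Fq)
    rw [Cfsg.Lib.Components.fitting_eq_iSup_pCore]
    simp [hc]
  haveI := Fact.mk hu
  set N := (Cfsg.pCore u (Q ⧸ Fq)).comap (QuotientGroup.mk' Fq) with hN
  have hFN : Fq ≤ N := by
    intro x hx
    rw [hN, Subgroup.mem_comap, QuotientGroup.mk'_apply, (QuotientGroup.eq_one_iff x).2 hx]
    exact one_mem _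
  haveI : N.Normal := by rw [hN]; infer_instance
  have hNnil : Group.IsNilpotent N := by
    refine ((Group.isNilpotent_of_finite_tfae (G := N)).out 0 3).2 ?_
    intro r hr R
    -- the image in `Q`
    set R₀ := (R : Subgroup N).map N.subtype with hR₀
    have hR₀N : R₀ ≤ N := Subgroup.map_subtype_le _
    suffices hn : N ≤ normalizer (R₀ : Set Q) by
      refine Subgroup.normalizer_eq_top_iff.1 (eq_top_iff.2 fun z _ => ?_)
      rw [Subgroup.mem_normalizer_iff]
      intro a
      have h2 := Subgroup.mem_normalizer_iff.1 (hn z.2) (a : Q)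
      have e : ∀ b : N, (b : Q) ∈ R₀ ↔ b ∈ (R : Subgroup N) := fun b =>
        Subgroup.mem_map_iff_mem N.subtype_injective
      rw [← e, ← e]
      simpa using h2
    have hRp : IsPGroup r R₀ := R.isPGroup'.map _
    haveI := hr
    have hrp : r.Prime := Fact.out
    by_cases hru : r = u
    · subst hru
      -- `N` is the product of the Fitting subgroup and `R₀`
      have htop : (R : Subgroup N) ⊔ Fq.subgroupOf N = ⊤ := by
        rw [← Subgroup.index_eq_one]
        refine Nat.eq_one_of_dvd_coprimes ?_ (Subgroup.index_dvd_of_le le_sup_left)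
          (Subgroup.index_dvd_of_le le_sup_right)
        obtain ⟨k, hk⟩ : ∃ k, (Fq.subgroupOf N).index = r ^ k := by
          haveI : (Fq.subgroupOf N).Normal := inferInstance
          let ψ : N →* Cfsg.pCore r (Q ⧸ Fq) :=
            ((QuotientGroup.mk' Fq).comp N.subtype).codRestrict _ fun z => Subgroup.mem_comap.1 z.2
          have hker : ψ.ker = Fq.subgroupOf N := by
            ext z
            rw [MonoidHom.mem_ker, Subgroup.mem_subgroupOf, ← QuotientGroup.eq_one_iff]
            exact ⟨fun e => congrArg Subtype.val e, fun e => Subtype.ext e⟩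
          rw [← hker, Subgroup.index_ker]
          obtain ⟨k, hk⟩ := IsPGroup.iff_card.1 (Cfsg.Lib.Components.isPGroup_pCore (G := Q ⧸ Fq) r)
          obtain ⟨j, -, hj⟩ := (Nat.dvd_prime_pow hrp).1 (hk ▸ Subgroup.card_subgroup_dvd_card ψ.range)
          exact ⟨j, hj⟩
        rw [hk]
        exact ((hrp.coprime_iff_not_dvd.2 R.not_dvd_index).pow_left k).symm
      have hNeq : N = R₀ ⊔ Fq := by
        have h2 := congrArg (Subgroup.map N.subtype) htop
        rw [Subgroup.map_sup, ← MonoidHom.range_eq_map, range_subtype, Subgroup.map_subgroupOf_eq_of_le hFN] at h2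
        exact h2.symm
      rw [hNeq]
      refine sup_le le_normalizer ?_
      rw [hFq, Cfsg.Lib.Components.fitting_eq_iSup_pCore]
      refine iSup_le fun ⟨r', hr'⟩ => ?_
      by_cases he : r' = r
      · subst he
        have hle : Cfsg.pCore r' Q ≤ R₀ := by
          have hFc : Cfsg.pCore r' Q ≤ Fq :=
            Cfsg.Lib.Components.le_fitting (Cfsg.Lib.Components.isPGroup_pCore r').isNilpotent
          have hP : IsPGroup r' ((Cfsg.pCore r' Q).subgroupOf N) :=
            (Cfsg.Lib.Components.isPGroup_pCore r').of_equiv (Subgroup.subgroupOfEquivOfLe (hFc.trans hFN)).symm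
          have hN' : ((Cfsg.pCore r' Q).subgroupOf N).Normal := inferInstance
          have h3 : (Cfsg.pCore r' Q).subgroupOf N ≤ (R : Subgroup N) :=
            (Cfsg.Lib.Components.le_pCore hP).trans (Cfsg.Lib.Coprime.pCore_le_sylow r' R)
          intro z hz
          exact ⟨⟨z, hFN (hFc hz)⟩, h3 hz, rfl⟩
        exact hle.trans le_normalizer
      · intro z hz
        rw [Subgroup.mem_normalizer_iff]
        have hcom : ∀ a ∈ R₀, a * z = z * a := fun a ha => by
          obtain ⟨k, hk⟩ := hRp ⟨a, ha⟩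
          exact hcon r' r hr' hrp he z hz a ⟨k, congrArg Subtype.val hk⟩
        intro a
        constructor
        · intro ha
          rw [← hcom a ha, mul_inv_cancel_right]
          exact ha
        · intro ha
          have h2 := hcom _ ha
          have e : z * a * z⁻¹ = a := by
            calc z * a * z⁻¹ = z⁻¹ * (z * (z * a * z⁻¹)) := by group
              _ = z⁻¹ * (z * a * z⁻¹ * z) := by rw [h2]
              _ = a := by group
          rwa [e] at ha
    · -- the other Sylow subgroups lie in the Fitting subgroup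
      have hle : R₀ ≤ Fq := by
        intro z hz
        rw [← QuotientGroup.eq_one_iff]
        obtain ⟨k, hk⟩ := hRp ⟨z, hz⟩
        have hk' : z ^ r ^ k = 1 := congrArg Subtype.val hk
        obtain ⟨j, hj⟩ := Cfsg.Lib.Components.isPGroup_pCore (G := Q ⧸ Fq) u ⟨_, Subgroup.mem_comap.1 (hR₀N hz)⟩
        exact orderOf_eq_one_iff.1 (Nat.eq_one_of_dvd_coprimes
          ((((Nat.coprime_primes hrp hu).2 hru).pow_left k).pow_right j)
          (orderOf_dvd_of_pow_eq_one (by rw [← QuotientGroup.mk_pow, hk']; rfl))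
          (orderOf_dvd_of_pow_eq_one (congrArg Subtype.val hj)))
      have h4 : R₀ ≤ Cfsg.pCore r Q := Cfsg.Lib.Misc.BenderPair.le_pCore_of_le_fitting hle hRp
      have h5 : Cfsg.pCore r Q ≤ R₀ := by
        have hFc : Cfsg.pCore r Q ≤ Fq :=
          Cfsg.Lib.Components.le_fitting (Cfsg.Lib.Components.isPGroup_pCore r).isNilpotent
        have hP : IsPGroup r ((Cfsg.pCore r Q).subgroupOf N) :=
          (Cfsg.Lib.Components.isPGroup_pCore r).of_equiv (Subgroup.subgroupOfEquivOfLe (hFc.trans hFN)).symm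
        have h3 : (Cfsg.pCore r Q).subgroupOf N ≤ (R : Subgroup N) :=
          (Cfsg.Lib.Components.le_pCore hP).trans (Cfsg.Lib.Coprime.pCore_le_sylow r R)
        intro z hz
        exact ⟨⟨z, hFN (hFc hz)⟩, h3 hz, rfl⟩
      rw [le_antisymm h4 h5]
      exact Subgroup.le_normalizer_of_normal
  have hle : N ≤ Fq := Cfsg.Lib.Components.le_fitting hNnil
  apply hune
  rw [eq_bot_iff]
  intro z hz
  obtain ⟨z, rfl⟩ := QuotientGroup.mk_surjective z
  exact Subgroup.mem_bot.2 ((QuotientGroup.eq_one_iff z).2 (hle hz))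

theorem map_char_normal {Γ : Type w} [Group Γ] [Finite Γ] {X : Subgroup Γ} [X.Normal] (C : Subgroup X) [C.Characteristic] (g : Γ) :
    g ∈ normalizer ((C.map X.subtype : Subgroup Γ) : Set Γ) :=
  Cfsg.Lib.GenFittingAction.le_normalizer_map_char X C (Subgroup.le_normalizer_of_normal (H := X) (K := ⊤) (mem_top g))

/-- **Fitting height two** -/
theorem height_two {Γ : Type w} [Group Γ] [Finite Γ] (X : Subgroup Γ) [X.Normal] [Group.IsSolvable X] {f σ : Γ}
    {p q : ℕ} [Fact p.Prime] [Fact q.Prime] (hf : orderOf f = p) (hσ : orderOf σ = q) (hpq : p ≠ q)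
    (rel : σ * f * σ⁻¹ ∈ zpowers f) (hnc : σ * f ≠ f * σ) (hp : ¬ p ∣ Nat.card X) (hq : ¬ q ∣ Nat.card X)
    (hfix : ∀ x ∈ X, f * x = x * f → σ * x = x * σ → x = 1) :
    Group.IsNilpotent (X ⧸ Cfsg.fittingSubgroup X) := by
  by_contra hnil
  set F := Cfsg.fittingSubgroup X with hF
  have hpp : p.Prime := Fact.out
  have hqq : q.Prime := Fact.out
  obtain ⟨s, t, hs, ht, hst, x₁, hx₁, y₁, ⟨k₁, hy₁⟩, hxy₁⟩ := exists_noncomm_core hnil
  haveI := Fact.mk hs
  haveI := Fact.mk ht
  set A := zpowers f ⊔ zpowers σ with hA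
  have hfA : f ∈ A := mem_sup_left (mem_zpowers f)
  have hσA : σ ∈ A := mem_sup_right (mem_zpowers σ)
  have hAcard : Nat.card A = p * q := by
    rw [hA, Cfsg.Lib.Coprime.card_sup_coprime (zpowers_le.2 (zpowers_conj rel))
      (by rw [Nat.card_zpowers, Nat.card_zpowers, hf, hσ]; exact (Nat.coprime_primes hpp hqq).2 hpq),
      Nat.card_zpowers, Nat.card_zpowers, hf, hσ]
  have hcop : ∀ {K : Subgroup Γ}, K ≤ X → (Nat.card A).Coprime (Nat.card K) := fun {K} hK => by
    rw [hAcard]
    exact Nat.Coprime.coprime_dvd_right (Subgroup.card_dvd_of_le hK)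
      ((hpp.coprime_iff_not_dvd.2 hp).mul_left (hqq.coprime_iff_not_dvd.2 hq))
  have hsolX : ∀ {K : Subgroup Γ}, K ≤ X → Group.IsSolvable K := fun {K} hK =>
    Group.isSolvable_of_isSolvable_injective (f := Subgroup.inclusion hK) (Subgroup.inclusion_injective hK)
  -- the preimage of the core
  set mk := QuotientGroup.mk' F with hmk
  have hmks : Function.Surjective mk := QuotientGroup.mk'_surjective F
  set N := (Cfsg.pCore s (X ⧸ F)).comap mk with hN
  haveI hNchar : N.Characteristic := Subgroup.Characteristic.comap_quotient_mk inferInstance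
  set N' := N.map X.subtype with hN'
  have hN'X : N' ≤ X := Subgroup.map_subtype_le _
  obtain ⟨P, hP⟩ := Cfsg.Lib.Coprime.exists_invariant_sylow (A := A) (K := N') (fun g _ => map_char_normal N g)
    (hcop hN'X) (Or.inr (hsolX hN'X)) s
  set S := (P : Subgroup N').map N'.subtype with hS
  have hSN : S ≤ N' := Subgroup.map_subtype_le _
  have hSX : S ≤ X := hSN.trans hN'X
  set L := X ⊓ normalizer (S : Set Γ) with hL
  have hLX : L ≤ X := inf_le_left
  obtain ⟨R, hR⟩ := Cfsg.Lib.Coprime.exists_invariant_sylow (A := A) (K := L)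
    (Cfsg.Lib.Coprime.le_normalizer_inf Subgroup.le_normalizer_of_normal (hP.trans le_normalizer))
    (hcop hLX) (Or.inr (hsolX hLX)) t
  set T := (R : Subgroup L).map L.subtype with hT
  have hTL : T ≤ L := Subgroup.map_subtype_le _
  -- the images in the quotient
  have hNeq : N' ≤ S ⊔ F.map X.subtype := by
    have hFN : F ≤ N := fun z hz => by
      rw [hN, Subgroup.mem_comap, hmk, QuotientGroup.mk'_apply, (QuotientGroup.eq_one_iff z).2 hz]
      exact one_mem _
    have hF'N : F.map X.subtype ≤ N' := Subgroup.map_mono hFN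
    haveI : ((F.map X.subtype).subgroupOf N').Normal :=
      Subgroup.normal_subgroupOf_of_le_normalizer fun g _ => map_char_normal F g
    have htop : (P : Subgroup N') ⊔ (F.map X.subtype).subgroupOf N' = ⊤ := by
      rw [← Subgroup.index_eq_one]
      refine Nat.eq_one_of_dvd_coprimes ?_ (Subgroup.index_dvd_of_le le_sup_left)
        (Subgroup.index_dvd_of_le le_sup_right)
      obtain ⟨k, hk⟩ : ∃ k, (F.map X.subtype).relIndex N' = s ^ k := by
        have e1 : (F.map X.subtype).relIndex N' = F.relIndex N := by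
          rw [hN', Subgroup.relIndex_map_map_of_injective _ _ X.subtype_injective]
        have e2 : F.relIndex N = (⊥ : Subgroup (X ⧸ F)).relIndex (Cfsg.pCore s (X ⧸ F)) := by
          have := Subgroup.relIndex_comap (⊥ : Subgroup (X ⧸ F)) mk N
          rw [MonoidHom.comap_bot, QuotientGroup.ker_mk', hN, Subgroup.map_comap_eq_self_of_surjective hmks] at this
          exact this
        obtain ⟨k, hk⟩ := IsPGroup.iff_card.1 (Cfsg.Lib.Components.isPGroup_pCore (G := X ⧸ F) s)
        exact ⟨k, by rw [e1, e2, Subgroup.relIndex_bot_left, hk]⟩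
      rw [← Subgroup.relIndex, hk]
      exact ((hs.coprime_iff_not_dvd.2 P.not_dvd_index).pow_left k).symm
    intro z hz
    have hz' : (⟨z, hz⟩ : N') ∈ (P : Subgroup N') ⊔ (F.map X.subtype).subgroupOf N' := htop ▸ Subgroup.mem_top _
    have h5 := Subgroup.mem_map_of_mem N'.subtype hz'
    rw [Subgroup.map_sup, Subgroup.map_subgroupOf_eq_of_le hF'N] at h5
    exact h5
  have hFn : S ≤ normalizer (F.map X.subtype : Set Γ) := fun g _ => map_char_normal F g
  let πL : L →* X ⧸ F := mk.comp (Subgroup.inclusion hLX)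
  have hπL : Function.Surjective πL := by
    intro b
    obtain ⟨a, rfl⟩ := hmks b
    have haN : (a : Γ) ∈ normalizer (N' : Set Γ) := map_char_normal N a
    -- Frattini argument
    have hle : Cfsg.Lib.Coprime.conjMap (a : Γ) S ≤ N' := by
      have := Cfsg.Lib.Coprime.conjMap_mono (g := (a : Γ)) hSN
      rwa [Cfsg.Lib.Coprime.conjMap_eq_self haN] at this
    obtain ⟨n, hn⟩ := MulAction.exists_smul_eq N' P
      (Sylow.ofCard ((Cfsg.Lib.Coprime.conjMap (a : Γ) S).subgroupOf N') (by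
        rw [Nat.card_congr (Subgroup.subgroupOfEquivOfLe hle).toEquiv, Cfsg.Lib.Coprime.card_conjMap, hS,
          Subgroup.card_map_of_injective N'.subtype_injective, P.card_eq_multiplicity]))
    have h2 : Cfsg.Lib.Coprime.conjMap (n : Γ) S = Cfsg.Lib.Coprime.conjMap (a : Γ) S := by
      rw [hS, ← Cfsg.Lib.Coprime.map_subtype_smul, hn, Sylow.coe_ofCard, Subgroup.map_subgroupOf_eq_of_le hle]
    have h3 : (n : Γ)⁻¹ * a ∈ L := by
      refine ⟨X.mul_mem (X.inv_mem (hN'X n.2)) a.2, ?_⟩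
      show (n : Γ)⁻¹ * a ∈ normalizer (S : Set Γ)
      rw [← Cfsg.Lib.Coprime.conjMap_eq_self_iff, ← Cfsg.Lib.Coprime.conjMap_mul, ← h2,
        Cfsg.Lib.Coprime.conjMap_inv_conjMap]
    obtain ⟨c, hc, d, hd, hcd⟩ : ∃ c ∈ F.map X.subtype, ∃ d ∈ S, c * d = (n : Γ) :=
      (Cfsg.Lib.Coprime.mem_sup_of_le_normalizer hFn).1 (by rw [sup_comm]; exact hNeq n.2)
    obtain ⟨c', hc', rfl⟩ := hc
    have hdL : d ∈ L := ⟨hSX hd, le_normalizer hd⟩
    refine ⟨⟨d * ((n : Γ)⁻¹ * a), L.mul_mem hdL h3⟩, ?_⟩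
    show mk ⟨d * ((n : Γ)⁻¹ * a), _⟩ = mk a
    refine QuotientGroup.eq.2 ?_
    have e : (⟨d * ((n : Γ)⁻¹ * a), hLX (L.mul_mem hdL h3)⟩ : X)⁻¹ * a = a⁻¹ * c' * a := by
      refine Subtype.ext ?_
      simp only [Subgroup.coe_mul, Subgroup.coe_inv]
      rw [← hcd, Subgroup.coe_subtype]
      group
    rw [e]
    simpa using (inferInstance : F.Normal).conj_mem c' hc' a⁻¹
  -- non-commuting elements of `S` and `T`
  obtain ⟨Y, hY⟩ : ∃ Y : Sylow t (X ⧸ F), zpowers y₁ ≤ (Y : Subgroup (X ⧸ F)) := by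
    refine IsPGroup.exists_le_sylow (fun w => ?_)
    obtain ⟨j, hj⟩ := Subgroup.mem_zpowers_iff.1 w.2
    exact ⟨k₁, Subtype.ext (by rw [Subgroup.coe_pow, ← hj, ← zpow_natCast, ← zpow_mul, mul_comm, zpow_mul,
      zpow_natCast, hy₁, one_zpow, Subgroup.coe_one])⟩
  obtain ⟨c, hc⟩ := MulAction.exists_smul_eq (X ⧸ F) Y (R.mapSurjective hπL)
  set x₂ := c * x₁ * c⁻¹ with hx₂def
  set y₂ := c * y₁ * c⁻¹ with hy₂def
  have hx₂ : x₂ ∈ Cfsg.pCore s (X ⧸ F) := (inferInstance : (Cfsg.pCore s (X ⧸ F)).Normal).conj_mem _ hx₁ c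
  have hy₂ : y₂ ∈ (R : Subgroup L).map πL := by
    have h := Subgroup.smul_mem_pointwise_smul y₁ (MulAut.conj c) _ (hY (mem_zpowers y₁))
    show y₂ ∈ ((R.mapSurjective hπL : Sylow t (X ⧸ F)) : Subgroup (X ⧸ F))
    rw [← hc]
    exact h
  obtain ⟨y', hy', hye⟩ := hy₂
  obtain ⟨x', hx'⟩ := hmks x₂
  have hx'N : x' ∈ N := by rw [hN, Subgroup.mem_comap, hx']; exact hx₂
  obtain ⟨w, hw, x, hxS, hwx⟩ : ∃ w ∈ F.map X.subtype, ∃ x ∈ S, w * x = (x' : Γ) :=
    (Cfsg.Lib.Coprime.mem_sup_of_le_normalizer hFn).1 (by rw [sup_comm]; exact hNeq ⟨x', hx'N, rfl⟩)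
  obtain ⟨w', hw', rfl⟩ := hw
  set y : Γ := (y' : Γ) with hy
  have hyT : y ∈ T := ⟨y', hy', rfl⟩
  have hyS : y ∈ normalizer (S : Set Γ) := y'.2.2
  set z := x⁻¹ * (y * x * y⁻¹) with hz
  have hzS : z ∈ S := S.mul_mem (S.inv_mem hxS) ((Subgroup.mem_normalizer_iff.1 hyS x).1 hxS)
  set z₀ : X := ⟨z, hSX hzS⟩ with hz₀
  have hmkx : mk ⟨x, hSX hxS⟩ = x₂ := by
    rw [← hx', show x' = w' * ⟨x, hSX hxS⟩ from Subtype.ext hwx.symm, map_mul,
      show mk w' = 1 from (QuotientGroup.eq_one_iff w').2 hw', one_mul]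
  have hmkz : mk z₀ = x₂⁻¹ * (y₂ * x₂ * y₂⁻¹) := by
    have e : z₀ = (⟨x, hSX hxS⟩ : X)⁻¹ * (Subgroup.inclusion hLX y' * ⟨x, hSX hxS⟩ * (Subgroup.inclusion hLX y')⁻¹) :=
      Subtype.ext rfl
    rw [e, map_mul, map_mul, map_mul, map_inv, map_inv, hmkx, show mk (Subgroup.inclusion hLX y') = y₂ from hye]
  have hz₀F : z₀ ∉ F := by
    intro h
    apply hxy₁
    have h2 := hmkz.symm.trans ((QuotientGroup.eq_one_iff z₀).2 h)
    rw [inv_mul_eq_one, eq_mul_inv_iff_mul_eq, hx₂def, hy₂def] at h2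
    calc y₁ * x₁ = c⁻¹ * (c * y₁ * c⁻¹ * (c * x₁ * c⁻¹)) * c := by group
      _ = c⁻¹ * (c * x₁ * c⁻¹ * (c * y₁ * c⁻¹)) * c := by rw [← h2]
      _ = x₁ * y₁ := by group
  -- `z` acts non-trivially on a core of the Fitting subgroup
  obtain ⟨r, hr, hrs, k, hk, hzk⟩ : ∃ r : ℕ, r.Prime ∧ r ≠ s ∧ ∃ k ∈ Cfsg.pCore r X, k * z₀ ≠ z₀ * k := by
    by_contra hcon
    push Not at hcon
    set M : Subgroup X := N ⊓ ⨅ r : {r : ℕ // r.Prime ∧ r ≠ s}, centralizer (Cfsg.pCore r.1 X : Set X) with hM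
    haveI : M.Normal := by
      haveI : (⨅ r : {r : ℕ // r.Prime ∧ r ≠ s}, centralizer (Cfsg.pCore r.1 X : Set X)).Normal :=
        Subgroup.normal_iInf_normal fun r => inferInstance
      rw [hM]; infer_instance
    have hz₀M : z₀ ∈ M := by
      refine ⟨?_, Subgroup.mem_iInf.2 fun r => Subgroup.mem_centralizer_iff.2 fun k hk => hcon r.1 r.2.1 r.2.2 k hk⟩
      show mk z₀ ∈ Cfsg.pCore s (X ⧸ F)
      rw [hmkz]
      exact mul_mem (inv_mem hx₂) ((inferInstance : (Cfsg.pCore s (X ⧸ F)).Normal).conj_mem _ hx₂ y₂)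
    have hcen : ∀ (r : ℕ) [Fact r.Prime], r ≠ s → ∀ R₂ : Sylow r M, (R₂ : Subgroup M) ≤ center M := by
      intro r hr hrs R₂ a ha
      have hRF : (R₂ : Subgroup M).map M.subtype ≤ F := by
        rintro _ ⟨b, hb, rfl⟩
        rw [← QuotientGroup.eq_one_iff]
        obtain ⟨i, hi⟩ := R₂.isPGroup' ⟨b, hb⟩
        have hi' : (b : X) ^ r ^ i = 1 := congrArg (fun u : (R₂ : Subgroup M) => ((u : M) : X)) hi
        obtain ⟨j, hj⟩ := Cfsg.Lib.Components.isPGroup_pCore (G := X ⧸ F) s ⟨mk b, Subgroup.mem_comap.1 b.2.1⟩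
        have hj' : (mk (b : X)) ^ s ^ j = 1 := congrArg Subtype.val hj
        exact orderOf_eq_one_iff.1 (Nat.eq_one_of_dvd_coprimes
          ((((Nat.coprime_primes hr.out hs).2 hrs).pow_left i).pow_right j)
          (orderOf_dvd_of_pow_eq_one (by rw [← QuotientGroup.mk_pow, show (M.subtype b) ^ r ^ i = 1 from hi']; rfl))
          (orderOf_dvd_of_pow_eq_one hj'))
      have hRc : (R₂ : Subgroup M).map M.subtype ≤ Cfsg.pCore r X :=
        Cfsg.Lib.Misc.BenderPair.le_pCore_of_le_fitting hRF (R₂.isPGroup'.map _)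
      rw [Subgroup.mem_center_iff]
      intro b
      exact Subtype.ext (Subgroup.mem_centralizer_iff.1 ((Subgroup.mem_iInf.1 b.2.2) ⟨r, hr.out, hrs⟩) _
        (hRc ⟨a, ha, rfl⟩)).symm
    have hMnil : Group.IsNilpotent M := by
      refine ((Group.isNilpotent_of_finite_tfae (G := M)).out 0 3).2 ?_
      intro r hr R₂
      by_cases hrs : r = s
      · subst hrs
        have htop : (R₂ : Subgroup M) ⊔ center M = ⊤ := by
          rw [← Subgroup.index_eq_one]
          by_contra hne
          obtain ⟨l, hl, hld⟩ := Nat.exists_prime_and_dvd hne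
          haveI := Fact.mk hl
          by_cases hlr : l = r
          · subst hlr
            exact R₂.not_dvd_index (hld.trans (Subgroup.index_dvd_of_le le_sup_left))
          · exact (default : Sylow l M).not_dvd_index
              (hld.trans (Subgroup.index_dvd_of_le ((hcen l hlr default).trans le_sup_right)))
        refine Subgroup.normalizer_eq_top_iff.1 (eq_top_iff.2 ?_)
        rw [← htop]
        exact sup_le le_normalizer fun a ha => Subgroup.mem_normalizer_iff.2 fun b => by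
          rw [← Subgroup.mem_center_iff.1 ha b, mul_inv_cancel_right]
      · exact ⟨fun a ha g => by rwa [Subgroup.mem_center_iff.1 (hcen r hrs R₂ ha) g, mul_inv_cancel_right]⟩
    exact hz₀F (hF ▸ Cfsg.Lib.Components.le_fitting hMnil hz₀M)
  haveI := Fact.mk hr
  -- the module
  set R₀ := (Cfsg.pCore r X).map X.subtype with hR₀
  have hR₀X : R₀ ≤ X := Subgroup.map_subtype_le _
  haveI : R₀.Normal := ⟨fun a ha g => (Subgroup.mem_normalizer_iff.1 (map_char_normal _ g) a).1 ha⟩
  have hR₀p : IsPGroup r R₀ := (Cfsg.Lib.Components.isPGroup_pCore r).map _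
  set D := (frattini R₀).map R₀.subtype with hD
  have hDR : D ≤ R₀ := Subgroup.map_subtype_le _
  haveI : D.Normal := ⟨fun a ha g => (Subgroup.mem_normalizer_iff.1 (map_char_normal _ g) a).1 ha⟩
  have hDe : D.subgroupOf R₀ = frattini R₀ := Subgroup.comap_map_eq_self_of_injective R₀.subtype_injective _
  haveI : (D.subgroupOf R₀).Normal := inferInstance
  letI : CommGroup (R₀ ⧸ D.subgroupOf R₀) :=
    { (inferInstance : Group (R₀ ⧸ D.subgroupOf R₀)) with
      mul_comm := fun a b => by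
        obtain ⟨a, rfl⟩ := QuotientGroup.mk_surjective a
        obtain ⟨b, rfl⟩ := QuotientGroup.mk_surjective b
        rw [← QuotientGroup.mk_mul, ← QuotientGroup.mk_mul, QuotientGroup.eq, hDe,
          show (a * b)⁻¹ * (b * a) = ⁅b⁻¹, a⁻¹⁆ by rw [commutatorElement_def]; group]
        exact Cfsg.Lib.PGroups.commutator_le_frattini hR₀p
          (Subgroup.commutator_mem_commutator (mem_top b⁻¹) (mem_top a⁻¹)) }
  have hexp : ∀ m : R₀ ⧸ D.subgroupOf R₀, m ^ r = 1 := fun m => by
    obtain ⟨u, rfl⟩ := QuotientGroup.mk_surjective m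
    rw [← QuotientGroup.mk_pow, QuotientGroup.eq_one_iff, hDe]
    exact Cfsg.Lib.PGroups.pow_mem_frattini hR₀p u
  let E := Additive (R₀ ⧸ D.subgroupOf R₀)
  haveI : Module (ZMod r) E := AddCommGroup.zmodModule (fun x : E => hexp (Additive.toMul x))
  have hnR : (⊤ : Subgroup Γ) ≤ normalizer (R₀ : Set Γ) := Subgroup.le_normalizer_of_normal
  have hnD : (⊤ : Subgroup Γ) ≤ normalizer (D : Set Γ) := Subgroup.le_normalizer_of_normal
  let ψ : Γ →* MulAut (R₀ ⧸ D.subgroupOf R₀) :=
    (quotAct hnR hnD).comp (Subgroup.topEquiv (G := Γ)).symm.toMonoidHom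
  have hψ : ∀ (g : Γ) (u : R₀), ψ g (QuotientGroup.mk u) = QuotientGroup.mk u ↔
      (u : Γ)⁻¹ * (g * u * g⁻¹) ∈ D := fun g u => quotAct_fixed_iff hnR hnD ⟨g, mem_top g⟩ u
  let toEnd : MulAut (R₀ ⧸ D.subgroupOf R₀) →* Module.End (ZMod r) E :=
    { toFun := fun a => AddMonoidHom.toZModLinearMap r (MonoidHom.toAdditive a.toMonoidHom)
      map_one' := LinearMap.ext fun m => rfl
      map_mul' := fun a b => LinearMap.ext fun m => rfl }
  let ρE := toEnd.comp ψ
  have hρE : ∀ (g : Γ) (u : R₀), ρE g (Additive.ofMul (QuotientGroup.mk u)) = Additive.ofMul (QuotientGroup.mk u) ↔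
      (u : Γ)⁻¹ * (g * u * g⁻¹) ∈ D := fun g u => (Additive.ofMul.injective.eq_iff).trans (hψ g u)
  let K := AlgebraicClosure (ZMod r)
  let ρ : Γ →* Module.End K (K ⊗[ZMod r] E) := (Module.End.baseChangeHom (ZMod r) K E).toMonoidHom.comp ρE
  have hρ : ∀ g, ρ g = (ρE g).baseChange K := fun g => rfl
  have hDX : D ≤ X := hDR.trans hR₀X
  have hnn : ∀ g : Γ, g ∈ normalizer (D : Set Γ) := fun g => hnD (mem_top g)
  have hJ : ∀ v : E, ρE f v = v → ρE σ v = v → v = 0 := by
    intro v h1 h2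
    obtain ⟨m, rfl⟩ := Additive.ofMul.surjective v
    obtain ⟨u, rfl⟩ := QuotientGroup.mk_surjective m
    obtain ⟨d, hd, h3, h4⟩ := lift_two hf hσ rel (hnn f) (hnn σ)
      (fun h => hp (h.trans (Subgroup.card_dvd_of_le hDX))) (fun h => hq (h.trans (Subgroup.card_dvd_of_le hDX)))
      ((hρE f u).1 h1) ((hρE σ u).1 h2) (hnn u)
    have h5 := hfix _ (X.mul_mem (hR₀X u.2) (hDX hd)) h3 h4
    rw [ofMul_eq_zero, QuotientGroup.eq_one_iff, Subgroup.mem_subgroupOf, eq_inv_of_mul_eq_one_left h5]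
    exact D.inv_mem hd
  have hfixV : ∀ v, ρ f v = v → ρ σ v = v → v = 0 := by
    intro v h1 h2
    let A₁ : E →ₗ[ZMod r] E := ρE f - 1
    let B₁ : E →ₗ[ZMod r] E := ρE σ - 1
    let J := (LinearMap.inl (ZMod r) E E).comp A₁ + (LinearMap.inr (ZMod r) E E).comp B₁
    have hker : LinearMap.ker J = ⊥ := by
      rw [LinearMap.ker_eq_bot']
      intro w hw
      have e1 : ρE f w - w = 0 := by simpa [J, A₁, B₁] using congrArg Prod.fst hw
      have e2 : ρE σ w - w = 0 := by simpa [J, A₁, B₁] using congrArg Prod.snd hw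
      exact hJ w (sub_eq_zero.1 e1) (sub_eq_zero.1 e2)
    obtain ⟨g, hg⟩ := J.exists_leftInverse_of_injective hker
    have e := congrArg (fun φ : E →ₗ[ZMod r] E => φ.baseChange K v) hg
    simp only [LinearMap.baseChange_comp, LinearMap.baseChange_id, LinearMap.comp_apply, LinearMap.id_apply] at e
    rw [← e]
    have hone : ((1 : Module.End (ZMod r) E).baseChange K) v = v := by
      rw [Module.End.one_eq_id, LinearMap.baseChange_id]; rfl
    have hA₁ : A₁.baseChange K v = 0 := by
      show (ρE f - 1).baseChange K v = 0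
      rw [LinearMap.baseChange_sub, LinearMap.sub_apply, ← hρ, h1, hone, sub_self]
    have hB₁ : B₁.baseChange K v = 0 := by
      show (ρE σ - 1).baseChange K v = 0
      rw [LinearMap.baseChange_sub, LinearMap.sub_apply, ← hρ, h2, hone, sub_self]
    show g.baseChange K (J.baseChange K v) = 0
    simp only [J, LinearMap.baseChange_add, LinearMap.add_apply, LinearMap.baseChange_comp, LinearMap.comp_apply,
      hA₁, hB₁, map_zero, add_zero]
  have hρz : ρ z ≠ 1 := by
    intro h
    have h0 : ρE z = 1 := by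
      refine LinearMap.ext fun e => ?_
      have hinj : LinearMap.ker (Algebra.linearMap (ZMod r) K) = ⊥ :=
        LinearMap.ker_eq_bot.2 (algebraMap (ZMod r) K).injective
      obtain ⟨l, hl⟩ := (Algebra.linearMap (ZMod r) K).exists_leftInverse_of_injective hinj
      have hl1 : l 1 = 1 := by simpa using LinearMap.congr_fun hl 1
      have h1 : (1 : K) ⊗ₜ[ZMod r] (ρE z e) = (1 : K) ⊗ₜ[ZMod r] e := by
        rw [← LinearMap.baseChange_tmul, ← hρ, h]; rfl
      have h2 := congrArg (fun w => TensorProduct.lid (ZMod r) E (l.rTensor E w)) h1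
      simpa [hl1] using h2
    -- trivial action modulo the Frattini subgroup
    have hzc : zpowers z ≤ centralizer (R₀ : Set Γ) := by
      refine Cfsg.Lib.Coprime.le_centralizer_of_frattini (fun g _ => hnR (mem_top g)) ?_ ?_
      · rw [Nat.card_zpowers]
        obtain ⟨i, hi⟩ := (P.isPGroup'.map N'.subtype) ⟨z, hzS⟩
        obtain ⟨j, hj⟩ := IsPGroup.iff_card.1 (hR₀p.to_subgroup (frattini R₀))
        rw [hj]
        exact ((((Nat.coprime_primes hs hr).2 hrs.symm).pow_left i).pow_right j).coprime_dvd_left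
          (orderOf_dvd_of_pow_eq_one (congrArg Subtype.val hi))
      · intro a ha k hk
        obtain ⟨j, rfl⟩ := Subgroup.mem_zpowers_iff.1 ha
        have hψz : ψ z = 1 := MulEquiv.ext fun m =>
          Additive.ofMul.injective (LinearMap.congr_fun h0 (Additive.ofMul m))
        have h3 := (hψ (z ^ j) ⟨k, hk⟩).1 (by rw [map_zpow, hψz, one_zpow]; rfl)
        have h4 := (inferInstance : D.Normal).conj_mem _ h3 k
        simp only [mul_assoc, mul_inv_cancel_left] at h4 ⊢
        exact h4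
    apply hzk
    exact Subtype.ext (Subgroup.mem_centralizer_iff.1 (hzc (mem_zpowers z)) _ ⟨k, hk, rfl⟩)
  haveI : CharP K r := charP_of_injective_algebraMap (algebraMap (ZMod r) K).injective r
  have hK : ∀ {l : ℕ}, l.Prime → l ≠ r → (l : K) ≠ 0 := fun {l} hl hlr h =>
    hlr ((Nat.prime_dvd_prime_iff_eq hr hl).1 ((CharP.cast_eq_zero_iff K r l).1 h)).symm
  have hdvd : ∀ {l : ℕ} [Fact l.Prime] {H : Subgroup Γ}, H ≤ X → IsPGroup l H → ∀ u ∈ H, u ≠ 1 → l ∣ Nat.card X :=
    fun {l} _ {H} hH hHp u hu hu1 => by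
      rcases hHp.card_eq_or_dvd with h | h
      · exact absurd (Subgroup.mem_bot.1 ((Subgroup.card_eq_one.1 h) ▸ hu)) hu1
      · exact h.trans (Subgroup.card_dvd_of_le hH)
  have hSp : IsPGroup s S := P.isPGroup'.map _
  have hTp : IsPGroup t T := R.isPGroup'.map _
  have hz1 : z ≠ 1 := fun h => hz₀F (by rw [show z₀ = 1 from Subtype.ext h]; exact one_mem _)
  have hy1 : y ≠ 1 := fun h => hz1 (by rw [hz, h]; group)
  have hsd := hdvd hSX hSp z hzS hz1
  have htd := hdvd (hTL.trans hLX) hTp y hyT hy1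
  have hk1 : (k : Γ) ≠ 1 := fun h => hzk (by rw [show k = 1 from Subtype.ext h, one_mul, mul_one])
  have hrd := hdvd hR₀X hR₀p k ⟨k, hk, rfl⟩ hk1
  haveI : Module.Finite (ZMod r) E := Module.Finite.of_finite
  exact no_config (p := p) (q := q) (s := s) (t := t) _ Γ (K ⊗[ZMod r] E) ρ S T f σ le_rfl
    { hS := hSp
      hT := hTp
      TS := hTL.trans inf_le_right
      fS := hP hfA
      σS := hP hσA
      fT := hR hfA
      σT := hR hσA
      ordf := hf
      ordσ := hσ
      rel := rel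
      ncomm := hnc
      st := hst
      sp := fun h => hp (h ▸ hsd)
      sq := fun h => hq (h ▸ hsd)
      tp := fun h => hp (h ▸ htd)
      tq := fun h => hq (h ▸ htd)
      sK := hK hs hrs.symm
      pK := hK hpp fun h => hp (h ▸ hrd)
      qK := hK hqq fun h => hq (h ▸ hrd)
      fixS := fun u hu => hfix u (hSX hu)
      fixT := fun u hu => hfix u (hLX (hTL hu))
      fixV := hfixV
      ne := ⟨x, hxS, y, hyT, hρz⟩ }

end Cfsg.Lib.SolvStruct.PQHeight
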